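import Cfsg.Agent.KFacts.Baby.Inst

/-!
# S3876: the orbit of `2`-central involutions in `2^{1+22}` (helper861)

`C = 2^{1+22}.Co₂` acts on `B 11 × B 11 = Q/Z`. The orbit of the class `c₀` of `z'` has `46575` elements.
-/

set_option autoImplicit false
set_option maxRecDepth 100000

namespace Cfsg.Agent.H861.PiS.BabyOrb

open Cfsg
open Cfsg.Agent.Monster Cfsg.Agent.Monster.VecEngine Cfsg.Agent.Monster.VecSpace
open Cfsg.Agent.Monster.PauliBasic Cfsg.Agent.Monster.PauliRep Cfsg.Agent.Monster.PauliClif Cfsg.Agent.Monster.PauliBits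
open Cfsg.Agent.BabyM Cfsg.Agent.BabyM.QAct Cfsg.Agent.BabyM.Model Cfsg.Agent.BabyM.Conc Cfsg.Agent.BabyM.KTab
open Cfsg.Agent.BabyM.KRow Cfsg.Agent.BabyM.KQ Cfsg.Agent.BabyM.KRowData Cfsg.Agent.BabyM.QIrrInst
open Cfsg.Agent.BabyU.Clos Cfsg.Agent.BabyU.ClosLaneTab Cfsg.Agent.BabyU.ClosLane
open Cfsg.Agent.KFacts.Baby.Inst (form_zero form_of)

/-! ### Counting -/

/-- number of `i ∈ [a, a + 2^n)` with `p i` -/
noncomputable def cnt (n : ℕ) (p : ℕ → Bool) : ℕ → ℕ :=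
  Nat.rec (motive := fun _ => ℕ → ℕ) (fun a => Bool.rec 0 1 (p a)) (fun n ih a => Nat.add (ih a) (ih (Nat.add a (Nat.pow 2 n)))) n

theorem cnt_eq (n : ℕ) (p : ℕ → Bool) (a : ℕ) :
    cnt n p a = ((Finset.Ico a (a + 2 ^ n)).filter fun i => p i = true).card := by
  induction n generalizing a with
  | zero =>
    have h1 : Finset.Ico a (a + 2 ^ 0) = {a} := by
      ext x
      rw [Finset.mem_Ico, Finset.mem_singleton, pow_zero]
      omega
    rw [h1]
    show (Bool.rec 0 1 (p a) : ℕ) = _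
    cases h : p a with
    | false =>
      rw [Finset.filter_singleton, if_neg (by rw [h]; decide)]
      rfl
    | true =>
      rw [Finset.filter_singleton, if_pos h]
      rfl
  | succ n ih =>
    have h1 : Finset.Ico a (a + 2 ^ (n + 1)) = Finset.Ico a (a + 2 ^ n) ∪ Finset.Ico (a + 2 ^ n) (a + 2 ^ n + 2 ^ n) := by
      ext x
      rw [Finset.mem_union, Finset.mem_Ico, Finset.mem_Ico, Finset.mem_Ico, pow_succ]
      omega
    have h2 : Disjoint (Finset.Ico a (a + 2 ^ n)) (Finset.Ico (a + 2 ^ n) (a + 2 ^ n + 2 ^ n)) := by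
      rw [Finset.disjoint_left]
      intro x
      rw [Finset.mem_Ico, Finset.mem_Ico]
      omega
    rw [h1, Finset.filter_union, Finset.card_union_of_disjoint (Finset.disjoint_filter_filter h2), ← ih, ← ih]
    rfl

/-- the classes of the lanes with a property -/
def AA (q : ℕ → Bool) : Set (B 11 × B 11) := {p | ∃ i : Lane U, Cd.isX i ∧ q (cd i.1) = true ∧ p = v (cd i.1)}

/-- the mask of the lanes -/
noncomputable def mX (i : ℕ) : Bool := and (tb U i) (not (Nat.beq (cd i) 0))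

theorem mX_iff {i : ℕ} (hi : i < 4096) : mX i = true ↔ ∃ h : U.testBit i = true, Cd.isX ⟨i, h⟩ := by
  unfold mX
  rw [Bool.and_eq_true, tb_eq, Bool.not_eq_true', ← Bool.not_eq_true, Nat.beq_eq]
  constructor
  · rintro ⟨h1, h2⟩
    exact ⟨h1, isX_iff.2 ⟨hi, h2⟩⟩
  · rintro ⟨h1, h2⟩
    exact ⟨h1, (isX_iff.1 h2).2⟩

theorem ncard_AA (q : ℕ → Bool) : (AA q).ncard = cnt 12 (fun i => and (mX i) (q (cd i))) 0 := by
  classical
  have h1 : AA q = (fun i => v (cd i)) '' (((Finset.Ico 0 (0 + 2 ^ 12)).filter fun i =>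
      (and (mX i) (q (cd i))) = true : Finset ℕ) : Set ℕ) := by
    ext p
    constructor
    · rintro ⟨i, hi, hq, rfl⟩
      refine ⟨i.1, ?_, rfl⟩
      rw [Finset.mem_coe, Finset.mem_filter, Finset.mem_Ico, Bool.and_eq_true]
      have h2 := (isX_iff.1 hi).1
      exact ⟨⟨Nat.zero_le _, by omega⟩, (mX_iff h2).2 ⟨i.2, hi⟩, hq⟩
    · rintro ⟨i, hi, rfl⟩
      rw [Finset.mem_coe, Finset.mem_filter, Finset.mem_Ico, Bool.and_eq_true] at hi
      obtain ⟨⟨-, h2⟩, h3, h4⟩ := hi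
      obtain ⟨h5, h6⟩ := (mX_iff (by omega)).1 h3
      exact ⟨⟨i, h5⟩, h6, h4, rfl⟩
  rw [h1, Set.InjOn.ncard_image, Set.ncard_coe_finset, cnt_eq]
  intro i hi j hj hij
  rw [Finset.mem_coe, Finset.mem_filter, Finset.mem_Ico, Bool.and_eq_true] at hi hj
  obtain ⟨h5, h6⟩ := (mX_iff (by omega)).1 hi.2.1
  obtain ⟨h7, h8⟩ := (mX_iff (by omega)).1 hj.2.1
  exact congrArg Subtype.val (KGood.c_inj ⟨i, h5⟩ ⟨j, h7⟩ h6 h8 hij)

/-- commuting with the base -/
noncomputable def q1 (x : ℕ) : Bool := and (Nat.beq (mulK x 0x75) (mulK 0x75 x)) (not (Nat.beq x 0x75))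

theorem c2300 : cnt 12 (fun i => and (mX i) ((fun _ => true) (cd i))) 0 = 2300 := by decide +kernel

theorem c891 : cnt 12 (fun i => and (mX i) (q1 (cd i))) 0 = 891 := by decide +kernel

/-! ### The action -/

/-- the automorphism of the Pauli group induced by an element of `C` -/
noncomputable def al (c : Inst.M.C) : MulAut (Pauli 11) := (exists_aut c.2).choose

theorem al_spec (c : Inst.M.C) (x : Pauli 11) :
    (c : V ≃ₗ[ℚ] V) * Cd.R x * (c : V ≃ₗ[ℚ] V)⁻¹ = Cd.R (al c x) := (exists_aut c.2).choose_spec.1 x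

theorem al_P (c : Inst.M.C) {x : Pauli 11} (hx : x ∈ PP) : al c x ∈ PP := (exists_aut c.2).choose_spec.2 x hx

theorem al_one (x : Pauli 11) : al 1 x = x := by
  apply Cd.R_injective
  rw [← al_spec]
  show (1 : V ≃ₗ[ℚ] V) * Cd.R x * (1 : V ≃ₗ[ℚ] V)⁻¹ = Cd.R x
  group

theorem al_mul (c d : Inst.M.C) (x : Pauli 11) : al (c * d) x = al c (al d x) := by
  apply Cd.R_injective
  rw [← al_spec, ← al_spec, ← al_spec]
  show (c * d : V ≃ₗ[ℚ] V) * Cd.R x * (c * d : V ≃ₗ[ℚ] V)⁻¹ = _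
  group

/-- `Q/Z` -/
def X : Type := B 11 × B 11

noncomputable instance instAct : MulAction Inst.M.C X where
  smul c p := (ab (al c ⟨0, p.1, p.2⟩) : B 11 × B 11)
  one_smul p := by
    show ab (al 1 ⟨0, p.1, p.2⟩) = p
    rw [al_one]; rfl
  mul_smul c d p := by
    show ab (al (c * d) ⟨0, p.1, p.2⟩) = ab (al c ⟨0, _, _⟩)
    rw [al_mul]
    exact ab_aut_congr _ rfl

/-- the class of an element of the Pauli group -/
def cl' (x : Pauli 11) : X := ab x

theorem cl_eq {x y : Pauli 11} : cl' x = cl' y ↔ ab x = ab y := Iff.rfl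

theorem smul_cl (c : Inst.M.C) (x : Pauli 11) : c • cl' x = cl' (al c x) := by
  show ab (al c ⟨0, (ab x).1, (ab x).2⟩) = ab (al c x)
  exact ab_aut_congr _ rfl

theorem exists_rep (p : X) : ∃ x, cl' x = p := ⟨⟨0, p.1, p.2⟩, rfl⟩

theorem smul_mul (c : Inst.M.C) (x y : Pauli 11) : c • cl' (x * y) = cl' (al c x * al c y) := by
  rw [smul_cl, map_mul]

/-- representatives -/
noncomputable def xa : Pauli 11 := dec 11 0x75
noncomputable def xb : Pauli 11 := dec 11 0x475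
noncomputable def xc : Pauli 11 := dec 11 0x400

theorem ab_abc : ab (xa * xb) = ab xc := by
  show v 0x75 + v 0x475 = v 0x400
  rw [← v_xor]
  rfl

theorem PP_of_ab {x y : Pauli 11} (h : ab x = ab y) (hx : x ∈ PP) : y ∈ PP := by
  obtain ⟨i, hi, e⟩ := hx
  exact ⟨i, hi, h.symm.trans e⟩

theorem xa_P : xa ∈ PP := PP_of_ab v_base base_P

theorem xb_P : xb ∈ PP := t1_P

/-- the orbit of the base: `PP` -/
theorem trans_a {x : Pauli 11} (hx : x ∈ PP) : ∃ c : Inst.M.C, c • cl' xa = cl' x := by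
  obtain ⟨h, hh, e⟩ := exists_C (mem_cls hx) (R_mem_Q x)
  refine ⟨⟨h, hh⟩, ?_⟩
  rw [smul_cl, cl_eq]
  have h1 : ab (al ⟨h, hh⟩ xa) = ab (al ⟨h, hh⟩ (Cd.c Inst.laneB)) := ab_aut_congr _ v_base.symm
  rw [h1]
  congr 1
  apply Cd.R_injective
  rw [← al_spec, ← t₀_R]
  exact e.symm

theorem mem_stab_a {c : Inst.M.C} (h : (c : V ≃ₗ[ℚ] V) * Inst.M.t₀ = Inst.M.t₀ * c) : c • cl' xa = cl' xa := by
  rw [smul_cl, cl_eq]
  have h1 : ab (al c xa) = ab (al c (Cd.c Inst.laneB)) := ab_aut_congr _ v_base.symm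
  rw [h1, show al c (Cd.c Inst.laneB) = Cd.c Inst.laneB from Cd.R_injective (by
    rw [← al_spec, ← t₀_R, h]; group)]
  exact v_base

theorem comm_al {c : Inst.M.C} {x y : Pauli 11} : al c x * al c y = al c y * al c x ↔ x * y = y * x := by
  rw [← map_mul, ← map_mul]
  exact (al c).injective.eq_iff

/-- the orbit of `b` under the stabilizer of `a` -/
theorem trans_b {x : Pauli 11} (hx : x ∈ PP) (hc : x * xa = xa * x) (hne : ab x ≠ ab xa) :
    ∃ c : Inst.M.C, c • cl' xa = cl' xa ∧ c • cl' xb = cl' x := by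
  have hcomm : Cd.R x * Inst.M.t₀ = Inst.M.t₀ * Cd.R x := base_comm hc
  have hne1 : Cd.R x ≠ Inst.M.t₀ := by
    intro h
    rw [t₀_R] at h
    exact hne ((ab_of_R (Or.inl h)).trans v_base)
  have hne2 : Cd.R x ≠ Inst.M.t₀ * Inst.M.z := by
    intro h
    rw [t₀_R] at h
    exact hne ((ab_of_R (Or.inr h)).trans v_base)
  obtain ⟨h, hh, h1, h2, h3⟩ := Cfsg.Agent.BabyU.ClosLane.trans _ (mem_cls hx) (R_mem_Q x) hcomm hne1 hne2
  have hC : h ∈ Inst.M.C := A.cent_z h hh h2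
  have h4 : (⟨h, hC⟩ : Inst.M.C) • cl' x = cl' xb := by
    rw [smul_cl, cl_eq]
    apply ab_of_R
    rw [← al_spec]
    exact h3
  have h5 := mem_stab_a (c := ⟨h, hC⟩) h1
  refine ⟨(⟨h, hC⟩ : Inst.M.C)⁻¹, ?_, ?_⟩
  · rw [inv_smul_eq_iff, h5]
  · rw [inv_smul_eq_iff, h4]

/-! ### The orbits -/

theorem comm_iff' {x y x' y' : Pauli 11} (hx : ab x = ab x') (hy : ab y = ab y') :
    x * y = y * x ↔ x' * y' = y' * x' := ⟨comm_congr hx hy, comm_congr hx.symm hy.symm⟩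

theorem orbit_a : (MulAction.orbit Inst.M.C (cl' xa) : Set X) = AA fun _ => true := by
  ext p
  constructor
  · rintro ⟨c, rfl⟩
    obtain ⟨i, hi, e⟩ := al_P c xa_P
    exact ⟨i, hi, rfl, (smul_cl c xa).trans e⟩
  · rintro ⟨i, hi, -, rfl⟩
    obtain ⟨c, hc⟩ := trans_a (x := Cd.c i) ⟨i, hi, rfl⟩
    exact ⟨c, hc⟩

/-- each code commutes or anticommutes visibly with the base -/
noncomputable def q2 (x : ℕ) : Bool :=
  or (Nat.beq (mulK x 0x75) (mulK 0x75 x)) (Nat.beq (Nat.xor (mulK x 0x75) 0x400000) (mulK 0x75 x))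

theorem chk2 : allN 12 (fun i => Bool.rec (q2 (cd i)) true (Nat.beq (cd i) 0)) 0 = true := by decide +kernel

theorem comm_iff_q {i : Lane U} (hi : Cd.isX i) :
    Nat.beq (mulK (cd i.1) 0x75) (mulK 0x75 (cd i.1)) = true ↔ dec 11 (cd i.1) * xa = xa * dec 11 (cd i.1) := by
  constructor
  · intro h
    exact (Pauli.commute_iff _ _).2 (form_zero h)
  · intro h
    have h1 := lane_spec chk2 hi
    unfold q2 at h1
    rw [Bool.or_eq_true] at h1
    rcases h1 with h1 | h1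
    · exact h1
    · exact absurd ((Pauli.commute_iff _ _).1 h) (Cfsg.Agent.KFacts.Baby.Inst.form_one h1)

theorem commba : xb * xa = xa * xb := comm_1

theorem ne_ba : ab xb ≠ ab xa := by
  have h := t1_ab
  rw [ab_base] at h
  exact h

theorem orbit_b : (MulAction.orbit (MulAction.stabilizer Inst.M.C (cl' xa)) (cl' xb) : Set X) = AA q1 := by
  ext p
  constructor
  · rintro ⟨⟨c, hc⟩, rfl⟩
    have hc' : c • cl' xa = cl' xa := hc
    obtain ⟨i, hi, e⟩ := al_P c xb_P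
    have e' : ab (al c xb) = v (cd i.1) := e
    refine ⟨i, hi, ?_, (smul_cl c xb).trans e⟩
    unfold q1
    rw [Bool.and_eq_true, comm_iff_q hi]
    rw [smul_cl, cl_eq] at hc'
    constructor
    · have h1 : al c xb * al c xa = al c xa * al c xb := comm_al.2 commba
      exact comm_congr e' hc' h1
    · rw [Bool.not_eq_true', ← Bool.not_eq_true, Nat.beq_eq]
      intro h2
      rw [h2] at e'
      have h3 : ab (al c xb) = ab (al c xa) := e'.trans hc'.symm
      exact ne_ba (ab_of_aut (al c) h3)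
  · rintro ⟨i, hi, hq, rfl⟩
    unfold q1 at hq
    rw [Bool.and_eq_true, comm_iff_q hi, Bool.not_eq_true', ← Bool.not_eq_true, Nat.beq_eq] at hq
    obtain ⟨h1, h2⟩ := hq
    obtain ⟨c, hc1, hc2⟩ := trans_b (x := dec 11 (cd i.1)) ⟨i, hi, rfl⟩ h1 (fun h => h2 (v_inj (cd_lt _) (by norm_num) h))
    exact ⟨⟨c, hc1⟩, hc2⟩

/-- the codes of the 44 lanes -/
noncomputable def q3 (x : ℕ) : Bool := memL VL (Nat.land x 0x3ffbff)

theorem c44 : cnt 12 (fun i => and (mX i) (q3 (cd i))) 0 = 44 := by decide +kernel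

theorem VL_comm : (VL.all fun a => and (Nat.beq (mulK a (Nat.xor a 0x400)) (mulK (Nat.xor a 0x400) a))
    (Nat.beq (Nat.land (Nat.xor a 0x400) 0x3ffbff) a)) = true := by decide +kernel

theorem VL_land : (VL.all fun a => Nat.beq (Nat.land a 0x3ffbff) a) = true := by decide +kernel

theorem cl_c : cl' xc = cl' (xa * xb) := ab_abc.symm

theorem smul_c (c : Inst.M.C) : c • cl' xc = cl' (al c xa * al c xb) := by rw [cl_c, smul_mul]

theorem pair_of_q3 {m : ℕ} (hm : m < 2 ^ 22) (h : q3 m = true) : (∃ i : Lane U, Cd.isX i ∧ cd i.1 = m ^^^ 0x400) ∧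
    dec 11 m * dec 11 (m ^^^ 0x400) = dec 11 (m ^^^ 0x400) * dec 11 m := by
  have ha : Nat.land m 0x3ffbff ∈ VL := memL_iff.1 h
  obtain ⟨h1, h2⟩ := exists_lane ha
  have h3 := List.all_eq_true.1 VL_comm _ ha
  rw [Bool.and_eq_true] at h3
  have h4 : dec 11 (Nat.land m 0x3ffbff) * dec 11 (Nat.land m 0x3ffbff ^^^ 0x400) =
      dec 11 (Nat.land m 0x3ffbff ^^^ 0x400) * dec 11 (Nat.land m 0x3ffbff) := (Pauli.commute_iff _ _).2 (form_zero h3.1)
  rcases land_cases hm with h5 | h5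
  · rw [← h5] at h2 h4
    exact ⟨h2, h4⟩
  · have h6 : m ^^^ 0x400 = Nat.land m 0x3ffbff := by
      conv_lhs => rw [h5]
      rw [Nat.xor_assoc, Nat.xor_self, Nat.xor_zero]
    rw [h6]
    refine ⟨h1, ?_⟩
    rw [← h5] at h4
    exact h4.symm

theorem orbit_c : (MulAction.orbit (MulAction.stabilizer Inst.M.C (cl' xc)) (cl' xa) : Set X) = AA q3 := by
  ext p
  constructor
  · rintro ⟨⟨c, hc⟩, rfl⟩
    have hc' : c • cl' xc = cl' xc := hc
    rw [smul_c, cl_eq, ab_mul] at hc'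
    obtain ⟨i, hi, e⟩ := al_P c xa_P
    obtain ⟨k, hk, e'⟩ := al_P c xb_P
    have e1 : ab (al c xa) = v (cd i.1) := e
    have e2 : ab (al c xb) = v (cd k.1) := e'
    refine ⟨i, hi, ?_, (smul_cl c xa).trans e⟩
    have h1 : v (cd k.1) = v (cd i.1 ^^^ 0x400) := by
      rw [v_xor]
      have h2 : v 0x400 = v (cd i.1) + v (cd k.1) := by rw [← e1, ← e2]; exact hc'.symm
      rw [h2, ← add_assoc, add_self', zero_add]
    have h3 : cd k.1 = cd i.1 ^^^ 0x400 := v_inj (cd_lt _) (Nat.xor_lt_two_pow (cd_lt _) (by norm_num)) h1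
    obtain ⟨a, ha, h4⟩ := f15 hi hk h3
    unfold q3
    rw [memL_iff]
    rcases h4 with h4 | h4
    · rw [h4]
      have h5 := List.all_eq_true.1 VL_land _ ha
      rw [Nat.eq_of_beq_eq_true h5]
      exact ha
    · rw [h4]
      have h5 := List.all_eq_true.1 VL_comm _ ha
      rw [Bool.and_eq_true] at h5
      have h6 : Nat.land (a ^^^ 0x400) 0x3ffbff = a := Nat.eq_of_beq_eq_true h5.2
      rw [h6]
      exact ha
  · rintro ⟨i, hi, hq, rfl⟩
    obtain ⟨⟨k, hk, ek⟩, hcomm⟩ := pair_of_q3 (cd_lt _) hq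
    obtain ⟨c1, hc1⟩ := trans_a (x := dec 11 (cd i.1)) ⟨i, hi, rfl⟩
    have hPk : dec 11 (cd i.1 ^^^ 0x400) ∈ PP := ⟨k, hk, by rw [← ek]; rfl⟩
    have hc1' : ab (al c1 xa) = ab (dec 11 (cd i.1)) := by rw [← cl_eq, ← smul_cl]; exact hc1
    obtain ⟨y, hy⟩ : ∃ y, y = al c1⁻¹ (dec 11 (cd i.1 ^^^ 0x400)) := ⟨_, rfl⟩
    have hyP : y ∈ PP := by rw [hy]; exact al_P _ hPk
    have hyy : al c1 y = dec 11 (cd i.1 ^^^ 0x400) := by
      rw [hy, ← al_mul, mul_inv_cancel, al_one]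
    have hyc : y * xa = xa * y := by
      rw [← comm_al (c := c1), hyy]
      exact comm_congr rfl hc1'.symm hcomm.symm
    have hyn : ab y ≠ ab xa := by
      intro h
      have h1 := ab_aut_congr (al c1) h
      rw [hyy, hc1'] at h1
      have h2 : cd i.1 ^^^ 0x400 = cd i.1 := v_inj (Nat.xor_lt_two_pow (cd_lt _) (by norm_num)) (cd_lt _) h1
      have h3 : (0x400 : ℕ) = 0 := by
        have h4 := congrArg (fun t => cd i.1 ^^^ t) h2
        simp only [← Nat.xor_assoc, Nat.xor_self, Nat.zero_xor] at h4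
        exact h4
      exact absurd h3 (by norm_num)
    obtain ⟨c2, hc2, hc3⟩ := trans_b hyP hyc hyn
    have k1 : (c1 * c2) • cl' xa = cl' (dec 11 (cd i.1)) := by rw [mul_smul, hc2]; exact hc1
    have k2 : (c1 * c2) • cl' xb = cl' (dec 11 (cd i.1 ^^^ 0x400)) := by rw [mul_smul, hc3, smul_cl, hyy]
    refine ⟨⟨c1 * c2, ?_⟩, k1⟩
    show (c1 * c2) • cl' xc = cl' xc
    rw [smul_c, cl_eq, ab_mul]
    rw [smul_cl, cl_eq] at k1 k2
    rw [k1, k2]
    show v (cd i.1) + v (cd i.1 ^^^ 0x400) = v 0x400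
    rw [v_xor, ← add_assoc, add_self', zero_add]

/-- **The orbit of the class of `z'` has 46575 elements.** -/
theorem ncard_orbit : (MulAction.orbit Inst.M.C (cl' xc) : Set X).ncard = 46575 := by
  have i1 : (MulAction.stabilizer Inst.M.C (cl' xa)).index = 2300 := by
    rw [MulAction.index_stabilizer, orbit_a]; exact (ncard_AA _).trans c2300
  have key : ∀ p q : X, (MulAction.stabilizer (MulAction.stabilizer Inst.M.C p) q).index =
      (MulAction.stabilizer Inst.M.C q).relIndex (MulAction.stabilizer Inst.M.C p) := fun p q => rfl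
  have i2 : (MulAction.stabilizer Inst.M.C (cl' xb)).relIndex (MulAction.stabilizer Inst.M.C (cl' xa)) = 891 := by
    rw [← key, MulAction.index_stabilizer, orbit_b]; exact (ncard_AA _).trans c891
  have i3 : (MulAction.stabilizer Inst.M.C (cl' xa)).relIndex (MulAction.stabilizer Inst.M.C (cl' xc)) = 44 := by
    rw [← key, MulAction.index_stabilizer, orbit_c]; exact (ncard_AA _).trans c44
  have hinf : MulAction.stabilizer Inst.M.C (cl' xb) ⊓ MulAction.stabilizer Inst.M.C (cl' xa) =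
      MulAction.stabilizer Inst.M.C (cl' xa) ⊓ MulAction.stabilizer Inst.M.C (cl' xc) := by
    ext c
    rw [Subgroup.mem_inf, Subgroup.mem_inf, MulAction.mem_stabilizer_iff, MulAction.mem_stabilizer_iff,
      MulAction.mem_stabilizer_iff]
    constructor
    · rintro ⟨h1, h2⟩
      refine ⟨h2, ?_⟩
      rw [smul_cl, cl_eq] at h1 h2
      rw [smul_c, cl_eq, ab_mul, h1, h2, ← ab_mul, ab_abc]
    · rintro ⟨h1, h2⟩
      refine ⟨?_, h1⟩
      rw [smul_cl, cl_eq] at h1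
      rw [smul_c, cl_eq, ab_mul, h1, ← ab_abc, ab_mul] at h2
      rw [smul_cl, cl_eq]
      exact add_left_cancel h2
  have e1 := Subgroup.relIndex_mul_index (inf_le_right : MulAction.stabilizer Inst.M.C (cl' xb) ⊓
    MulAction.stabilizer Inst.M.C (cl' xa) ≤ MulAction.stabilizer Inst.M.C (cl' xa))
  have e2 := Subgroup.relIndex_mul_index (inf_le_right : MulAction.stabilizer Inst.M.C (cl' xa) ⊓
    MulAction.stabilizer Inst.M.C (cl' xc) ≤ MulAction.stabilizer Inst.M.C (cl' xc))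
  rw [Subgroup.inf_relIndex_right, i2, i1, hinf] at e1
  rw [Subgroup.inf_relIndex_right, i3, ← e1] at e2
  rw [← MulAction.index_stabilizer]
  omega

/-- a 2-subgroup of `C` fixes a point of the orbit -/
theorem exists_fixed (T : Subgroup Inst.M.C) (hT : IsPGroup 2 T) :
    ∃ g : Inst.M.C, ∀ t ∈ T, t • g • cl' xc = g • cl' xc := by
  have hf : Fact (Nat.Prime 2) := ⟨Nat.prime_two⟩
  have hfX : Finite (MulAction.orbit Inst.M.C (cl' xc)) := Nat.finite_of_card_ne_zero (by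
    rw [show Nat.card (MulAction.orbit Inst.M.C (cl' xc)) = 46575 from ncard_orbit]; norm_num)
  obtain ⟨⟨x, g, hg⟩, hx⟩ := hT.nonempty_fixed_point_of_prime_not_dvd_card (MulAction.orbit Inst.M.C (cl' xc)) (by
    rw [show Nat.card (MulAction.orbit Inst.M.C (cl' xc)) = 46575 from ncard_orbit]; norm_num)
  refine ⟨g, fun t ht => ?_⟩
  have h1 := congrArg Subtype.val (hx ⟨t, ht⟩)
  have h2 : t • x = x := h1
  have hg' : g • cl' xc = x := hg
  rw [hg', h2]

/-- in terms of `Q` -/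
theorem exists_pairB (T : Subgroup Inst.M.C) (hT : IsPGroup 2 T) :
    ∃ g : Inst.M.C, ∀ t ∈ T,
      (t : V ≃ₗ[ℚ] V) * (g * Cd.R xc * (g : V ≃ₗ[ℚ] V)⁻¹) * (t : V ≃ₗ[ℚ] V)⁻¹ = g * Cd.R xc * (g : V ≃ₗ[ℚ] V)⁻¹ ∨
      (t : V ≃ₗ[ℚ] V) * (g * Cd.R xc * (g : V ≃ₗ[ℚ] V)⁻¹) * (t : V ≃ₗ[ℚ] V)⁻¹ =
        g * Cd.R xc * (g : V ≃ₗ[ℚ] V)⁻¹ * Inst.M.z := by
  obtain ⟨g, hg⟩ := exists_fixed T hT
  refine ⟨g, fun t ht => ?_⟩
  rw [al_spec, al_spec]
  apply R_eq_or
  have h1 := hg t ht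
  rw [smul_cl, smul_cl, cl_eq] at h1
  exact h1

end Cfsg.Agent.H861.PiS.BabyOrb
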