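import Cfsg.Agent.H841.PiBS.Desc
import Cfsg.Agent.Co2Type.Quad

/-!
# S3876: simple groups with a large extraspecial 2-subgroup (helper861)

`Good π G`: `DT π G` implies that `G` is a `π`-group.

`good_of_large` : `Q` large extraspecial in `G` with centre `⟨z⟩`, `C(z)` of odd index, `C(z)/Q ≃ L` with `Good π L`,
`G = ⟨C(z), n⟩` for an element `n` with `v = n z n⁻¹ ∈ Q`, and `⟨z, v⟩` is normalised by a Sylow 2-subgroup:
then `Good π G` if `2, 3 ∈ π`.
-/

set_option autoImplicit false

namespace Cfsg.Agent.H861.PiS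

open Cfsg Subgroup
open Cfsg.Agent.H841.PiBS
open Cfsg.Agent.Co2Type.Quad (Large)

universe u v

/-- all prime divisors of `|G|` lie in `π` -/
def PG (π : Set ℕ) (G : Type u) : Prop := ∀ p : ℕ, p.Prime → p ∣ Nat.card G → p ∈ π

/-- `DT π G` forces `G` to be a `π`-group -/
def Good (π : Set ℕ) (G : Type u) [Group G] : Prop := DT π G → PG π G

theorem Good.congr {π : Set ℕ} {G : Type u} {G' : Type v} [Group G] [Group G'] [Finite G] [Finite G'] (e : G ≃* G')
    (h : Good π G') : Good π G := by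
  intro hd p hp hpd
  refine h (hd.map_equiv e) p hp ?_
  rwa [← Nat.card_congr e.toEquiv]

section large

variable {G : Type u} [Group G] {Q : Subgroup G} {z : G}

theorem isPGroup_Q (h : Large Q z) : IsPGroup 2 Q := by
  intro x
  refine ⟨2, Subtype.ext ?_⟩
  show (x : G) ^ (2 ^ 2) = 1
  have h1 : (x : G) ^ (2 ^ 2) = (x * x) * (x * x) := by
    rw [show (2 ^ 2 : ℕ) = 2 * 2 from rfl, pow_mul, pow_two, pow_two]
  rw [h1]
  rcases h.sq x x.2 with h2 | h2
  · rw [h2, one_mul]
  · rw [h2, h.z_sq]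

/-- an element commuting with `z` and `C_Q(v)` lies in `⟨z, v⟩` -/
theorem mem_of_comm (h : Large Q z) {v : G} (hv : v ∈ Q) (hv2 : v * v = 1) (hv1 : v ≠ 1) (hvz : v ≠ z)
    {c : G} (hcz : c * z = z * c) (hc : ∀ q ∈ Q, q * v = v * q → c * q = q * c) :
    c = 1 ∨ c = z ∨ c = v ∨ c = v * z := by
  have hzz := h.z_sq
  have hvz' : v * z = z * v := h.comm_z v hv
  obtain ⟨q, hq, hqv⟩ : ∃ q ∈ Q, v * q ≠ q * v := by
    by_contra hne
    push Not at hne
    rcases h.cent v hv hne with h1 | h1
    · exact hv1 h1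
    · exact hvz h1
  have hvq : v * q = q * v * z := (h.comm v hv q hq).resolve_left hqv
  have hqz : q * z = z * q := h.comm_z q hq
  -- all of `Q` is `Q₀ ∪ q Q₀`
  have hsplit : ∀ x ∈ Q, x * v = v * x ∨ (q⁻¹ * x) * v = v * (q⁻¹ * x) := by
    intro x hx
    rcases h.comm v hv x hx with h1 | h1
    · exact Or.inl h1.symm
    · right
      have hxz : x * z = z * x := h.comm_z x hx
      have e1 : q * (q⁻¹ * x * v) = x * v := by group
      have e2 : q * (v * (q⁻¹ * x)) = x * v := by
        calc q * (v * (q⁻¹ * x)) = (q * v) * (q⁻¹ * x) := by group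
          _ = (v * q * z) * (q⁻¹ * x) := by rw [hvq, mul_assoc (q * v) z z, hzz, mul_one]
          _ = v * (q * z) * q⁻¹ * x := by group
          _ = v * z * x := by rw [hqz]; group
          _ = v * x * z := by rw [mul_assoc, ← hxz, ← mul_assoc]
          _ = x * v * z * z := by rw [h1]
          _ = x * v := by rw [mul_assoc (x * v), hzz, mul_one]
      exact mul_left_cancel (e1.trans e2.symm)
  -- the duality
  have hdual : ∀ w ∈ Q, (∀ x ∈ Q, x * v = v * x → w * x = x * w) → w = 1 ∨ w = z ∨ w = v ∨ w = v * z := by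
    intro w hw hwc
    have hwz : w * z = z * w := h.comm_z w hw
    have hall : ∀ y ∈ Q, (∀ x ∈ Q, x * v = v * x → y * x = x * y) → y * q = q * y → y = 1 ∨ y = z := by
      intro y hy hyc hyq
      refine h.cent y hy fun x hx => ?_
      rcases hsplit x hx with h1 | h1
      · exact hyc x hx h1
      · have h2 := hyc (q⁻¹ * x) (mul_mem (inv_mem hq) hx) h1
        calc y * x = (y * q) * (q⁻¹ * x) := by group
          _ = q * (y * (q⁻¹ * x)) := by rw [hyq]; group
          _ = q * (q⁻¹ * x * y) := by rw [h2]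
          _ = x * y := by group
    rcases h.comm w hw q hq with h1 | h1
    · rcases hall w hw hwc h1 with h2 | h2
      · exact Or.inl h2
      · exact Or.inr (Or.inl h2)
    · have hwv : w * v ∈ Q := mul_mem hw hv
      have h3 : (w * v) * q = q * (w * v) := by
        calc (w * v) * q = w * (v * q) := by group
          _ = w * (q * v * z) := by rw [hvq]
          _ = (w * q) * v * z := by group
          _ = (q * w * z) * v * z := by rw [h1]
          _ = q * w * (z * v) * z := by group
          _ = q * w * (v * z) * z := by rw [hvz']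
          _ = q * (w * v) * (z * z) := by group
          _ = q * (w * v) := by rw [hzz, mul_one]
      have h4 : ∀ x ∈ Q, x * v = v * x → (w * v) * x = x * (w * v) := by
        intro x hx hxv
        calc (w * v) * x = w * (v * x) := by group
          _ = w * (x * v) := by rw [hxv]
          _ = (w * x) * v := by group
          _ = x * (w * v) := by rw [hwc x hx hxv]; group
      rcases hall (w * v) hwv h4 h3 with h5 | h5
      · right; right; left
        calc w = (w * v) * v := by rw [mul_assoc, hv2, mul_one]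
          _ = v := by rw [h5, one_mul]
      · right; right; right
        calc w = (w * v) * v := by rw [mul_assoc, hv2, mul_one]
          _ = v * z := by rw [h5, hvz']
  -- `c q c⁻¹ = q w`
  obtain ⟨w, hw⟩ : ∃ w, w = q⁻¹ * (c * q * c⁻¹) := ⟨_, rfl⟩
  have hcq : c * q * c⁻¹ = q * w := by rw [hw]; group
  have hwQ : w ∈ Q := by rw [hw]; exact mul_mem (inv_mem hq) (h.conj_mem c hcz q hq)
  have hcz' : c * z * c⁻¹ = z := by rw [hcz]; group
  have hwc : ∀ x ∈ Q, x * v = v * x → w * x = x * w := by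
    intro x hx hxv
    have hcx : c * x * c⁻¹ = x := by rw [hc x hx hxv]; group
    have hxz : x * z = z * x := h.comm_z x hx
    rcases h.comm q hq x hx with h1 | h1
    · have h2 : (q * w) * x = x * (q * w) := by
        calc (q * w) * x = (c * q * c⁻¹) * (c * x * c⁻¹) := by rw [hcq, hcx]
          _ = c * (q * x) * c⁻¹ := by group
          _ = c * (x * q) * c⁻¹ := by rw [h1]
          _ = (c * x * c⁻¹) * (c * q * c⁻¹) := by group
          _ = x * (q * w) := by rw [hcq, hcx]
      have h3 : q * (w * x) = q * (x * w) := by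
        calc q * (w * x) = x * (q * w) := by rw [← mul_assoc, h2]
          _ = (x * q) * w := by group
          _ = q * (x * w) := by rw [← h1]; group
      exact mul_left_cancel h3
    · have h2 : (q * w) * x = x * (q * w) * z := by
        calc (q * w) * x = (c * q * c⁻¹) * (c * x * c⁻¹) := by rw [hcq, hcx]
          _ = c * (q * x) * c⁻¹ := by group
          _ = c * (x * q * z) * c⁻¹ := by rw [h1]
          _ = (c * x * c⁻¹) * (c * q * c⁻¹) * (c * z * c⁻¹) := by group
          _ = x * (q * w) * z := by rw [hcq, hcx, hcz']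
      have hwz : w * z = z * w := h.comm_z w hwQ
      have h3 : q * (w * x) = q * (x * w) := by
        calc q * (w * x) = x * (q * w) * z := by rw [← mul_assoc, h2]
          _ = x * q * (w * z) := by group
          _ = (x * q * z) * w := by rw [hwz]; group
          _ = q * (x * w) := by rw [← h1]; group
      exact mul_left_cancel h3
  have hqq : c * (q * q) * c⁻¹ = q * q := by
    rcases h.sq q hq with h1 | h1
    · rw [h1]; group
    · rw [h1, hcz']
  have hsq : (q * w) * (q * w) = q * q := by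
    calc (q * w) * (q * w) = (c * q * c⁻¹) * (c * q * c⁻¹) := by rw [hcq]
      _ = c * (q * q) * c⁻¹ := by group
      _ = q * q := hqq
  -- an element commuting with `z`, `Q₀` and `q`
  have hfin : ∀ y : G, y * z = z * y → (∀ x ∈ Q, x * v = v * x → y * x = x * y) → y * q = q * y → y = 1 ∨ y = z := by
    intro y hyz hyc hyq
    have hyQ : ∀ x ∈ Q, y * x = x * y := by
      intro x hx
      rcases hsplit x hx with h1 | h1
      · exact hyc x hx h1
      · have h2 := hyc (q⁻¹ * x) (mul_mem (inv_mem hq) hx) h1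
        calc y * x = (y * q) * (q⁻¹ * x) := by group
          _ = q * (y * (q⁻¹ * x)) := by rw [hyq]; group
          _ = q * (q⁻¹ * x * y) := by rw [h2]
          _ = x * y := by group
    exact h.cent y (h.self y hyz hyQ) hyQ
  rcases hdual w hwQ hwc with h1 | h1 | h1 | h1
  · have h2 : c * q = q * c := by
      calc c * q = (c * q * c⁻¹) * c := by group
        _ = q * c := by rw [hcq, h1, mul_one]
    rcases hfin c hcz hc h2 with h3 | h3
    · exact Or.inl h3
    · exact Or.inr (Or.inl h3)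
  · have hcv : (c * v) * q = q * (c * v) := by
      calc (c * v) * q = c * (v * q) := by group
        _ = c * (q * v * z) := by rw [hvq]
        _ = (c * q * c⁻¹) * c * v * z := by group
        _ = q * z * c * v * z := by rw [hcq, h1]
        _ = q * (z * c) * (v * z) := by group
        _ = q * (c * z) * (z * v) := by rw [hcz, hvz']
        _ = q * c * (z * z) * v := by group
        _ = q * (c * v) := by rw [hzz]; group
    have h3 : ∀ x ∈ Q, x * v = v * x → (c * v) * x = x * (c * v) := by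
      intro x hx hxv
      calc (c * v) * x = c * (v * x) := by group
        _ = c * (x * v) := by rw [hxv]
        _ = (c * x) * v := by group
        _ = x * (c * v) := by rw [hc x hx hxv]; group
    have h4 : (c * v) * z = z * (c * v) := by
      calc (c * v) * z = c * (v * z) := by group
        _ = (c * z) * v := by rw [hvz']; group
        _ = z * (c * v) := by rw [hcz]; group
    rcases hfin (c * v) h4 h3 hcv with h5 | h5
    · right; right; left
      calc c = (c * v) * v := by rw [mul_assoc, hv2, mul_one]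
        _ = v := by rw [h5, one_mul]
    · right; right; right
      calc c = (c * v) * v := by rw [mul_assoc, hv2, mul_one]
        _ = v * z := by rw [h5, hvz']
  · exfalso
    rw [h1] at hsq
    have h2 : (q * v) * (q * v) = q * q * z := by
      calc (q * v) * (q * v) = q * (v * q) * v := by group
        _ = q * (q * v * z) * v := by rw [hvq]
        _ = q * q * v * (z * v) := by group
        _ = q * q * v * (v * z) := by rw [hvz']
        _ = q * q * (v * v) * z := by group
        _ = q * q * z := by rw [hv2, mul_one]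
    rw [h2] at hsq
    exact h.z_ne (mul_left_cancel (hsq.trans (mul_one _).symm))
  · exfalso
    rw [h1] at hsq
    have h2 : (q * (v * z)) * (q * (v * z)) = q * q * z := by
      calc (q * (v * z)) * (q * (v * z)) = q * v * (z * q) * v * z := by group
        _ = q * v * (q * z) * v * z := by rw [hqz]
        _ = q * (v * q) * (z * v) * z := by group
        _ = q * (q * v * z) * (v * z) * z := by rw [hvq, hvz']
        _ = q * q * v * (z * v) * (z * z) := by group
        _ = q * q * v * (v * z) := by rw [hzz, hvz']; group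
        _ = q * q * (v * v) * z := by group
        _ = q * q * z := by rw [hv2, mul_one]
    rw [h2] at hsq
    exact h.z_ne (mul_left_cancel (hsq.trans (mul_one _).symm))

end large

section fusion

theorem card_mul_relIndex {G : Type u} [Group G] {A B : Subgroup G} (h : A ≤ B) :
    Nat.card A * A.relIndex B = Nat.card B := by
  have h1 := (A.subgroupOf B).card_mul_index
  rwa [Nat.card_congr (subgroupOfEquivOfLe h).toEquiv] at h1

variable {G : Type u} [Group G] [Finite G] {Q : Subgroup G} {z : G}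

omit [Finite G] in
/-- a Sylow 2-subgroup centralising `z` contains `Q` -/
theorem le_sylow (h : Large Q z) (T : Sylow 2 G) (hT : ∀ t ∈ (T : Subgroup G), t * z = z * t) : Q ≤ T := by
  have hfact : Fact (Nat.Prime 2) := ⟨Nat.prime_two⟩
  have hn : (T : Subgroup G) ≤ normalizer (Q : Set G) := by
    intro s hs
    have hsz := hT s hs
    rw [mem_normalizer_iff]
    intro x
    refine ⟨fun hx => h.conj_mem s hsz x hx, fun hx => ?_⟩
    have h2 := h.conj_mem s⁻¹ (hT _ (inv_mem hs)) _ hx
    have e : s⁻¹ * (s * x * s⁻¹) * s⁻¹⁻¹ = x := by group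
    rwa [e] at h2
  have h1 : IsPGroup 2 ((T : Subgroup G) ⊔ Q : Subgroup G) :=
    (T.isPGroup').to_sup_of_normal_right' (isPGroup_Q h) hn
  have h2 := T.is_maximal' h1 le_sup_left
  exact le_sup_right.trans h2.le

/-- the centre of a Sylow 2-subgroup centralising `z` -/
theorem center_eq (h : Large Q z) (T : Sylow 2 G) (hT : ∀ t ∈ (T : Subgroup G), t * z = z * t) {y : G}
    (hy : y ∈ (T : Subgroup G)) (hyc : ∀ t ∈ (T : Subgroup G), y * t = t * y) : y = 1 ∨ y = z := by
  have hQ := le_sylow h T hT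
  have h1 : ∀ x ∈ Q, y * x = x * y := fun x hx => hyc x (hQ hx)
  exact h.cent y (h.self y (hT y hy) h1) h1

/-- `N(T) ≤ C(z)` -/
theorem normalizer_le (h : Large Q z) (T : Sylow 2 G) (hT : ∀ t ∈ (T : Subgroup G), t * z = z * t) :
    normalizer ((T : Subgroup G) : Set G) ≤ centralizer ({z} : Set G) := by
  intro x hx
  rw [mem_centralizer_singleton_iff]
  have hzT : z ∈ (T : Subgroup G) := le_sylow h T hT h.z_mem
  have hxi := inv_mem hx
  have h1 : x * z * x⁻¹ ∈ (T : Subgroup G) := (mem_normalizer_iff.1 hx z).1 hzT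
  have h2 : ∀ t ∈ (T : Subgroup G), x * z * x⁻¹ * t = t * (x * z * x⁻¹) := by
    intro t ht
    have h3 : x⁻¹ * t * x ∈ (T : Subgroup G) := by
      have := (mem_normalizer_iff.1 hxi t).1 ht
      rwa [inv_inv] at this
    have h4 := hT _ h3
    calc x * z * x⁻¹ * t = x * (z * (x⁻¹ * t * x)) * x⁻¹ := by group
      _ = x * (x⁻¹ * t * x * z) * x⁻¹ := by rw [h4]
      _ = t * (x * z * x⁻¹) := by group
  rcases center_eq h T hT h1 h2 with h3 | h3
  · exfalso
    apply h.z_ne
    calc z = x⁻¹ * (x * z * x⁻¹) * x := by group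
      _ = 1 := by rw [h3]; group
  · calc x * z = x * z * x⁻¹ * x := by group
      _ = z * x := by rw [h3]

/-- membership in the normaliser of a set from both inclusions -/
theorem mem_norm_of {G : Type u} [Group G] {S : Set G} {g : G} (h1 : ∀ x ∈ S, g * x * g⁻¹ ∈ S)
    (h2 : ∀ x ∈ S, g⁻¹ * x * g ∈ S) : g ∈ normalizer S := by
  rw [mem_set_normalizer_iff]
  intro x
  refine ⟨h1 x, fun hx => ?_⟩
  have h3 := h2 _ hx
  have e : g⁻¹ * (g * x * g⁻¹) * g = x := by group
  rwa [e] at h3

/-- the three involutions of the four-group -/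
def VV (z v : G) : Set G := {z, v, v * z}

omit [Finite G] in
theorem mem_VV {z v x : G} : x ∈ VV z v ↔ x = z ∨ x = v ∨ x = v * z := Iff.rfl

/-- the normaliser of the four-group fuses `z` to `v` -/
theorem exists_fuse (h : Large Q z) {n : G} (hv : n * z * n⁻¹ ∈ Q) (hvz : n * z * n⁻¹ ≠ z) (T : Sylow 2 G)
    (hT : ∀ t ∈ (T : Subgroup G), t * z = z * t)
    (hTv : ∀ t ∈ (T : Subgroup G), t * (n * z * n⁻¹) * t⁻¹ = n * z * n⁻¹ ∨
      t * (n * z * n⁻¹) * t⁻¹ = n * z * n⁻¹ * z) :
    ∃ r ∈ normalizer (VV z (n * z * n⁻¹)), r * z * r⁻¹ = n * z * n⁻¹ := by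
  have hfact : Fact (Nat.Prime 2) := ⟨Nat.prime_two⟩
  have hzz := h.z_sq
  obtain ⟨v, hvn⟩ : ∃ v, v = n * z * n⁻¹ := ⟨_, rfl⟩
  rw [← hvn] at hv hvz hTv ⊢
  have hv2 : v * v = 1 := by
    calc v * v = n * (z * z) * n⁻¹ := by rw [hvn]; group
      _ = 1 := by rw [hzz]; group
  have hv1 : v ≠ 1 := by
    intro h1
    apply h.z_ne
    calc z = n⁻¹ * v * n := by rw [hvn]; group
      _ = 1 := by rw [h1]; group
  have hvz' : v * z = z * v := h.comm_z v hv
  have hQT := le_sylow h T hT
  have hzT : z ∈ (T : Subgroup G) := hQT h.z_mem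
  have hvT : v ∈ (T : Subgroup G) := hQT hv
  obtain ⟨q, hq, hqv⟩ : ∃ q ∈ Q, v * q ≠ q * v := by
    by_contra hne
    push Not at hne
    rcases h.cent v hv hne with h1 | h1
    · exact hv1 h1
    · exact hvz h1
  have hqv' : q * v * q⁻¹ = v * z := by
    rcases hTv q (hQT hq) with h1 | h1
    · exact absurd (by calc v * q = (q * v * q⁻¹) * q := by rw [h1]
                      _ = q * v := by group) hqv
    · exact h1
  have hqz : q * z * q⁻¹ = z := by rw [h.comm_z q hq]; group
  have hqn : q ∈ normalizer (VV z v) := by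
    have hq2 : q⁻¹ * v * q = v * z := by
      have h1 : q * (v * z) * q⁻¹ = v := by
        calc q * (v * z) * q⁻¹ = (q * v * q⁻¹) * (q * z * q⁻¹) := by group
          _ = v := by rw [hqv', hqz, mul_assoc, hzz, mul_one]
      calc q⁻¹ * v * q = q⁻¹ * (q * (v * z) * q⁻¹) * q := by rw [h1]
        _ = v * z := by group
    have hq3 : q⁻¹ * z * q = z := by
      calc q⁻¹ * z * q = q⁻¹ * (q * z * q⁻¹) * q := by rw [hqz]
        _ = z := by group
    apply mem_norm_of
    · rintro x (rfl | rfl | rfl)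
      · exact Or.inl hqz
      · exact Or.inr (Or.inr hqv')
      · right; left
        calc q * (v * z) * q⁻¹ = (q * v * q⁻¹) * (q * z * q⁻¹) := by group
          _ = v := by rw [hqv', hqz, mul_assoc, hzz, mul_one]
    · rintro x (rfl | rfl | rfl)
      · exact Or.inl hq3
      · exact Or.inr (Or.inr hq2)
      · right; left
        calc q⁻¹ * (v * z) * q = (q⁻¹ * v * q) * (q⁻¹ * z * q) := by group
          _ = v := by rw [hq2, hq3, mul_assoc, hzz, mul_one]
  -- `T₀ = C_T(v)`
  let T0 : Subgroup G := (T : Subgroup G) ⊓ centralizer ({v} : Set G)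
  have hT0T : T0 ≤ T := inf_le_left
  have hT0v : T0 ≤ centralizer ({v} : Set G) := inf_le_right
  -- the index of `T₀` in `T`
  have hidx : T0.relIndex (T : Subgroup G) = 2 := by
    have h1 : ∀ t ∈ (T : Subgroup G), t ∉ T0 → q⁻¹ * t ∈ T0 := by
      intro t ht htn
      refine mem_inf.2 ⟨mul_mem (inv_mem (hQT hq)) ht, ?_⟩
      rw [mem_centralizer_singleton_iff]
      rcases hTv t ht with h2 | h2
      · exfalso
        apply htn
        refine mem_inf.2 ⟨ht, ?_⟩
        rw [mem_centralizer_singleton_iff]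
        calc t * v = (t * v * t⁻¹) * t := by group
          _ = v * t := by rw [h2]
      · have h3 : t * v = v * z * t := by
          calc t * v = (t * v * t⁻¹) * t := by group
            _ = v * z * t := by rw [h2]
        have h4 : q * v = v * z * q := by
          calc q * v = (q * v * q⁻¹) * q := by group
            _ = v * z * q := by rw [hqv']
        have h5 : q * (q⁻¹ * t * v) = q * (v * (q⁻¹ * t)) := by
          calc q * (q⁻¹ * t * v) = t * v := by group
            _ = v * z * q * (q⁻¹ * t) := by rw [h3]; group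
            _ = q * v * (q⁻¹ * t) := by rw [h4]
            _ = q * (v * (q⁻¹ * t)) := by group
        exact mul_left_cancel h5
    have h6 : q ∉ T0 := by
      intro h7
      have h8 := mem_centralizer_singleton_iff.1 (hT0v h7)
      exact hqv h8.symm
    rw [Subgroup.relIndex, Subgroup.index_eq_two_iff]
    refine ⟨⟨q, hQT hq⟩, fun b => ?_⟩
    have hmem : ∀ y : (T : Subgroup G), y ∈ T0.subgroupOf (T : Subgroup G) ↔ (y : G) ∈ T0 := fun y => Iff.rfl
    rw [hmem, hmem]
    by_cases hb : (b : G) ∈ T0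
    · refine Or.inr ⟨hb, ?_⟩
      intro h7
      apply h6
      have h8 : (b : G) * q ∈ T0 := h7
      have h9 := mul_mem (inv_mem hb) h8
      rwa [inv_mul_cancel_left] at h9
    · refine Or.inl ⟨?_, hb⟩
      have h7 := h1 _ (inv_mem b.2) (fun h8 => hb (by have := inv_mem h8; rwa [inv_inv] at this))
      have h8 := inv_mem h7
      have e : (q⁻¹ * (b : G)⁻¹)⁻¹ = (b : G) * q := by group
      rw [e] at h8
      exact h8
  -- `R`
  have hT0p : IsPGroup 2 T0 := T.isPGroup'.to_le hT0T
  obtain ⟨R, hR0, hRv⟩ : ∃ R : Sylow 2 G, T0 ≤ R ∧ ∀ r ∈ (R : Subgroup G), r * v = v * r := by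
    -- `C(v) = n C(z) n⁻¹`
    let T' : Sylow 2 G := n • T
    have hT' : (T' : Subgroup G) ≤ centralizer ({v} : Set G) := by
      intro x hx
      rw [Sylow.coe_subgroup_smul, Subgroup.mem_pointwise_smul_iff_inv_smul_mem, ← map_inv, MulAut.smul_def,
        MulAut.conj_apply, inv_inv] at hx
      have h1 := hT _ hx
      rw [mem_centralizer_singleton_iff, hvn]
      calc x * (n * z * n⁻¹) = n * ((n⁻¹ * x * n) * z) * n⁻¹ := by group
        _ = n * (z * (n⁻¹ * x * n)) * n⁻¹ := by rw [h1]
        _ = n * z * n⁻¹ * x := by group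
    let P : Sylow 2 ↥(centralizer ({v} : Set G)) := T'.subtype hT'
    have h2 : IsPGroup 2 (T0.subgroupOf (centralizer ({v} : Set G))) :=
      hT0p.comap_of_injective _ (subtype_injective _)
    obtain ⟨P', hP'⟩ := h2.exists_le_sylow
    obtain ⟨c, hc⟩ := MulAction.exists_smul_eq ↥(centralizer ({v} : Set G)) P P'
    refine ⟨(c : G) • T', ?_, ?_⟩
    · intro x hx
      have hxv := hT0v hx
      have h3 : (⟨x, hxv⟩ : ↥(centralizer ({v} : Set G))) ∈ (P' : Subgroup _) := hP' (by rw [mem_subgroupOf]; exact hx)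
      rw [← hc, Sylow.coe_subgroup_smul, Subgroup.mem_pointwise_smul_iff_inv_smul_mem, ← map_inv, MulAut.smul_def,
        MulAut.conj_apply, inv_inv] at h3
      show x ∈ (((c : G) • T' : Sylow 2 G) : Subgroup G)
      rw [Sylow.coe_subgroup_smul, Subgroup.mem_pointwise_smul_iff_inv_smul_mem, ← map_inv, MulAut.smul_def,
        MulAut.conj_apply, inv_inv]
      have h4 : c⁻¹ * ⟨x, hxv⟩ * c ∈ (T' : Subgroup G).subgroupOf (centralizer ({v} : Set G)) := h3
      rw [mem_subgroupOf] at h4
      exact h4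
    · intro x hx
      rw [Sylow.coe_subgroup_smul, Subgroup.mem_pointwise_smul_iff_inv_smul_mem, ← map_inv, MulAut.smul_def,
        MulAut.conj_apply, inv_inv] at hx
      have h3 := mem_centralizer_singleton_iff.1 (hT' hx)
      have hcv := mem_centralizer_singleton_iff.1 c.2
      have hcv' : (c : G)⁻¹ * v = v * (c : G)⁻¹ := by
        calc (c : G)⁻¹ * v = (c : G)⁻¹ * (v * c) * (c : G)⁻¹ := by group
          _ = (c : G)⁻¹ * (c * v) * (c : G)⁻¹ := by rw [hcv]
          _ = v * (c : G)⁻¹ := by group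
      calc x * v = c * ((c : G)⁻¹ * x * c) * ((c : G)⁻¹ * v) := by group
        _ = c * (((c : G)⁻¹ * x * c) * v) * (c : G)⁻¹ := by rw [hcv']; group
        _ = (c * v) * ((c : G)⁻¹ * x * c) * (c : G)⁻¹ := by rw [h3]; group
        _ = v * x := by rw [hcv]; group
  have hcardRT : Nat.card (R : Subgroup G) = Nat.card (T : Subgroup G) := by
    rw [R.card_eq_multiplicity, T.card_eq_multiplicity]
  have hidxR : T0.relIndex (R : Subgroup G) = 2 := by
    have h1 : 2 * Nat.card T0 = Nat.card (T : Subgroup G) := by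
      rw [← card_mul_relIndex hT0T, hidx, mul_comm]
    have h2 : T0.relIndex (R : Subgroup G) * Nat.card T0 = Nat.card (R : Subgroup G) := by
      rw [← card_mul_relIndex hR0, mul_comm]
    have h3 : 2 * Nat.card T0 = Nat.card (T : Subgroup G) := h1
    rw [hcardRT, ← h3] at h2
    exact Nat.eq_of_mul_eq_mul_right Nat.card_pos h2
  have hRn : ∀ r ∈ (R : Subgroup G), ∀ x ∈ T0, r * x * r⁻¹ ∈ T0 := by
    intro r hr x hx
    have hn : (T0.subgroupOf (R : Subgroup G)).Normal := Subgroup.normal_of_index_eq_two hidxR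
    exact hn.conj_mem ⟨x, hR0 hx⟩ hx ⟨r, hr⟩
  have hzT0 : z ∈ T0 := mem_inf.2 ⟨hzT, by rw [mem_centralizer_singleton_iff, hvz']⟩
  have hvT0 : v ∈ T0 := mem_inf.2 ⟨hvT, by rw [mem_centralizer_singleton_iff]⟩
  have hcen : ∀ x ∈ VV z v, x ∈ T0 ∧ (∀ t ∈ T0, t * x = x * t) ∧ x ≠ 1 := by
    have hz : z ∈ T0 ∧ (∀ t ∈ T0, t * z = z * t) ∧ z ≠ 1 := ⟨hzT0, fun t ht => hT t (hT0T ht), h.z_ne⟩
    have hv' : v ∈ T0 ∧ (∀ t ∈ T0, t * v = v * t) ∧ v ≠ 1 :=
      ⟨hvT0, fun t ht => mem_centralizer_singleton_iff.1 (hT0v ht), hv1⟩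
    rintro x (rfl | rfl | rfl)
    · exact hz
    · exact hv'
    · refine ⟨mul_mem hv'.1 hz.1, fun t ht => ?_, fun h1 => hvz ?_⟩
      · calc t * (v * z) = (t * v) * z := by group
          _ = v * (t * z) := by rw [hv'.2.1 t ht]; group
          _ = v * z * t := by rw [hz.2.1 t ht]; group
      · calc v = v * z * z := by rw [mul_assoc, hzz, mul_one]
          _ = z := by rw [h1, one_mul]
  have hcenT0 : ∀ x ∈ T0, (∀ t ∈ T0, t * x = x * t) → x ≠ 1 → x ∈ VV z v := by
    intro x hx hxc hx1
    have h1 := mem_of_comm h hv hv2 hv1 hvz (c := x) (hT x (hT0T hx)) (fun p hp hpv => by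
      exact (hxc p (mem_inf.2 ⟨hQT hp, by rw [mem_centralizer_singleton_iff, hpv]⟩)).symm)
    rcases h1 with h1 | h1 | h1 | h1
    · exact absurd h1 hx1
    · exact Or.inl h1
    · exact Or.inr (Or.inl h1)
    · exact Or.inr (Or.inr h1)
  have hRV : ∀ r ∈ (R : Subgroup G), ∀ x ∈ VV z v, r * x * r⁻¹ ∈ VV z v := by
    intro r hr x hx
    obtain ⟨h1, h2, h3⟩ := hcen x hx
    refine hcenT0 _ (hRn r hr x h1) (fun t ht => ?_) (fun h4 => h3 ?_)
    · have h5 : r⁻¹ * t * r ∈ T0 := by
        have h6 := hRn r⁻¹ (inv_mem hr) t ht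
        rwa [inv_inv] at h6
      have h6 := h2 _ h5
      calc t * (r * x * r⁻¹) = r * ((r⁻¹ * t * r) * x) * r⁻¹ := by group
        _ = r * (x * (r⁻¹ * t * r)) * r⁻¹ := by rw [h6]
        _ = r * x * r⁻¹ * t := by group
    · calc x = r⁻¹ * (r * x * r⁻¹) * r := by group
        _ = 1 := by rw [h4]; group
  have hRN : ∀ r ∈ (R : Subgroup G), r ∈ normalizer (VV z v) := by
    intro r hr
    refine mem_norm_of (hRV r hr) fun x hx => ?_
    have h1 := hRV r⁻¹ (inv_mem hr) x hx
    rwa [inv_inv] at h1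
  -- some `r ∈ R` moves `z`
  obtain ⟨r, hr, hrz⟩ : ∃ r ∈ (R : Subgroup G), r * z * r⁻¹ ≠ z := by
    by_contra hne
    push Not at hne
    have hRz : ∀ r ∈ (R : Subgroup G), r * z = z * r := fun r hr => by
      calc r * z = (r * z * r⁻¹) * r := by group
        _ = z * r := by rw [hne r hr]
    rcases center_eq h R hRz (hR0 hvT0) (fun t ht => (hRv t ht).symm) with h1 | h1
    · exact hv1 h1
    · exact hvz h1
  rcases hRV r hr z (Or.inl rfl) with h1 | h1 | h1
  · exact absurd h1 hrz
  · exact ⟨r, hRN r hr, h1⟩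
  · refine ⟨q * r, mul_mem hqn (hRN r hr), ?_⟩
    calc q * r * z * (q * r)⁻¹ = q * (r * z * r⁻¹) * q⁻¹ := by group
      _ = q * (v * z) * q⁻¹ := by rw [h1]
      _ = (q * v * q⁻¹) * (q * z * q⁻¹) := by group
      _ = v := by rw [hqv', hqz, mul_assoc, hzz, mul_one]

/-- the normaliser of the four-group is a `π`-group if `C(z)` is -/
theorem isPi_normalizer {π : Set ℕ} (h2 : 2 ∈ π) (h3 : 3 ∈ π) {v : G}
    (hC : IsPiSubgroup π (centralizer ({z} : Set G))) : IsPiSubgroup π (normalizer (VV z v)) := by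
  classical
  intro p hp hd
  have hpf : Fact p.Prime := ⟨hp⟩
  by_cases hp2 : p = 2
  · rwa [hp2]
  by_cases hp3 : p = 3
  · rwa [hp3]
  have hp5 : 3 < p := by
    have h1 := hp.two_le
    omega
  obtain ⟨⟨g, hg⟩, hgo⟩ := exists_prime_orderOf_dvd_card' p hd
  have hgo' : orderOf g = p := by rw [← hgo, Subgroup.orderOf_mk]
  have hmem : ∀ i : ℕ, g ^ i * z * (g ^ i)⁻¹ ∈ VV z v := fun i =>
    (mem_set_normalizer_iff.1 (pow_mem hg i) z).1 (Or.inl rfl)
  obtain ⟨i, -, j, -, hij, he⟩ := Finset.exists_ne_map_eq_of_card_lt_of_maps_to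
    (s := (Finset.univ : Finset (Fin 4))) (t := ({z, v, v * z} : Finset G))
    (by
      rw [Finset.card_univ, Fintype.card_fin]
      exact lt_of_le_of_lt Finset.card_le_three (by norm_num))
    (f := fun i : Fin 4 => g ^ (i : ℕ) * z * (g ^ (i : ℕ))⁻¹) (fun i _ => by
      have h1 := hmem i
      simp only [Finset.coe_insert, Finset.coe_singleton]
      exact h1)
  have key : ∀ a b : ℕ, a < b → b < 4 → g ^ a * z * (g ^ a)⁻¹ = g ^ b * z * (g ^ b)⁻¹ → p ∈ π := by
    intro a b hab hb h1
    have h4 : g ^ b = g ^ a * g ^ (b - a) := by rw [← pow_add]; congr 1; omega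
    have h5 : g ^ (b - a) * z = z * g ^ (b - a) := by
      rw [h4] at h1
      have h6 : z = g ^ (b - a) * z * (g ^ (b - a))⁻¹ := by
        have h7 := congrArg (fun y => (g ^ a)⁻¹ * y * g ^ a) h1
        simpa [mul_assoc] using h7
      calc g ^ (b - a) * z = (g ^ (b - a) * z * (g ^ (b - a))⁻¹) * g ^ (b - a) := by group
        _ = z * g ^ (b - a) := by rw [← h6]
    have hco : (b - a).Coprime (orderOf g) := by
      rw [hgo']
      exact ((Nat.Prime.coprime_iff_not_dvd hp).2 (fun h6 => by
        have h7 := Nat.le_of_dvd (by omega) h6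
        omega)).symm
    obtain ⟨m, hm⟩ := exists_pow_eq_self_of_coprime hco
    have h6 : g ∈ centralizer ({z} : Set G) := by
      rw [← hm]
      exact pow_mem (mem_centralizer_singleton_iff.2 h5) m
    refine hC p hp ?_
    rw [← hgo', ← Subgroup.orderOf_mk g h6]
    exact orderOf_dvd_natCard _
  rcases lt_or_gt_of_ne (fun h1 : (i : ℕ) = j => hij (Fin.ext h1)) with h1 | h1
  · exact key i j h1 j.2 he
  · exact key j i h1 i.2 he.symm

theorem isPi_of_isPGroup {π : Set ℕ} (h2 : 2 ∈ π) {K : Subgroup G} (hK : IsPGroup 2 K) : IsPiSubgroup π K := by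
  have hfact : Fact (Nat.Prime 2) := ⟨Nat.prime_two⟩
  intro p hp hd
  obtain ⟨n, hn⟩ := IsPGroup.iff_card.1 hK
  rw [hn] at hd
  rw [(Nat.prime_dvd_prime_iff_eq hp Nat.prime_two).1 (hp.dvd_of_dvd_pow hd)]
  exact h2

/-- the first half: `C(z)` is a `π`-group -/
theorem isPi_centralizer {π : Set ℕ} (h2 : 2 ∈ π) (h : Large Q z) (T : Sylow 2 G)
    (hT : ∀ t ∈ (T : Subgroup G), t * z = z * t) {L : Type v} [Group L] {f : centralizer ({z} : Set G) →* L}
    (hf : Function.Surjective f) (hker : ∀ c, f c = 1 → (c : G) ∈ Q) (hL : Good π L) (hG : DT π G) :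
    IsPiSubgroup π (centralizer ({z} : Set G)) := by
  have hTC : (T : Subgroup G) ≤ centralizer ({z} : Set G) := fun t ht =>
    mem_centralizer_singleton_iff.2 (hT t ht)
  have hkp : IsPGroup 2 f.ker := by
    intro x
    obtain ⟨k, hk⟩ := isPGroup_Q h ⟨((x : centralizer ({z} : Set G)) : G), hker _ x.2⟩
    refine ⟨k, Subtype.ext (Subtype.ext ?_)⟩
    have h4 := congrArg Subtype.val hk
    exact h4
  have hkpi : IsPiSubgroup π f.ker := isPi_of_isPGroup h2 hkp
  have h4 : DT π (centralizer ({z} : Set G)) := hG.descend T hTC (normalizer_le h T hT)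
  have h5 := hL (h4.of_surjective f hf hkpi)
  intro p hp hd
  have h6 := Subgroup.card_eq_card_quotient_mul_card_subgroup f.ker
  rw [Nat.card_congr (QuotientGroup.quotientKerEquivOfSurjective f hf).toEquiv] at h6
  rw [h6] at hd
  rcases hp.dvd_mul.1 hd with h7 | h7
  · exact h5 p hp h7
  · exact hkpi p hp h7

/-- **`G` with a large extraspecial 2-subgroup.** -/
theorem good_of_large {π : Set ℕ} (h2 : 2 ∈ π) (h3 : 3 ∈ π) (h : Large Q z) (T : Sylow 2 G)
    (hT : ∀ t ∈ (T : Subgroup G), t * z = z * t) {L : Type v} [Group L] {f : centralizer ({z} : Set G) →* L}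
    (hf : Function.Surjective f) (hker : ∀ c, f c = 1 → (c : G) ∈ Q) (hL : Good π L)
    {n : G} (hv : n * z * n⁻¹ ∈ Q) (hvz : n * z * n⁻¹ ≠ z)
    (hTv : ∀ t ∈ (T : Subgroup G), t * (n * z * n⁻¹) * t⁻¹ = n * z * n⁻¹ ∨
      t * (n * z * n⁻¹) * t⁻¹ = n * z * n⁻¹ * z)
    (hgen : closure ({c : G | c * z = z * c} ∪ {n}) = ⊤) : Good π G := by
  intro hG
  have hzz := h.z_sq
  have hTC : (T : Subgroup G) ≤ centralizer ({z} : Set G) := fun t ht =>
    mem_centralizer_singleton_iff.2 (hT t ht)
  have hC := isPi_centralizer h2 h T hT hf hker hL hG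
  have hN := normalizer_le h T hT
  obtain ⟨H, hH, hHU⟩ := hG.exists_ge T (isPi_of_le hC hN)
  have hCH : centralizer ({z} : Set G) ≤ H := hHU _ hC hTC
  have hNpi := isPi_normalizer (v := n * z * n⁻¹) h2 h3 hC
  have hTN : (T : Subgroup G) ≤ normalizer (VV z (n * z * n⁻¹)) := by
    have key : ∀ t ∈ (T : Subgroup G), ∀ x ∈ VV z (n * z * n⁻¹), t * x * t⁻¹ ∈ VV z (n * z * n⁻¹) := by
      intro t ht x hx
      have htz : t * z * t⁻¹ = z := by rw [hT t ht]; group
      rcases hx with hx | hx | hx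
      · rw [hx]; exact Or.inl htz
      · rw [hx]
        rcases hTv t ht with h4 | h4
        · exact Or.inr (Or.inl h4)
        · exact Or.inr (Or.inr h4)
      · rw [hx]
        have e : t * (n * z * n⁻¹ * z) * t⁻¹ = (t * (n * z * n⁻¹) * t⁻¹) * (t * z * t⁻¹) := by group
        rw [e, htz]
        rcases hTv t ht with h4 | h4
        · rw [h4]; exact Or.inr (Or.inr rfl)
        · rw [h4, mul_assoc _ z z, hzz, mul_one]; exact Or.inr (Or.inl rfl)
    intro t ht
    refine mem_norm_of (key t ht) fun x hx => ?_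
    have h4 := key t⁻¹ (inv_mem ht) x hx
    rwa [inv_inv] at h4
  have hNH : normalizer (VV z (n * z * n⁻¹)) ≤ H := hHU _ hNpi hTN
  obtain ⟨r, hr, hrz⟩ := exists_fuse h hv hvz T hT hTv
  have hnH : n ∈ H := by
    have h4 : r⁻¹ * n ∈ centralizer ({z} : Set G) := by
      rw [mem_centralizer_singleton_iff]
      calc r⁻¹ * n * z = r⁻¹ * (n * z * n⁻¹) * n := by group
        _ = r⁻¹ * (r * z * r⁻¹) * n := by rw [hrz]
        _ = z * (r⁻¹ * n) := by group
    have h5 := H.mul_mem (hNH hr) (hCH h4)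
    rwa [mul_inv_cancel_left] at h5
  have htop : H = ⊤ := by
    rw [eq_top_iff, ← hgen, closure_le]
    rintro c (hc | hc)
    · exact hCH (mem_centralizer_singleton_iff.2 hc)
    · rw [Set.mem_singleton_iff] at hc
      rw [hc]; exact hnH
  intro p hp hd
  refine hH.pi p hp ?_
  rw [htop]
  rwa [Nat.card_congr (Subgroup.topEquiv (G := G)).toEquiv]

/-- a Sylow 2-subgroup inside a subgroup of odd index -/
theorem exists_sylow_le {G : Type u} [Group G] [Finite G] {K : Subgroup G} (hK : ¬ 2 ∣ K.index) :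
    ∃ T : Sylow 2 G, (T : Subgroup G) ≤ K := by
  have hfact : Fact (Nat.Prime 2) := ⟨Nat.prime_two⟩
  obtain ⟨P⟩ : Nonempty (Sylow 2 G) := inferInstance
  obtain ⟨a, ha⟩ := P.isPGroup'.nonempty_fixed_point_of_prime_not_dvd_card (G ⧸ K) (by
    rw [← Subgroup.index_eq_card]; exact hK)
  obtain ⟨g, rfl⟩ := QuotientGroup.mk_surjective a
  refine ⟨g⁻¹ • P, ?_⟩
  intro x hx
  rw [Sylow.coe_subgroup_smul, Subgroup.mem_pointwise_smul_iff_inv_smul_mem, ← map_inv, inv_inv, MulAut.smul_def,
    MulAut.conj_apply] at hx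
  have h1 : (g * x * g⁻¹) • (QuotientGroup.mk g : G ⧸ K) = QuotientGroup.mk g := ha ⟨_, hx⟩
  have h2 : (QuotientGroup.mk ((g * x * g⁻¹) * g) : G ⧸ K) = QuotientGroup.mk g := h1
  rw [QuotientGroup.eq] at h2
  have h3 := inv_mem h2
  have e : (((g * x * g⁻¹) * g)⁻¹ * g)⁻¹ = x := by group
  rwa [e] at h3

/-- `good_of_large` with a subgroup `K` of odd index of `C(z)` normalising `⟨z, v⟩` -/
theorem good_of_large' {π : Set ℕ} (h2 : 2 ∈ π) (h3 : 3 ∈ π) (h : Large Q z) {L : Type v} [Group L]
    {f : centralizer ({z} : Set G) →* L} (hf : Function.Surjective f) (hker : ∀ c, f c = 1 → (c : G) ∈ Q)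
    (hL : Good π L) {n : G} (hv : n * z * n⁻¹ ∈ Q) (hvz : n * z * n⁻¹ ≠ z) (K : Subgroup G) (hK : ¬ 2 ∣ K.index)
    (hKz : ∀ k ∈ K, k * z = z * k)
    (hKv : ∀ k ∈ K, k * (n * z * n⁻¹) * k⁻¹ = n * z * n⁻¹ ∨ k * (n * z * n⁻¹) * k⁻¹ = n * z * n⁻¹ * z)
    (hgen : closure ({c : G | c * z = z * c} ∪ {n}) = ⊤) : Good π G := by
  obtain ⟨T, hT⟩ := exists_sylow_le hK
  exact good_of_large h2 h3 h T (fun t ht => hKz t (hT ht)) hf hker hL hv hvz (fun t ht => hKv t (hT ht)) hgen

end fusion

end Cfsg.Agent.H861.PiS
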