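import Cfsg.Agent.H861.PiS.AltTools
import Cfsg.Agent.SporRec.TwoSp6.Sp

/-!
# S3876: `Good π Sp₆(2)` (helper861)
-/

set_option autoImplicit false

namespace Cfsg.Agent.H861.PiS

/-- an `F₂`-linear map of prime order `p ≥ 5` fixing `N` pointwise and acting on `M/N` of order `≤ 4` is trivial
on `M` -/
theorem lin_step {V : Type*} [AddCommGroup V] (h2 : ∀ v : V, v + v = 0) (f : V → V)
    (hadd : ∀ u v, f (u + v) = f u + f v) {p : ℕ} (hp : p.Prime) (h5 : 5 ≤ p) (hf : ∀ v, f^[p] v = v) (N M : Set V)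
    (hM : ∀ m ∈ M, f m ∈ M) (hN : ∀ n ∈ N, f n = n) {κ : Type*} [Fintype κ] (hκ : Fintype.card κ < 5)
    (r : V → κ) (hr : ∀ m ∈ M, ∀ m' ∈ M, r m = r m' → m + m' ∈ N) : ∀ m ∈ M, f m = m := by
  intro m hm
  have hMk : ∀ k : ℕ, f^[k] m ∈ M := by
    intro k
    induction k with
    | zero => exact hm
    | succ k ih => rw [Function.iterate_succ_apply']; exact hM _ ih
  have haddk : ∀ k : ℕ, ∀ u v, f^[k] (u + v) = f^[k] u + f^[k] v := by
    intro k
    induction k with
    | zero => intro u v; rfl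
    | succ k ih => intro u v; rw [Function.iterate_succ_apply', ih, hadd, Function.iterate_succ_apply',
        Function.iterate_succ_apply']
  have hinj : ∀ k : ℕ, Function.Injective (f^[k]) := by
    have h1 : Function.Injective f := by
      intro a b h
      have hp1 : p = (p - 1) + 1 := by have := hp.two_le; omega
      rw [← hf a, ← hf b, hp1, Function.iterate_succ_apply, Function.iterate_succ_apply, h]
    intro k
    exact h1.iterate k
  have hcard : Fintype.card κ < Fintype.card (Fin p) := by rw [Fintype.card_fin]; omega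
  obtain ⟨i, j, hij, he⟩ := Fintype.exists_ne_map_eq_of_card_lt (fun k : Fin p => r (f^[k.val] m)) hcard
  have key : ∀ i j : ℕ, i < j → j < p → r (f^[i] m) = r (f^[j] m) → f m = m := by
    intro i j hij hj he
    obtain ⟨m', hm'⟩ : ∃ m', m' = f^[i] m := ⟨_, rfl⟩
    obtain ⟨d, hd⟩ : ∃ d, d = j - i := ⟨_, rfl⟩
    have hj' : f^[j] m = f^[d] m' := by
      rw [hm', ← Function.iterate_add_apply, hd, Nat.sub_add_cancel hij.le]
    obtain ⟨n, hn⟩ : ∃ n, n = m' + f^[d] m' := ⟨_, rfl⟩
    have hnN : n ∈ N := by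
      rw [hn, ← hj', hm']
      exact hr _ (hMk i) _ (hMk j) he
    have hfn : ∀ k : ℕ, f^[k] n = n := by
      intro k
      induction k with
      | zero => rfl
      | succ k ih => rw [Function.iterate_succ_apply', ih, hN n hnN]
    have h3 : f^[d] m' = m' + n := by
      rw [hn, ← add_assoc, h2, zero_add]
    have h4 : f^[d + d] m' = m' := by
      rw [Function.iterate_add_apply, h3, haddk, h3, hfn, add_assoc, h2, add_zero]
    have hcop : Nat.Coprime (d + d) p := by
      refine (Nat.coprime_comm.1 ((Nat.Prime.coprime_iff_not_dvd hp).2 fun hdv => ?_))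
      rw [← two_mul] at hdv
      rcases (Nat.Prime.dvd_mul hp).1 hdv with h | h
      · have := Nat.le_of_dvd (by norm_num) h
        omega
      · have := Nat.le_of_dvd (by omega) h
        omega
    have h5 : Function.IsPeriodicPt f (d + d) m' := h4
    have h6 : Function.IsPeriodicPt f p m' := hf m'
    have h7 := h5.gcd h6
    rw [hcop] at h7
    have h8 : f m' = m' := h7
    rw [hm', ← Function.iterate_succ_apply' f i m, Function.iterate_succ_apply] at h8
    exact hinj i h8
  have hij' : i.val ≠ j.val := fun h => hij (Fin.ext h)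
  rcases lt_trichotomy i.val j.val with h | h | h
  · exact key i j h j.2 he
  · exact absurd h hij'
  · exact key j i h i.2 he.symm

namespace SpSix

open Cfsg Subgroup
open Cfsg.Agent.H841.PiBS
open Cfsg.Agent.GH.Pc Cfsg.Agent.GH.Models.Proj
open Cfsg.Agent.SporRec.TwoSp6.Sp

/-- the product of the coded transvections -/
def el (l : List ℕ) : S := (l.map fun c => tr (enc c)).prod

theorem el_nil : el [] = 1 := rfl

theorem el_cons (c : ℕ) (l : List ℕ) : el (c :: l) = tr (enc c) * el l := by
  unfold el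
  rw [List.map_cons, List.prod_cons]

theorem el_append (l m : List ℕ) : el (l ++ m) = el l * el m := by
  unfold el
  rw [List.map_append, List.prod_append]

theorem el_pow (l : List ℕ) (k : ℕ) : el l ^ k = el (List.replicate k l).flatten := by
  induction k with
  | zero => rfl
  | succ k ih => rw [pow_succ', ih, List.replicate_succ, List.flatten_cons, el_append]

/-- the action on codes -/
def st1 (c v : ℕ) : ℕ := if fN v c then v ^^^ c else v

def ap (l : List ℕ) (v : ℕ) : ℕ := l.foldr st1 v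

theorem act_tr_enc (c v : ℕ) : act (tr (enc c)) (enc v) = enc (st1 c v) := by
  rw [act_tr, om_enc]
  unfold st1
  by_cases h : fN v c
  · rw [if_pos h, if_pos h, one_smul, enc_xor]
  · rw [if_neg h, if_neg h, zero_smul, add_zero]

theorem act_el (l : List ℕ) (v : ℕ) : act (el l) (enc v) = enc (ap l v) := by
  induction l with
  | nil => rw [el_nil, act_one]; rfl
  | cons c l ih => rw [el_cons, act_mul, ih, act_tr_enc]; rfl

theorem ap_lt (l : List ℕ) (hl : ∀ c ∈ l, c < 64) {v : ℕ} (hv : v < 64) : ap l v < 64 := by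
  induction l with
  | nil => exact hv
  | cons c l ih =>
    have h1 := ih fun c hc => hl c (List.mem_cons_of_mem _ hc)
    have h2 := hl c List.mem_cons_self
    show st1 c (ap l v) < 64
    unfold st1
    split
    · exact Nat.xor_lt_two_pow (n := 6) h1 h2
    · exact h1

theorem enc_inj : ∀ c < 64, ∀ d < 64, enc c = enc d → c = d := by decide +kernel

/-- the images of the basis -/
def tb (l : List ℕ) : List ℕ := [ap l 1, ap l 2, ap l 4, ap l 8, ap l 16, ap l 32]

theorem ext_basis {g h : S} (H : ∀ k < 6, act g (enc (2 ^ k)) = act h (enc (2 ^ k))) : g = h := by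
  apply act_ext
  intro x
  obtain ⟨c, hc, rfl⟩ := exists_enc x
  have hz : enc 0 = 0 := by decide
  have h0 : ∀ g : S, act g 0 = 0 := fun g => by
    have h1 := act_add g 0 0
    rw [add_self, add_self] at h1
    exact h1
  have hstep : ∀ c < 64, c ≠ 0 → ∃ k < 6, c ^^^ 2 ^ k < c ∧ (c ^^^ 2 ^ k) ^^^ 2 ^ k = c := by decide +kernel
  have key : ∀ n c, c < n → c < 64 → act g (enc c) = act h (enc c) := by
    intro n
    induction n with
    | zero => intro c h; exact absurd h (Nat.not_lt_zero _)
    | succ n ih =>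
      intro c hn hc
      by_cases hc0 : c = 0
      · rw [hc0, hz, h0, h0]
      · obtain ⟨k, hk, h1, h2⟩ := hstep c hc hc0
        rw [← h2, enc_xor, act_add, act_add, ih _ (by omega) (by omega), H k hk]
  exact key _ c (Nat.lt_succ_self _) hc

theorem el_eq {l m : List ℕ} (h : tb l = tb m) : el l = el m := by
  apply ext_basis
  intro k hk
  rw [act_el, act_el]
  unfold tb at h
  simp only [List.cons.injEq, and_true] at h
  obtain ⟨h1, h2, h3, h4, h5, h6⟩ := h
  congr 1
  have hk' : k = 0 ∨ k = 1 ∨ k = 2 ∨ k = 3 ∨ k = 4 ∨ k = 5 := by omega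
  rcases hk' with rfl | rfl | rfl | rfl | rfl | rfl
  · exact h1
  · exact h2
  · exact h3
  · exact h4
  · exact h5
  · exact h6

theorem tb_eq {l m : List ℕ} (hl : ∀ c ∈ l, c < 64) (hm : ∀ c ∈ m, c < 64) (h : el l = el m) : tb l = tb m := by
  have key : ∀ v < 64, ap l v = ap m v := by
    intro v hv
    refine enc_inj _ (ap_lt l hl hv) _ (ap_lt m hm hv) ?_
    rw [← act_el, ← act_el, h]
  unfold tb
  rw [key 1 (by norm_num), key 2 (by norm_num), key 4 (by norm_num), key 8 (by norm_num), key 16 (by norm_num),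
    key 32 (by norm_num)]

/-- the words of the polycyclic family -/
def xw : Fin 9 → List ℕ := ![[1, 16, 17], [2, 32, 34], [4], [1, 32, 33], [2, 4, 6], [1, 4, 5], [2], [1, 2, 3], [1]]

theorem xw_lt : ∀ i, ∀ c ∈ xw i, c < 64 := by decide

def x (i : Fin 9) : S := el (xw i)

def P : Pres 9 where
  sq _ := []
  cj i j := match i.val, j.val with
    | 0, 1 => [1, 3]
    | 0, 4 => [4, 5]
    | 0, 6 => [6, 7, 8]
    | 1, 2 => [2, 4, 6]
    | 1, 5 => [5, 7]
    | 2, 3 => [3, 5, 8]
    | 3, 4 => [4, 7]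
    | _, _ => [j]

theorem P_ok : P.Ok := by decide

theorem word_x (l : List (Fin 9)) : word x l = el (l.flatMap xw) := by
  induction l with
  | nil => rfl
  | cons i l ih => rw [word_cons, ih, List.flatMap_cons, el_append]; rfl

theorem flat_lt (l : List (Fin 9)) : ∀ c ∈ l.flatMap xw, c < 64 := by
  intro c hc
  rw [List.mem_flatMap] at hc
  obtain ⟨i, -, hi⟩ := hc
  exact xw_lt i c hi

theorem sq_chk : ∀ i, tb (xw i ++ xw i) = tb ((P.sq i).flatMap xw) := by decide +kernel

theorem cj_chk : ∀ i j, i < j → tb (xw i ++ xw j) = tb ((P.cj i j).flatMap xw ++ xw i) := by decide +kernel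

theorem sat : Sat P x := by
  constructor
  · intro i
    rw [word_x]
    show el (xw i) * el (xw i) = _
    rw [← el_append]
    exact el_eq (sq_chk i)
  · intro i j hij
    rw [word_x]
    show el (xw i) * el (xw j) = _ * el (xw i)
    rw [← el_append, ← el_append]
    exact el_eq (cj_chk i j hij)

/-- the word of the normal form -/
def wl (e : Fin 9 → Bool) : List ℕ := ((List.finRange 9).filter fun i => e i).flatMap xw

theorem nf_eq (e : Fin 9 → Bool) : nf x e = el (wl e) := word_x _

theorem nf_chk : allB 9 (fun e => isZ e || !decide (tb (wl e) = tb [])) = true := by decide +kernel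

theorem nf_x (e : Fin 9 → Bool) (h : nf x e = 1) : e = fun _ => false := by
  have h1 := allB_spec nf_chk e
  rw [Bool.or_eq_true] at h1
  rcases h1 with h1 | h1
  · exact isZ_spec h1
  · rw [nf_eq, ← el_nil] at h
    have h2 := tb_eq (flat_lt _) (by simp) h
    rw [show tb (wl e) = tb [] from h2] at h1
    exact absurd h1 (by decide)

/-- the predicate of `cen_chk` (split into four pieces for the memory of the kernel check) -/
def cenP (e : Fin 9 → Bool) : Bool := decide (tb (wl e) = tb []) || decide (tb (wl e) = tb (xw 7)) ||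
    fN 8 (ap (wl e) 8) || (List.finRange 9).any fun i => !decide (tb (xw i ++ wl e) = tb (wl e ++ xw i))

theorem cenP_tt : allB 7 (fun e => cenP (Fin.cons true (Fin.cons true e))) = true := by decide +kernel

theorem cenP_tf : allB 7 (fun e => cenP (Fin.cons true (Fin.cons false e))) = true := by decide +kernel

theorem cenP_ft : allB 7 (fun e => cenP (Fin.cons false (Fin.cons true e))) = true := by decide +kernel

theorem cenP_ff : allB 7 (fun e => cenP (Fin.cons false (Fin.cons false e))) = true := by decide +kernel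

theorem allB_step (n : ℕ) (p : (Fin (n + 1) → Bool) → Bool) (h1 : allB n (fun e => p (Fin.cons true e)) = true)
    (h2 : allB n (fun e => p (Fin.cons false e)) = true) : allB (n + 1) p = true := by
  show (allB n (fun e => p (Fin.cons true e)) && allB n (fun e => p (Fin.cons false e))) = true
  rw [h1, h2]
  rfl

theorem cenP_all : allB 9 cenP = true :=
  allB_step 8 cenP (allB_step 7 (fun e => cenP (Fin.cons true e)) cenP_tt cenP_tf)
    (allB_step 7 (fun e => cenP (Fin.cons false e)) cenP_ft cenP_ff)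

theorem cen_chk : allB 9 (fun e => decide (tb (wl e) = tb []) || decide (tb (wl e) = tb (xw 7)) ||
    fN 8 (ap (wl e) 8) || (List.finRange 9).any fun i => !decide (tb (xw i ++ wl e) = tb (wl e ++ xw i))) = true :=
  cenP_all

/-- the invariant -/
def I (w : S) : Prop := w ≠ 1 ∧ ∀ v, om v (act w v) = 0

theorem I_conj (g w : S) (h : I w) : I (g * w * g⁻¹) := by
  refine ⟨fun h1 => h.1 ?_, fun v => ?_⟩
  · calc w = g⁻¹ * (g * w * g⁻¹) * g := by group
      _ = 1 := by rw [h1]; group
  · have h1 := h.2 (act g⁻¹ v)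
    rw [← act_om g, ← act_mul, ← act_mul, mul_inv_cancel, act_one, ← act_mul] at h1
    exact h1

theorem cen_x (e : Fin 9 → Bool) (h : ∀ i, x i * nf x e = nf x e * x i) (hI : I (nf x e)) : nf x e = x 7 := by
  have h1 := allB_spec cen_chk e
  rw [nf_eq] at h hI ⊢
  rw [Bool.or_eq_true, Bool.or_eq_true, Bool.or_eq_true] at h1
  rcases h1 with ((h1 | h1) | h1) | h1
  · exact absurd (el_eq (of_decide_eq_true h1)) hI.1
  · exact el_eq (of_decide_eq_true h1)
  · exfalso
    have h2 := hI.2 (enc 8)
    rw [act_el, om_enc, if_pos h1] at h2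
    exact one_ne_zero h2
  · exfalso
    rw [List.any_eq_true] at h1
    obtain ⟨i, -, hi⟩ := h1
    have h2 := h i
    unfold x at h2
    rw [← el_append, ← el_append] at h2
    have h3 := tb_eq (fun c hc => by
      rw [List.mem_append] at hc
      rcases hc with hc | hc
      · exact xw_lt i c hc
      · exact flat_lt _ c hc) (fun c hc => by
      rw [List.mem_append] at hc
      rcases hc with hc | hc
      · exact flat_lt _ c hc
      · exact xw_lt i c hc) h2
    rw [decide_eq_true h3] at hi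
    exact absurd hi (by decide)

theorem I_b : I (x 7) := by
  refine ⟨fun h => ?_, fun v => ?_⟩
  · have h1 := tb_eq (l := xw 7) (m := []) (xw_lt 7) (by simp) h
    exact absurd h1 (by decide)
  · obtain ⟨c, hc, rfl⟩ := exists_enc v
    show om (enc c) (act (el (xw 7)) (enc c)) = 0
    rw [act_el, om_enc]
    have : ∀ c < 64, fN c (ap (xw 7) c) = false := by decide +kernel
    rw [this c hc]
    rfl

/-! ### the centralizer of `x 7` -/

/-- the plane `[V, b]` -/
def NL : Set V := {v | ∃ u, v = act (x 7) u + u}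

/-- `C_V(b)` -/
def NM : Set V := {v | act (x 7) v = v}

theorem NL_coord : ∀ v ∈ NL, v (Sum.inl 2) = 0 ∧ v (Sum.inr 0) = 0 ∧ v (Sum.inr 1) = 0 ∧ v (Sum.inr 2) = 0 := by
  rintro _ ⟨u, rfl⟩
  obtain ⟨c, hc, rfl⟩ := exists_enc u
  show (act (el (xw 7)) (enc c) + enc c) _ = 0 ∧ (act (el (xw 7)) (enc c) + enc c) _ = 0 ∧
    (act (el (xw 7)) (enc c) + enc c) _ = 0 ∧ (act (el (xw 7)) (enc c) + enc c) _ = 0
  rw [act_el, ← enc_xor]
  revert c
  decide +kernel

theorem NL_of : ∀ v : V, v (Sum.inl 2) = 0 → v (Sum.inr 0) = 0 → v (Sum.inr 1) = 0 → v (Sum.inr 2) = 0 → v ∈ NL := by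
  intro v h1 h2 h3 h4
  obtain ⟨c, hc, rfl⟩ := exists_enc v
  have : ∀ c < 64, (enc c) (Sum.inl 2) = 0 → (enc c) (Sum.inr 0) = 0 → (enc c) (Sum.inr 1) = 0 →
      (enc c) (Sum.inr 2) = 0 → ∃ d < 64, c = ap (xw 7) d ^^^ d := by decide +kernel
  obtain ⟨d, -, hd⟩ := this c hc h1 h2 h3 h4
  refine ⟨enc d, ?_⟩
  show _ = act (el (xw 7)) (enc d) + enc d
  rw [act_el, ← enc_xor, ← hd]

theorem NM_iff (v : V) : v ∈ NM ↔ v (Sum.inr 0) = 0 ∧ v (Sum.inr 1) = 0 := by
  obtain ⟨c, hc, rfl⟩ := exists_enc v
  have h1 : (enc c ∈ NM) ↔ ap (xw 7) c = c := by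
    show act (el (xw 7)) (enc c) = enc c ↔ _
    rw [act_el]
    exact ⟨fun h => enc_inj _ (ap_lt _ (xw_lt 7) hc) _ hc h, fun h => by rw [h]⟩
  rw [h1]
  clear h1
  revert c
  decide +kernel

/-- no elements of prime order `≥ 5` in the centralizer -/
theorem cent_five {p : ℕ} (hp : p.Prime) (h5 : 5 ≤ p) (g : S) (hg : g ^ p = 1) (hc : g * x 7 = x 7 * g) : g = 1 := by
  have h2 : ∀ v : V, v + v = 0 := add_self
  have hadd := act_add g
  have hf : ∀ v, (act g)^[p] v = v := by
    have key : ∀ k v, (act g)^[k] v = act (g ^ k) v := by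
      intro k
      induction k with
      | zero => intro v; rw [pow_zero, act_one]; rfl
      | succ k ih => intro v; rw [Function.iterate_succ_apply', ih, pow_succ', act_mul]
    intro v
    rw [key, hg, act_one]
  have h0 : act g 0 = 0 := by
    have h1 := act_add g 0 0
    rw [add_self, add_self] at h1
    exact h1
  have hcomm : ∀ v, act g (act (x 7) v) = act (x 7) (act g v) := fun v => by rw [← act_mul, hc, act_mul]
  have s1 : ∀ v ∈ NL, act g v = v := by
    refine lin_step h2 (act g) hadd hp h5 hf {0} NL ?_ ?_ (κ := ZMod 2 × ZMod 2) (by decide)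
      (fun v => (v (Sum.inl 0), v (Sum.inl 1))) ?_
    · rintro _ ⟨u, rfl⟩
      exact ⟨act g u, by rw [hadd, hcomm]⟩
    · rintro _ rfl; exact h0
    · intro m hm m' hm' he
      have e1 := NL_coord m hm
      have e2 := NL_coord m' hm'
      have e3 : m (Sum.inl 0) = m' (Sum.inl 0) := congrArg Prod.fst he
      have e4 : m (Sum.inl 1) = m' (Sum.inl 1) := congrArg Prod.snd he
      have e5 : m = m' := by
        funext i
        rcases i with i | i
        · fin_cases i
          · exact e3
          · exact e4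
          · exact e1.1.trans e2.1.symm
        · fin_cases i
          · exact e1.2.1.trans e2.2.1.symm
          · exact e1.2.2.1.trans e2.2.2.1.symm
          · exact e1.2.2.2.trans e2.2.2.2.symm
      rw [e5]
      exact h2 _
  have s2 : ∀ v ∈ NM, act g v = v := by
    refine lin_step h2 (act g) hadd hp h5 hf NL NM ?_ s1 (κ := ZMod 2 × ZMod 2) (by decide)
      (fun v => (v (Sum.inl 2), v (Sum.inr 2))) ?_
    · intro m hm
      show act (x 7) (act g m) = act g m
      rw [← hcomm, show act (x 7) m = m from hm]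
    · intro m hm m' hm' he
      have e1 := (NM_iff m).1 hm
      have e2 := (NM_iff m').1 hm'
      have e3 : m (Sum.inl 2) = m' (Sum.inl 2) := congrArg Prod.fst he
      have e4 : m (Sum.inr 2) = m' (Sum.inr 2) := congrArg Prod.snd he
      have e0 : ∀ a : ZMod 2, a + a = 0 := by decide
      refine NL_of _ ?_ ?_ ?_ ?_
      · show m _ + m' _ = 0
        rw [e3]; exact e0 _
      · show m _ + m' _ = 0
        rw [e1.1, e2.1]; exact e0 _
      · show m _ + m' _ = 0
        rw [e1.2, e2.2]; exact e0 _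
      · show m _ + m' _ = 0
        rw [e4]; exact e0 _
  have s3 : ∀ v ∈ (Set.univ : Set V), act g v = v := by
    refine lin_step h2 (act g) hadd hp h5 hf NM Set.univ (fun _ _ => Set.mem_univ _) s2 (κ := ZMod 2 × ZMod 2)
      (by decide) (fun v => (v (Sum.inr 0), v (Sum.inr 1))) ?_
    · intro m _ m' _ he
      have e3 : m (Sum.inr 0) = m' (Sum.inr 0) := congrArg Prod.fst he
      have e4 : m (Sum.inr 1) = m' (Sum.inr 1) := congrArg Prod.snd he
      have e0 : ∀ a : ZMod 2, a + a = 0 := by decide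
      rw [NM_iff]
      refine ⟨?_, ?_⟩
      · show m _ + m' _ = 0
        rw [e3]; exact e0 _
      · show m _ + m' _ = 0
        rw [e4]; exact e0 _
  apply act_ext
  intro v
  rw [s3 v (Set.mem_univ v), act_one]

theorem norm_of (g : List ℕ) (h : tb (g ++ xw 7) = tb (xw 7 ++ g) ∨ tb (g ++ xw 7) = tb (xw 5 ++ g) ∨
      tb (g ++ xw 7) = tb (xw 5 ++ xw 7 ++ g))
    (h2 : tb (g ++ xw 5) = tb (xw 7 ++ g) ∨ tb (g ++ xw 5) = tb (xw 5 ++ g) ∨
      tb (g ++ xw 5) = tb (xw 5 ++ xw 7 ++ g))
    (h3 : tb (g ++ (xw 5 ++ xw 7)) = tb (xw 7 ++ g) ∨ tb (g ++ (xw 5 ++ xw 7)) = tb (xw 5 ++ g) ∨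
      tb (g ++ (xw 5 ++ xw 7)) = tb (xw 5 ++ xw 7 ++ g)) :
    el g ∈ normalizer (VV (x 7) (x 5)) := by
  have key : ∀ a b : List ℕ, tb (g ++ a) = tb (b ++ g) → el g * el a = el b * el g := by
    intro a b h
    rw [← el_append, ← el_append]
    exact el_eq h
  show el g ∈ normalizer (VV (el (xw 7)) (el (xw 5)))
  refine mem_norm_VV ?_ ?_ ?_
  · rw [← el_append (xw 5) (xw 7)]
    rcases h with h | h | h
    · exact Or.inl (key _ _ h)
    · exact Or.inr (Or.inl (key _ _ h))
    · exact Or.inr (Or.inr (key _ _ h))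
  · rw [← el_append (xw 5) (xw 7)]
    rcases h2 with h | h | h
    · exact Or.inl (key _ _ h)
    · exact Or.inr (Or.inl (key _ _ h))
    · exact Or.inr (Or.inr (key _ _ h))
  · rw [← el_append (xw 5) (xw 7)]
    rcases h3 with h | h | h
    · exact Or.inl (key _ _ h)
    · exact Or.inr (Or.inl (key _ _ h))
    · exact Or.inr (Or.inr (key _ _ h))

theorem norm_chk : ∀ i : Fin 9, (tb (xw i ++ xw 7) = tb (xw 7 ++ xw i) ∨ tb (xw i ++ xw 7) = tb (xw 5 ++ xw i) ∨
      tb (xw i ++ xw 7) = tb (xw 5 ++ xw 7 ++ xw i)) ∧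
    (tb (xw i ++ xw 5) = tb (xw 7 ++ xw i) ∨ tb (xw i ++ xw 5) = tb (xw 5 ++ xw i) ∨
      tb (xw i ++ xw 5) = tb (xw 5 ++ xw 7 ++ xw i)) ∧
    (tb (xw i ++ (xw 5 ++ xw 7)) = tb (xw 7 ++ xw i) ∨ tb (xw i ++ (xw 5 ++ xw 7)) = tb (xw 5 ++ xw i) ∨
      tb (xw i ++ (xw 5 ++ xw 7)) = tb (xw 5 ++ xw 7 ++ xw i)) := by
  decide +kernel

theorem card : Nat.card S = 1451520 := card_S

theorem not_dvd : ¬ 2 ^ (9 + 1) ∣ Nat.card S := by
  rw [card]; decide

/-- `Sp₆(2)` is a `π`-group -/
theorem good {π : Set ℕ} (h2 : 2 ∈ π) (h3 : 3 ∈ π) : Good π S := by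
  intro hd
  have hC : IsPiSubgroup π (centralizer ({x 7} : Set S)) :=
    isPi_of_five h2 h3 fun p hp h5 g hg hgp => cent_five hp h5 g hgp (mem_centralizer_singleton_iff.1 hg)
  have hcc : ∀ i, tb (xw i ++ xw 7) = tb (xw 7 ++ xw i) := by decide +kernel
  have hcz : ∀ i, x i * x 7 = x 7 * x i := fun i => by
    show el _ * el _ = el _ * el _
    rw [← el_append, ← el_append]
    exact el_eq (hcc i)
  obtain ⟨H, hH, hU⟩ := exists_H P_ok sat nf_x not_dvd I I_conj I_b (subset_closure ⟨7, rfl⟩) hcz cen_x hC hd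
  have hHC := hU _ hC fun i => mem_centralizer_singleton_iff.2 (hcz i)
  have hH1 := hU _ (isPi_normalizer h2 h3 (v := x 5) hC) fun i =>
    norm_of (xw i) (norm_chk i).1 (norm_chk i).2.1 (norm_chk i).2.2
  have m1 : el [32] ∈ H := hHC (mem_centralizer_singleton_iff.2 (by
    show el _ * el _ = el _ * el _
    rw [← el_append, ← el_append]
    exact el_eq (by decide +kernel)))
  have m2 : el [2, 8, 10] ∈ H := hHC (mem_centralizer_singleton_iff.2 (by
    show el _ * el _ = el _ * el _
    rw [← el_append, ← el_append]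
    exact el_eq (by decide +kernel)))
  have m3 : el [4, 16, 20] ∈ H := hH1 (norm_of _ (by decide +kernel) (by decide +kernel) (by decide +kernel))
  have mx : ∀ i, el (xw i) ∈ H := fun i => hHC (mem_centralizer_singleton_iff.2 (hcz i))
  have p5 : 5 ∈ π := by
    refine mem_pi_of hH.pi (by norm_num) (mul_mem (mul_mem (mul_mem m1 m3) (mx 2)) (mx 1)) ?_ fun h => ?_
    · rw [← el_append, ← el_append, ← el_append, el_pow, ← el_nil]
      exact el_eq (by decide +kernel)
    · rw [← el_append, ← el_append, ← el_append, ← el_nil] at h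
      exact absurd (tb_eq (by decide +kernel) (by simp) h) (by decide +kernel)
  have p7 : 7 ∈ π := by
    refine mem_pi_of hH.pi (by norm_num) (mul_mem (mul_mem (mul_mem m2 m3) (mx 1)) (mx 0)) ?_ fun h => ?_
    · rw [← el_append, ← el_append, ← el_append, el_pow, ← el_nil]
      exact el_eq (by decide +kernel)
    · rw [← el_append, ← el_append, ← el_append, ← el_nil] at h
      exact absurd (tb_eq (by decide +kernel) (by simp) h) (by decide +kernel)
  intro p hp hpd
  rw [card, show (1451520 : ℕ) = 2 ^ 9 * 3 ^ 4 * 5 * 7 by norm_num] at hpd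
  rcases (Nat.Prime.dvd_mul hp).1 hpd with h | h
  · rcases (Nat.Prime.dvd_mul hp).1 h with h | h
    · rcases (Nat.Prime.dvd_mul hp).1 h with h | h
      · rw [(Nat.prime_dvd_prime_iff_eq hp Nat.prime_two).1 (hp.dvd_of_dvd_pow h)]; exact h2
      · rw [(Nat.prime_dvd_prime_iff_eq hp Nat.prime_three).1 (hp.dvd_of_dvd_pow h)]; exact h3
    · rw [(Nat.prime_dvd_prime_iff_eq hp (by norm_num)).1 h]; exact p5
  · rw [(Nat.prime_dvd_prime_iff_eq hp (by norm_num)).1 h]; exact p7

end SpSix

end Cfsg.Agent.H861.PiS
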