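import Cfsg.Agent.H861.PiS.Tools2
import Cfsg.Agent.H861.PiS.SpSix
import Cfsg.Agent.KFacts.CoTwo.QuotInst

/-!
# S3876: the Conway group `Co₂`, `2, 3 ∈ π` (helper861)
-/

set_option autoImplicit false
set_option maxRecDepth 100000

namespace Cfsg.Agent.H861.PiS.CoTwoRow

open Cfsg Subgroup
open Cfsg.Agent.H841.PiBS Cfsg.Agent.H543.PiBS
open Cfsg.Agent.Co2Type.Mono Cfsg.Agent.Co2Type.TData Cfsg.Agent.Co2Type.TGroup Cfsg.Agent.Co2Type.FactsD
open Cfsg.Agent.KFacts.CoTwo.RSub Cfsg.Agent.KFacts.CoTwo.RLarge Cfsg.Agent.KFacts.Co2.T1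
open Cfsg.Agent.KFacts.CoTwo Cfsg.Agent.SporadicStructure.M24El Cfsg.Agent.SporadicA.GolayPerm
  Cfsg.Agent.SporadicA.Co0Mono
open Cfsg.Agent.KFacts.CoTwo.RIrr (conj_ge')

/-- the five complements of octads -/
def M5 : List ℕ := [8101306, 5930970, 6946666, 3406834, 8120056]

def uQ : ℕ := 966630983650157412946098429213641024
def cQ : ℕ := 969224839722636323790040143230996000
def mt : ℕ := 7337022
def m1 : ℕ := 8120056
def m2 : ℕ := 3005942

theorem chkM5 : (M5.all fun m => inE m) = true := by decide +kernel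
theorem chkT5 : (L22.all fun P => M5.all fun m => memL (pimg P m) M5) = true := by decide +kernel
theorem chku5 : (M5.all fun m => memL (pimg uQ m) M5) = true := by decide +kernel
theorem ou : okP uQ = true := by decide +kernel
theorem oc : okP cQ = true := by decide +kernel
theorem lu : uQ < 2 ^ 120 := by decide +kernel
theorem lc : cQ < 2 ^ 120 := by decide +kernel
theorem i1 : inE m1 = true := by decide +kernel
theorem i2 : inE m2 = true := by decide +kernel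
theorem it : inE mt = true := by decide +kernel
theorem u1 : pimg uQ mz = m1 := by decide +kernel
theorem c0 : pimg cQ mz = mz := by decide +kernel
theorem c1 : pimg cQ m1 = m2 := by decide +kernel
theorem u2 : pimg uQ m2 = mt := by decide +kernel
theorem rt : pimg rQ mw = mt := by decide +kernel

noncomputable def M : Finset Spor.Co2 := by
  classical
  exact (M5.map ge).toFinset

theorem mem_M {x : Spor.Co2} : x ∈ M ↔ ∃ m ∈ M5, ge m = x := by
  classical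
  unfold M
  rw [List.mem_toFinset, List.mem_map]

theorem card_M : M.card ≤ 5 := by
  classical
  unfold M
  exact (List.toFinset_card_le _).trans (by rw [List.length_map]; decide)

theorem inE_of {m : ℕ} (h : m ∈ M5) : inE m = true := List.all_eq_true.1 chkM5 m h

theorem mz_mem5 : mz ∈ M5 := by decide

theorem good {π : Set ℕ} (h2 : 2 ∈ π) (h3 : 3 ∈ π) : Good π Spor.Co2 := by
  intro hd
  have hfin := Cfsg.Agent.Schreier.CoTwoStab.finite
  obtain ⟨f, hf, hker⟩ := QuotInst.dataT.quot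
  have hTz : ∀ t ∈ (Cfsg.Agent.Co2Type.FactsClass.TSyl : Subgroup Spor.Co2), t * ge mz = ge mz * t := z_comm
  have hC : IsPiSubgroup π (centralizer ({ge mz} : Set Spor.Co2)) :=
    isPi_centralizer h2 large Cfsg.Agent.Co2Type.FactsClass.TSyl hTz hf (fun c hc => (hker c).1 hc) (SpSix.good h2 h3) hd
  have hNT := normalizer_le large Cfsg.Agent.Co2Type.FactsClass.TSyl hTz
  obtain ⟨H, hH, hU⟩ := hd.exists_ge Cfsg.Agent.Co2Type.FactsClass.TSyl (isPi_of_le hC hNT)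
  have hTle : (Cfsg.Agent.Co2Type.FactsClass.TSyl : Subgroup Spor.Co2) ≤ centralizer ({ge mz} : Set Spor.Co2) :=
    fun t ht => mem_centralizer_singleton_iff.2 (hTz t ht)
  have hHC := hU _ hC hTle
  -- the primes
  have h5 : 5 ∈ π := by
    refine hC 5 (by norm_num) ?_
    have h4 : Nat.card Quot.Sp62 ∣ Nat.card (centralizer ({ge mz} : Set Spor.Co2)) := by
      exact Subgroup.card_dvd_of_surjective f hf
    refine dvd_trans ?_ h4
    rw [show Nat.card Quot.Sp62 = 1451520 from Cfsg.Agent.SporRec.TwoSp6.Sp.card_S]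
    norm_num
  have hM : IsPiSubgroup π (normalizer (M : Set Spor.Co2)) := by
    refine isPi_normalizer_fin M (z := ge mz) (mem_M.2 ⟨mz, mz_mem5, rfl⟩) hC fun p hp hpi => ?_
    refine lt_of_le_of_lt card_M ?_
    have e2 : p ≠ 2 := by rintro rfl; exact hpi h2
    have e3 : p ≠ 3 := by rintro rfl; exact hpi h3
    have e5 : p ≠ 5 := by rintro rfl; exact hpi h5
    have e4 : p ≠ 4 := by rintro rfl; exact absurd hp (by decide)
    have := hp.two_le
    omega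
  have hTM : (Cfsg.Agent.Co2Type.FactsClass.TSyl : Subgroup Spor.Co2) ≤ normalizer (M : Set Spor.Co2) := by
    intro t ht
    have ht' : t ∈ T := ht
    refine mem_norm_fin (Finset.finite_toSet M) fun x hx => ?_
    obtain ⟨n, P, hn, hP, rfl⟩ := ht'
    obtain ⟨m, hm, rfl⟩ := mem_M.1 hx
    rw [conj_ge' hn (inE_of hm) hP]
    have h4 : memL (pimg P m) M5 = true := List.all_eq_true.1 (List.all_eq_true.1 chkT5 P hP) m hm
    have h5 : pimg P m ∈ M5 := memL_iff.1 h4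
    exact mem_M.2 ⟨_, h5, rfl⟩
  have hHM := hU _ hM hTM
  have mu : mo2 0 uQ ∈ H := by
    refine hHM (mem_norm_fin (Finset.finite_toSet M) fun x hx => ?_)
    obtain ⟨m, hm, rfl⟩ := mem_M.1 hx
    rw [conj_ge ou lu (inE_of hm) rfl]
    have h4 : memL (pimg uQ m) M5 = true := List.all_eq_true.1 chku5 m hm
    have h5 : pimg uQ m ∈ M5 := memL_iff.1 h4
    exact mem_M.2 ⟨_, h5, rfl⟩
  have mc : mo2 0 cQ ∈ H := by
    refine hHC (mem_centralizer_singleton_iff.2 ?_)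
    have h4 := conj_ge oc lc iz c0
    calc mo2 0 cQ * ge mz = mo2 0 cQ * ge mz * (mo2 0 cQ)⁻¹ * mo2 0 cQ := by group
      _ = ge mz * mo2 0 cQ := by rw [h4]
  have mw' := mul_mem (mul_mem mu mc) mu
  have hw : mo2 0 uQ * mo2 0 cQ * mo2 0 uQ * ge mz * (mo2 0 uQ * mo2 0 cQ * mo2 0 uQ)⁻¹ = ge mt := by
    have e1 := conj_ge ou lu iz u1
    have e2 := conj_ge oc lc i1 c1
    have e3 := conj_ge ou lu i2 u2
    calc mo2 0 uQ * mo2 0 cQ * mo2 0 uQ * ge mz * (mo2 0 uQ * mo2 0 cQ * mo2 0 uQ)⁻¹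
        = mo2 0 uQ * (mo2 0 cQ * (mo2 0 uQ * ge mz * (mo2 0 uQ)⁻¹) * (mo2 0 cQ)⁻¹) * (mo2 0 uQ)⁻¹ := by group
      _ = ge mt := by rw [e1, e2, e3]
  have hr := r_i
  have hrn : mo2 0 rQ * n * (mo2 0 rQ)⁻¹ * ge mz * (mo2 0 rQ * n * (mo2 0 rQ)⁻¹)⁻¹ = ge mt := by
    have e1 := conj_ge or' lr iw rt
    have e2 : (mo2 0 rQ)⁻¹ * ge mz * mo2 0 rQ = ge mi := by rw [← hr]; group
    calc mo2 0 rQ * n * (mo2 0 rQ)⁻¹ * ge mz * (mo2 0 rQ * n * (mo2 0 rQ)⁻¹)⁻¹
        = mo2 0 rQ * (n * ((mo2 0 rQ)⁻¹ * ge mz * mo2 0 rQ) * n⁻¹) * (mo2 0 rQ)⁻¹ := by group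
      _ = ge mt := by rw [e2, n_i, e1]
  have mrn : mo2 0 rQ * n * (mo2 0 rQ)⁻¹ ∈ H := by
    obtain ⟨w, hw'⟩ : ∃ w, w = mo2 0 uQ * mo2 0 cQ * mo2 0 uQ := ⟨_, rfl⟩
    obtain ⟨k, hk⟩ : ∃ k, k = mo2 0 rQ * n * (mo2 0 rQ)⁻¹ := ⟨_, rfl⟩
    rw [← hw'] at mw' hw
    rw [← hk] at hrn ⊢
    have h4 : w⁻¹ * k ∈ centralizer ({ge mz} : Set Spor.Co2) := by
      rw [mem_centralizer_singleton_iff]
      have h5 : k * ge mz = ge mt * k := by rw [← hrn]; group
      have h6 : w⁻¹ * ge mt = ge mz * w⁻¹ := by rw [← hw]; group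
      calc w⁻¹ * k * ge mz = w⁻¹ * (k * ge mz) := by group
        _ = (w⁻¹ * ge mt) * k := by rw [h5]; group
        _ = ge mz * (w⁻¹ * k) := by rw [h6]; group
    have h5 := mul_mem mw' (hHC h4)
    rwa [mul_inv_cancel_left] at h5
  -- generation
  refine pg_of_top hH.pi ?_
  have hmap : (H.map (MulAut.conj (mo2 0 rQ)⁻¹).toMonoidHom) = ⊤ := by
    rw [eq_top_iff, ← gen, closure_le]
    rintro x (hx | rfl)
    · show x ∈ H.map (MulAut.conj (mo2 0 rQ)⁻¹).toMonoidHom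
      rw [mem_map_conj, inv_inv]
      refine hHC (mem_centralizer_singleton_iff.2 ?_)
      have hx' : x * ge mi = ge mi * x := hx
      calc mo2 0 rQ * x * (mo2 0 rQ)⁻¹ * ge mz = mo2 0 rQ * x * (mo2 0 rQ)⁻¹ * (mo2 0 rQ * ge mi * (mo2 0 rQ)⁻¹) := by rw [hr]
        _ = mo2 0 rQ * (x * ge mi) * (mo2 0 rQ)⁻¹ := by group
        _ = (mo2 0 rQ * ge mi * (mo2 0 rQ)⁻¹) * (mo2 0 rQ * x * (mo2 0 rQ)⁻¹) := by rw [hx']; group
        _ = ge mz * (mo2 0 rQ * x * (mo2 0 rQ)⁻¹) := by rw [hr]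
    · show n ∈ H.map (MulAut.conj (mo2 0 rQ)⁻¹).toMonoidHom
      rw [mem_map_conj, inv_inv]
      exact mrn
  rw [eq_top_iff]
  intro x _
  have h6 : (mo2 0 rQ)⁻¹ * x * mo2 0 rQ ∈ H.map (MulAut.conj (mo2 0 rQ)⁻¹).toMonoidHom := by
    rw [hmap]; exact mem_top _
  rw [mem_map_conj, inv_inv] at h6
  have e : mo2 0 rQ * ((mo2 0 rQ)⁻¹ * x * mo2 0 rQ) * (mo2 0 rQ)⁻¹ = x := by group
  rwa [e] at h6

theorem row_Co2 {S : Type*} [Group S] [Finite S] (h : Cfsg.Spor.IsoCo2 S) {π : Set ℕ} (h2 : 2 ∈ π) (h3 : 3 ∈ π)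
    (hD : DC π S) : PiGrp π S := by
  obtain ⟨e⟩ := h
  have hfin := Cfsg.Agent.Schreier.CoTwoStab.finite
  exact row_of_good (Good.congr e (good h2 h3)) h2 hD

end Cfsg.Agent.H861.PiS.CoTwoRow
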