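import Cfsg.Agent.H861.PiS.BabyOrb
import Cfsg.Agent.H861.PiS.CoTwoRow
import Cfsg.Agent.KFacts.Baby.RowB
import Cfsg.Agent.Schreier.CoTwoStab

/-!
# S3876: the Baby Monster, `2, 3 ∈ π` (helper861)
-/

set_option autoImplicit false

namespace Cfsg.Agent.H861.PiS.BabyRow

open Cfsg Subgroup
open Cfsg.Agent.H841.PiBS Cfsg.Agent.H543.PiBS
open Cfsg.Agent.Monster Cfsg.Agent.Monster.VecEngine Cfsg.Agent.Monster.VecSpace
open Cfsg.Agent.BabyM Cfsg.Agent.BabyM.Model Cfsg.Agent.BabyM.Conc Cfsg.Agent.BabyM.KTab Cfsg.Agent.BabyM.Co2GenStd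
open Cfsg.Agent.BabyU.ClosModel
open Cfsg.Agent.BabyU.ClosLane (A)
open Cfsg.Agent.KFacts.Baby.Inst (large quot odd_index mem_cen z'_eq)
open Cfsg.Agent.H861.PiS.BabyOrb

theorem good_co2 {π : Set ℕ} (h2 : 2 ∈ π) (h3 : 3 ∈ π) : Good π GroupInst.K₀ := by
  obtain ⟨e⟩ := Cfsg.Agent.Schreier.CoTwoStab.exists_equiv l₀ GroupInst.dt_l₀
  have hfin := Cfsg.Agent.Schreier.CoTwoStab.finite
  have hfin' : Finite GroupInst.K₀ := Finite.of_equiv _ e.symm.toEquiv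
  exact Good.congr e (CoTwoRow.good h2 h3)

theorem good {π : Set ℕ} (h2 : 2 ∈ π) (h3 : 3 ∈ π) : Good π Inst.M.G := by
  have hfin := A.finite_G
  obtain ⟨f, hf, hker⟩ := quot A
  have hodd := odd_index A
  obtain ⟨T, hT⟩ := exists_sylow_le (K := centralizer ({zz A} : Set Inst.M.G)) hodd.not_two_dvd_nat
  let T' : Subgroup Inst.M.C := (T : Subgroup Inst.M.G).comap (Subgroup.inclusion A.C_le_G)
  have hT' : IsPGroup 2 T' := T.isPGroup'.comap_of_injective _ (Subgroup.inclusion_injective _)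
  obtain ⟨g, hg⟩ := exists_pairB T' hT'
  have hgG : (g : V ≃ₗ[ℚ] V) ∈ Inst.M.G := A.C_le_G g.2
  have hτ : Inst.M.τ ∈ Inst.M.G := A.τ_mem_G
  obtain ⟨n, hn⟩ : ∃ n : Inst.M.G, n = ⟨g, hgG⟩ * ⟨Inst.M.τ, hτ⟩ := ⟨_, rfl⟩
  have hnz : ((n * zz A * n⁻¹ : Inst.M.G) : V ≃ₗ[ℚ] V) = g * Cd.R xc * (g : V ≃ₗ[ℚ] V)⁻¹ := by
    rw [hn]
    show (g : V ≃ₗ[ℚ] V) * Inst.M.τ * Inst.M.z * ((g : V ≃ₗ[ℚ] V) * Inst.M.τ)⁻¹ = _
    have h := z'_eq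
    have h' : Cd.R xc = Inst.M.τ * Inst.M.z * Inst.M.τ⁻¹ := h.symm
    rw [h']
    group
  have hTz : ∀ t ∈ (T : Subgroup Inst.M.G), t * zz A = zz A * t := fun t ht =>
    mem_centralizer_singleton_iff.1 (hT ht)
  refine good_of_large h2 h3 (large A) T hTz hf (fun c hc => (hker c).1 hc) (good_co2 h2 h3) (n := n) ?_ ?_ ?_ ?_
  · rw [mem_PP, hnz, al_spec]
    exact Cfsg.Agent.BabyU.ClosLane.R_mem_Q _
  · intro h
    apply A.orb.τ_z_ne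
    have h1 : (⟨g, hgG⟩ : Inst.M.G)⁻¹ * (n * zz A * n⁻¹) * ⟨g, hgG⟩ = ⟨Inst.M.τ, hτ⟩ * zz A * (⟨Inst.M.τ, hτ⟩)⁻¹ := by
      rw [hn]; group
    have h4 : (g : V ≃ₗ[ℚ] V) * Inst.M.z = Inst.M.z * g := A.grp.z_comm g g.2
    have h5 : (⟨g, hgG⟩ : Inst.M.G)⁻¹ * zz A * ⟨g, hgG⟩ = zz A := by
      have h6 : (⟨g, hgG⟩ : Inst.M.G) * zz A = zz A * ⟨g, hgG⟩ := Subtype.ext h4
      rw [mul_assoc, ← h6]; group
    rw [h, h5] at h1
    exact (congrArg Subtype.val h1).symm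
  · intro t ht
    have htC : (t : V ≃ₗ[ℚ] V) ∈ Inst.M.C := (mem_cen A).1 (hT ht)
    have h1 := hg ⟨t, htC⟩ (by
      show Subgroup.inclusion A.C_le_G ⟨t, htC⟩ ∈ (T : Subgroup Inst.M.G)
      exact ht)
    refine h1.imp (fun h => Subtype.ext ?_) (fun h => Subtype.ext ?_)
    · show (t : V ≃ₗ[ℚ] V) * ((n * zz A * n⁻¹ : Inst.M.G) : V ≃ₗ[ℚ] V) * (t : V ≃ₗ[ℚ] V)⁻¹ = _
      rw [hnz]; exact h
    · show (t : V ≃ₗ[ℚ] V) * ((n * zz A * n⁻¹ : Inst.M.G) : V ≃ₗ[ℚ] V) * (t : V ≃ₗ[ℚ] V)⁻¹ =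
        ((n * zz A * n⁻¹ : Inst.M.G) : V ≃ₗ[ℚ] V) * Inst.M.z
      rw [hnz]; exact h
  · -- generation
    rw [eq_top_iff]
    set N := Subgroup.closure ({c : Inst.M.G | c * zz A = zz A * c} ∪ {n}) with hN
    have hgN : (⟨g, hgG⟩ : Inst.M.G) ∈ N := subset_closure (Or.inl (Subtype.ext (A.grp.z_comm g g.2)))
    have hτN : (⟨Inst.M.τ, hτ⟩ : Inst.M.G) ∈ N := by
      have h1 : n ∈ N := subset_closure (Or.inr rfl)
      have h2 := mul_mem (inv_mem hgN) h1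
      rw [hn, inv_mul_cancel_left] at h2
      exact h2
    have h1 : Inst.M.G ≤ N.map Inst.M.G.subtype := by
      show Subgroup.closure _ ≤ _
      rw [Subgroup.closure_le]
      rintro x (hx | hx)
      · refine ⟨⟨x, A.C_le_G hx⟩, Subgroup.subset_closure (Or.inl ?_), rfl⟩
        exact Subtype.ext (A.grp.z_comm x hx)
      · rw [Set.mem_singleton_iff] at hx
        subst hx
        exact ⟨⟨Inst.M.τ, A.τ_mem_G⟩, hτN, rfl⟩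
    rintro ⟨x, hx⟩ _
    obtain ⟨m, hm, e⟩ := h1 hx
    have : m = ⟨x, hx⟩ := Subtype.ext e
    rwa [this] at hm

theorem row_B {S : Type*} [Group S] [Finite S] (h : Cfsg.Spor.IsoB S) {π : Set ℕ} (h2 : 2 ∈ π) (h3 : 3 ∈ π)
    (hD : DC π S) : PiGrp π S := by
  obtain ⟨e⟩ := Cfsg.Agent.KFacts.Baby.RowB.exists_iso h
  have hfin := A.finite_G
  exact row_of_good (Good.congr e.symm (good h2 h3)) h2 hD

end Cfsg.Agent.H861.PiS.BabyRow
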