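import Cfsg.Agent.H861.PiS.Ext

/-!
# S3876: the invariant four-group in a large extraspecial subgroup (helper861)

The number of pairs `{v, v z}` of noncentral involutions of `Q` is odd, so a Sylow 2-subgroup fixes one.
-/

set_option autoImplicit false

namespace Cfsg.Agent.H861.PiS

open Cfsg Subgroup
open Cfsg.Agent.H841.PiBS
open Cfsg.Agent.Co2Type.Quad (Large)

universe u v

/-- a set saturated by a subgroup of order 4 -/
theorem four_dvd_of_sat {G : Type u} [Group G] [Finite G] (E : Subgroup G) (hE : Nat.card E = 4) (A : Set G)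
    (hA : ∀ a ∈ A, ∀ e ∈ E, a * e ∈ A) : 4 ∣ A.ncard := by
  have h1 : (QuotientGroup.mk ⁻¹' (QuotientGroup.mk '' A : Set (G ⧸ E)) : Set G) = A := by
    ext x
    constructor
    · rintro ⟨a, ha, he⟩
      have h2 : a⁻¹ * x ∈ E := QuotientGroup.eq.1 he
      have h3 := hA a ha _ h2
      rwa [mul_inv_cancel_left] at h3
    · intro hx
      exact ⟨x, hx, rfl⟩
  have h2 := Nat.card_congr (QuotientGroup.preimageMkEquivSubgroupProdSet E (QuotientGroup.mk '' A))
  rw [Nat.card_prod, hE, h1] at h2
  exact ⟨_, h2⟩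

variable {G : Type u} [Group G] {Q : Subgroup G} {z : G}

/-- the number of `x ∈ Q` with `x² = 1` is divisible by 4 -/
theorem four_dvd_inv [Finite G] (h : Large Q z) (h16 : 16 ∣ Nat.card Q) {v : G} (hv : v ∈ Q) (hv2 : v * v = 1)
    (hv1 : v ≠ 1) (hvz : v ≠ z) : 4 ∣ {x : G | x ∈ Q ∧ x * x = 1}.ncard := by
  classical
  have hzz := h.z_sq
  have hvz' : v * z = z * v := h.comm_z v hv
  obtain ⟨q, hq, hqv⟩ : ∃ q ∈ Q, v * q ≠ q * v := by
    by_contra hne
    push Not at hne
    rcases h.cent v hv hne with h1 | h1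
    · exact hv1 h1
    · exact hvz h1
  have hvq : v * q = q * v * z := (h.comm v hv q hq).resolve_left hqv
  -- the two parts
  have hY1 : 4 ∣ {x : G | x ∈ Q ∧ x * x = 1 ∧ x * v = v * x}.ncard := by
    have hvzne : v * z ≠ 1 := fun h1 => hvz (by
      calc v = v * z * z := by rw [mul_assoc, hzz, mul_one]
        _ = z := by rw [h1, one_mul])
    let E : Subgroup G :=
      { carrier := {x | x = 1 ∨ x = z ∨ x = v ∨ x = v * z}
        one_mem' := Or.inl rfl
        mul_mem' := by
          have e1 : z * v = v * z := hvz'.symm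
          have e2 : z * (v * z) = v := by rw [← mul_assoc, e1, mul_assoc, hzz, mul_one]
          have e3 : v * z * z = v := by rw [mul_assoc, hzz, mul_one]
          have e4 : v * z * v = z := by rw [mul_assoc, e1, ← mul_assoc, hv2, one_mul]
          have e5 : v * (v * z) = z := by rw [← mul_assoc, hv2, one_mul]
          have e6 : v * z * (v * z) = 1 := by rw [← mul_assoc, e4, hzz]
          rintro a b (rfl | rfl | rfl | rfl) (rfl | rfl | rfl | rfl) <;>
            simp only [one_mul, mul_one, hzz, hv2, e1, e2, e3, e4, e5, e6, Set.mem_ofPred_eq, true_or, or_true]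
        inv_mem' := by
          have e6 : v * z * (v * z) = 1 := by
            rw [← mul_assoc, mul_assoc v z v, ← hvz', ← mul_assoc, hv2, one_mul, hzz]
          rintro a (rfl | rfl | rfl | rfl)
          · exact Or.inl inv_one
          · exact Or.inr (Or.inl (inv_eq_of_mul_eq_one_right hzz))
          · exact Or.inr (Or.inr (Or.inl (inv_eq_of_mul_eq_one_right hv2)))
          · exact Or.inr (Or.inr (Or.inr (inv_eq_of_mul_eq_one_right e6))) }
    have hEc : Nat.card E = 4 := by
      have h1 : (E : Set G) = (({1, z, v, v * z} : Finset G) : Set G) := by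
        ext x
        simp only [Finset.coe_insert, Finset.coe_singleton, Set.mem_insert_iff, Set.mem_singleton_iff]
        exact Iff.rfl
      have h2 : Nat.card E = (E : Set G).ncard := rfl
      rw [h2, h1, Set.ncard_coe_finset]
      have n1 : (1 : G) ≠ z := fun h => (Large.z_ne ‹_›) h.symm
      have n2 : (1 : G) ≠ v := fun h => hv1 h.symm
      have n3 : (1 : G) ≠ v * z := fun h => hvzne h.symm
      have n4 : z ≠ v := fun h => hvz h.symm
      have n5 : z ≠ v * z := fun h1 => hv1 (by
        have h2 : 1 * z = v * z := by rw [one_mul]; exact h1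
        exact (mul_right_cancel h2).symm)
      have n6 : v ≠ v * z := fun h1 => h.z_ne (by
        have h2 : v * 1 = v * z := by rw [mul_one]; exact h1
        exact (mul_left_cancel h2).symm)
      rw [Finset.card_insert_of_notMem, Finset.card_insert_of_notMem, Finset.card_insert_of_notMem,
        Finset.card_singleton]
      · simpa using n6
      · simp only [Finset.mem_insert, Finset.mem_singleton, not_or]
        exact ⟨n4, n5⟩
      · simp only [Finset.mem_insert, Finset.mem_singleton, not_or]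
        exact ⟨n1, n2, n3⟩
    refine four_dvd_of_sat E hEc _ ?_
    rintro a ⟨haQ, ha2, hav⟩ e he
    have haz : a * z = z * a := h.comm_z a haQ
    rcases he with he | he | he | he <;> rw [he]
    · rw [mul_one]; exact ⟨haQ, ha2, hav⟩
    · refine ⟨mul_mem haQ h.z_mem, ?_, ?_⟩
      · calc a * z * (a * z) = a * (z * a) * z := by group
          _ = a * (a * z) * z := by rw [haz]
          _ = (a * a) * (z * z) := by group
          _ = 1 := by rw [ha2, hzz, one_mul]
      · calc a * z * v = a * (z * v) := by group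
          _ = a * (v * z) := by rw [hvz']
          _ = (a * v) * z := by group
          _ = v * (a * z) := by rw [hav]; group
    · refine ⟨mul_mem haQ hv, ?_, ?_⟩
      · calc a * v * (a * v) = a * (v * a) * v := by group
          _ = a * (a * v) * v := by rw [hav]
          _ = (a * a) * (v * v) := by group
          _ = 1 := by rw [ha2, hv2, one_mul]
      · calc a * v * v = v * a * v := by rw [hav]
          _ = v * (a * v) := by group
    · refine ⟨mul_mem haQ (mul_mem hv h.z_mem), ?_, ?_⟩
      · calc a * (v * z) * (a * (v * z)) = a * v * (z * a) * v * z := by group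
          _ = a * v * (a * z) * v * z := by rw [haz]
          _ = a * (v * a) * (z * v) * z := by group
          _ = a * (a * v) * (v * z) * z := by rw [hav, hvz']
          _ = (a * a) * (v * v) * (z * z) := by group
          _ = 1 := by rw [ha2, hv2, hzz, one_mul, one_mul]
      · calc a * (v * z) * v = a * v * (z * v) := by group
          _ = (a * v) * (v * z) := by rw [hvz']
          _ = (v * a) * (v * z) := by rw [hav]
          _ = v * (a * (v * z)) := by group
  have hY2 : 4 ∣ {x : G | x ∈ Q ∧ x * x = 1 ∧ x * v ≠ v * x}.ncard := by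
    -- the centralizer of `v` in `Q`
    have hC : {x : G | x ∈ Q ∧ x * v = v * x}.ncard * 2 = Nat.card Q := by
      have e1 : (Q : Set G) = {x : G | x ∈ Q ∧ x * v = v * x} ∪ {x : G | x ∈ Q ∧ x * v ≠ v * x} := by
        ext x
        simp only [SetLike.mem_coe, Set.mem_union, Set.mem_ofPred_eq]
        tauto
      have hd : Disjoint {x : G | x ∈ Q ∧ x * v = v * x} {x : G | x ∈ Q ∧ x * v ≠ v * x} := by
        rw [Set.disjoint_left]
        rintro x ⟨-, h1⟩ ⟨-, h2⟩
        exact h2 h1
      have e2 : {x : G | x ∈ Q ∧ x * v ≠ v * x} = (fun x => q * x) '' {x : G | x ∈ Q ∧ x * v = v * x} := by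
        ext x
        constructor
        · rintro ⟨hxQ, hxv⟩
          have hxz : x * z = z * x := h.comm_z x hxQ
          refine ⟨q⁻¹ * x, ⟨mul_mem (inv_mem hq) hxQ, ?_⟩, by show q * (q⁻¹ * x) = x; group⟩
          have h1 : v * x = x * v * z := by
            rcases h.comm v hv x hxQ with h1 | h1
            · exact absurd h1.symm hxv
            · exact h1
          have e1 : q * (q⁻¹ * x * v) = x * v := by group
          have e2 : q * (v * (q⁻¹ * x)) = x * v := by
            calc q * (v * (q⁻¹ * x)) = (q * v) * (q⁻¹ * x) := by group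
              _ = (v * q * z) * (q⁻¹ * x) := by rw [hvq, mul_assoc (q * v) z z, hzz, mul_one]
              _ = v * (q * z) * q⁻¹ * x := by group
              _ = v * z * x := by rw [h.comm_z q hq]; group
              _ = v * x * z := by rw [mul_assoc, ← hxz, ← mul_assoc]
              _ = x * v * z * z := by rw [h1]
              _ = x * v := by rw [mul_assoc (x * v), hzz, mul_one]
          exact mul_left_cancel (e1.trans e2.symm)
        · rintro ⟨y, ⟨hyQ, hyv⟩, rfl⟩
          refine ⟨mul_mem hq hyQ, fun h1 => ?_⟩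
          have h1' : q * y * v = v * (q * y) := h1
          have h2 : q * v * y = q * v * z * y := by
            calc q * v * y = q * (v * y) := by group
              _ = q * y * v := by rw [← hyv]; group
              _ = (v * q) * y := by rw [h1']; group
              _ = q * v * z * y := by rw [hvq]
          have h3 := mul_right_cancel h2
          exact h.z_ne (mul_left_cancel (h3.symm.trans (mul_one _).symm))
      have e3 : {x : G | x ∈ Q ∧ x * v ≠ v * x}.ncard = {x : G | x ∈ Q ∧ x * v = v * x}.ncard := by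
        rw [e2]
        exact Set.ncard_image_of_injective _ (mul_right_injective q)
      have e4 : Nat.card Q = (Q : Set G).ncard := rfl
      rw [e4, e1, Set.ncard_union_eq hd, e3, mul_two]
    have hB : {x : G | x ∈ Q ∧ x * v ≠ v * x}.ncard + {x : G | x ∈ Q ∧ x * v = v * x}.ncard = Nat.card Q := by
      have e1 : (Q : Set G) = {x : G | x ∈ Q ∧ x * v ≠ v * x} ∪ {x : G | x ∈ Q ∧ x * v = v * x} := by
        ext x
        simp only [SetLike.mem_coe, Set.mem_union, Set.mem_ofPred_eq]
        tauto
      have hd : Disjoint {x : G | x ∈ Q ∧ x * v ≠ v * x} {x : G | x ∈ Q ∧ x * v = v * x} := by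
        rw [Set.disjoint_left]
        rintro x ⟨-, h1⟩ ⟨-, h2⟩
        exact h1 h2
      have e4 : Nat.card Q = (Q : Set G).ncard := rfl
      rw [e4, e1, Set.ncard_union_eq hd]
    -- `x ↦ x v` exchanges the two halves
    have himg : {x : G | x ∈ Q ∧ x * x = z ∧ x * v ≠ v * x} =
        (fun x => x * v) '' {x : G | x ∈ Q ∧ x * x = 1 ∧ x * v ≠ v * x} := by
      have key : ∀ x ∈ Q, x * v ≠ v * x → x * v * (x * v) = x * x * z := by
        intro x hx hxv
        have h1 : v * x = x * v * z := (h.comm v hv x hx).resolve_left fun h => hxv h.symm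
        calc x * v * (x * v) = x * (v * x) * v := by group
          _ = x * (x * v * z) * v := by rw [h1]
          _ = x * x * v * (z * v) := by group
          _ = x * x * v * (v * z) := by rw [hvz']
          _ = x * x * (v * v) * z := by group
          _ = x * x * z := by rw [hv2, mul_one]
      have key2 : ∀ x, x * v ≠ v * x → x * v * v ≠ v * (x * v) := by
        intro x hxv h1
        apply hxv
        have h2 : x * v * v = v * x * v := by rw [h1]; group
        exact mul_right_cancel h2
      ext x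
      constructor
      · rintro ⟨hxQ, hx2, hxv⟩
        refine ⟨x * v, ⟨mul_mem hxQ hv, ?_, key2 x hxv⟩, ?_⟩
        · rw [key x hxQ hxv, hx2, hzz]
        · show x * v * v = x
          rw [mul_assoc, hv2, mul_one]
      · rintro ⟨y, ⟨hyQ, hy2, hyv⟩, rfl⟩
        refine ⟨mul_mem hyQ hv, ?_, key2 y hyv⟩
        show y * v * (y * v) = z
        rw [key y hyQ hyv, hy2, one_mul]
    have hsum : {x : G | x ∈ Q ∧ x * v ≠ v * x}.ncard =
        {x : G | x ∈ Q ∧ x * x = 1 ∧ x * v ≠ v * x}.ncard + {x : G | x ∈ Q ∧ x * x = z ∧ x * v ≠ v * x}.ncard := by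
      have e1 : {x : G | x ∈ Q ∧ x * v ≠ v * x} =
          {x : G | x ∈ Q ∧ x * x = 1 ∧ x * v ≠ v * x} ∪ {x : G | x ∈ Q ∧ x * x = z ∧ x * v ≠ v * x} := by
        ext x
        simp only [Set.mem_union, Set.mem_ofPred_eq]
        constructor
        · rintro ⟨hx, hxv⟩
          rcases h.sq x hx with h1 | h1
          · exact Or.inl ⟨hx, h1, hxv⟩
          · exact Or.inr ⟨hx, h1, hxv⟩
        · rintro (⟨hx, -, hxv⟩ | ⟨hx, -, hxv⟩) <;> exact ⟨hx, hxv⟩
      have hd : Disjoint {x : G | x ∈ Q ∧ x * x = 1 ∧ x * v ≠ v * x} {x : G | x ∈ Q ∧ x * x = z ∧ x * v ≠ v * x} := by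
        rw [Set.disjoint_left]
        rintro x ⟨-, h1, -⟩ ⟨-, h2, -⟩
        exact h.z_ne (h2.symm.trans h1)
      conv_lhs => rw [e1]
      rw [Set.ncard_union_eq hd]
    have heq : {x : G | x ∈ Q ∧ x * x = z ∧ x * v ≠ v * x}.ncard =
        {x : G | x ∈ Q ∧ x * x = 1 ∧ x * v ≠ v * x}.ncard := by
      rw [himg]
      exact Set.ncard_image_of_injective _ (mul_left_injective v)
    omega
  have hun : {x : G | x ∈ Q ∧ x * x = 1} = {x : G | x ∈ Q ∧ x * x = 1 ∧ x * v = v * x} ∪
      {x : G | x ∈ Q ∧ x * x = 1 ∧ x * v ≠ v * x} := by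
    ext x
    simp only [Set.mem_union, Set.mem_ofPred_eq]
    tauto
  have hd : Disjoint {x : G | x ∈ Q ∧ x * x = 1 ∧ x * v = v * x} {x : G | x ∈ Q ∧ x * x = 1 ∧ x * v ≠ v * x} := by
    rw [Set.disjoint_left]
    rintro x ⟨-, -, h1⟩ ⟨-, -, h2⟩
    exact h2 h1
  rw [hun, Set.ncard_union_eq hd]
  exact dvd_add hY1 hY2

/-- a finite set with an action of a `p`-group all of whose orbits have length divisible by `k` -/
theorem dvd_of_orbits {T : Type*} [Group T] [Finite T] {X : Type*} [Finite X] [MulAction T X] {k : ℕ}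
    (h : ∀ x : X, k ∣ Nat.card (MulAction.orbit T x)) : k ∣ Nat.card X := by
  classical
  have hfin : Finite (MulAction.orbitRel.Quotient T X) := Quotient.finite _
  have hft : Fintype (MulAction.orbitRel.Quotient T X) := Fintype.ofFinite _
  have e := MulAction.selfEquivSigmaOrbits T X
  rw [Nat.card_congr e, Nat.card_sigma]
  refine Finset.dvd_sum fun ω _ => ?_
  exact h _

/-- a Sylow 2-subgroup centralising `z` normalises a four-group `⟨z, v⟩` of `Q` -/
theorem exists_pair [Finite G] (h : Large Q z) (T : Sylow 2 G) (hT : ∀ t ∈ (T : Subgroup G), t * z = z * t)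
    (h16 : 16 ∣ Nat.card Q) {v : G} (hv : v ∈ Q) (hv2 : v * v = 1) (hv1 : v ≠ 1) (hvz : v ≠ z) :
    ∃ w ∈ Q, w * w = 1 ∧ w ≠ 1 ∧ w ≠ z ∧
      ∀ t ∈ (T : Subgroup G), t * w * t⁻¹ = w ∨ t * w * t⁻¹ = w * z := by
  classical
  have hf : Fact (Nat.Prime 2) := ⟨Nat.prime_two⟩
  have hzz := h.z_sq
  have hQT := le_sylow h T hT
  let X : Set G := {x | x ∈ Q ∧ x * x = 1 ∧ x ≠ 1 ∧ x ≠ z}
  have hXn : ¬ 4 ∣ X.ncard := by
    intro h4
    have hY := four_dvd_inv h h16 hv hv2 hv1 hvz
    have e1 : {x : G | x ∈ Q ∧ x * x = 1} = X ∪ {1, z} := by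
      ext x
      simp only [Set.mem_union, Set.mem_insert_iff, Set.mem_singleton_iff]
      constructor
      · rintro ⟨hx, hx2⟩
        by_cases hx1 : x = 1
        · exact Or.inr (Or.inl hx1)
        by_cases hxz : x = z
        · exact Or.inr (Or.inr hxz)
        exact Or.inl ⟨hx, hx2, hx1, hxz⟩
      · rintro (⟨hx, hx2, -, -⟩ | rfl | rfl)
        · exact ⟨hx, hx2⟩
        · exact ⟨one_mem _, one_mul 1⟩
        · exact ⟨h.z_mem, hzz⟩
    have hd : Disjoint X {1, z} := by
      rw [Set.disjoint_left]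
      rintro x ⟨-, -, h1, h2⟩ (rfl | rfl)
      · exact h1 rfl
      · exact h2 rfl
    rw [e1, Set.ncard_union_eq hd, Set.ncard_pair h.z_ne.symm] at hY
    omega
  have hconjX : ∀ t ∈ (T : Subgroup G), ∀ x ∈ X, t * x * t⁻¹ ∈ X := by
    rintro t ht x ⟨hx, hx2, hx1, hxz⟩
    have htz := hT t ht
    refine ⟨h.conj_mem t htz x hx, ?_, fun h1 => hx1 ?_, fun h1 => hxz ?_⟩
    · calc t * x * t⁻¹ * (t * x * t⁻¹) = t * (x * x) * t⁻¹ := by group
        _ = 1 := by rw [hx2]; group
    · calc x = t⁻¹ * (t * x * t⁻¹) * t := by group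
        _ = 1 := by rw [h1]; group
    · calc x = t⁻¹ * (t * x * t⁻¹) * t := by group
        _ = t⁻¹ * (z * t) := by rw [h1]; group
        _ = z := by rw [← htz]; group
  let act : MulAction (T : Subgroup G) X :=
    { smul := fun t x => ⟨(t : G) * x * (t : G)⁻¹, hconjX t t.2 x x.2⟩
      one_smul := fun x => Subtype.ext (by
        show (1 : G) * x * (1 : G)⁻¹ = x
        group)
      mul_smul := fun s t x => Subtype.ext (by
        show (s * t : G) * x * (s * t : G)⁻¹ = s * (t * x * (t : G)⁻¹) * (s : G)⁻¹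
        group) }
  have hsm : ∀ (t : (T : Subgroup G)) (x : X), ((t • x : X) : G) = (t : G) * x * (t : G)⁻¹ := fun _ _ => rfl
  by_contra hcon
  push Not at hcon
  apply hXn
  have hXc : X.ncard = Nat.card X := rfl
  rw [hXc]
  refine dvd_of_orbits (T := (T : Subgroup G)) fun x => ?_
  obtain ⟨t, ht, ht1, ht2⟩ := hcon x x.2.1 x.2.2.1 x.2.2.2.1 x.2.2.2.2
  -- an element of `Q` moving `x`
  obtain ⟨q, hq, hqx⟩ : ∃ q ∈ Q, (x : G) * q ≠ q * x := by
    by_contra hne
    push Not at hne
    rcases h.cent x x.2.1 hne with h1 | h1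
    · exact x.2.2.2.1 h1
    · exact x.2.2.2.2 h1
  have hqx' : q * x * q⁻¹ = x * z := by
    have h1 : (x : G) * q = q * x * z := (h.comm x x.2.1 q hq).resolve_left hqx
    have hqz : q * z = z * q := h.comm_z q hq
    calc q * x * q⁻¹ = q * x * (z * z) * q⁻¹ := by rw [hzz]; group
      _ = (q * x * z) * z * q⁻¹ := by group
      _ = x * (q * z) * q⁻¹ := by rw [← h1]; group
      _ = x * z := by rw [hqz]; group
  have hxzne : (x : G) * z ≠ x := fun h1 => h.z_ne (by
    have h2 : (x : G) * z = x * 1 := by rw [h1, mul_one]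
    exact mul_left_cancel h2)
  let y1 : X := (⟨q, hQT hq⟩ : (T : Subgroup G)) • x
  let y2 : X := (⟨t, ht⟩ : (T : Subgroup G)) • x
  have hy1 : (y1 : G) = x * z := by rw [← hqx']; exact hsm _ _
  have hy2 : (y2 : G) = t * x * t⁻¹ := hsm _ _
  have n1 : x ≠ y1 := fun h1 => hxzne (by rw [← hy1, ← h1])
  have n2 : x ≠ y2 := fun h1 => ht1 (by rw [← hy2, ← h1])
  have n3 : y1 ≠ y2 := fun h1 => ht2 (by rw [← hy2, ← h1, hy1])
  have hsub : ((({x, y1, y2} : Finset X)) : Set X) ⊆ MulAction.orbit (T : Subgroup G) x := by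
    intro y hy
    simp only [Finset.coe_insert, Finset.coe_singleton, Set.mem_insert_iff, Set.mem_singleton_iff] at hy
    rcases hy with rfl | rfl | rfl
    · exact MulAction.mem_orbit_self _
    · exact MulAction.mem_orbit _ _
    · exact MulAction.mem_orbit _ _
  have h3 : 3 ≤ Nat.card (MulAction.orbit (T : Subgroup G) x) := by
    have h4 := Set.ncard_le_ncard hsub (Set.toFinite _)
    rw [Set.ncard_coe_finset, Finset.card_insert_of_notMem, Finset.card_insert_of_notMem,
      Finset.card_singleton] at h4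
    · exact h4
    · simpa using n3
    · simp only [Finset.mem_insert, Finset.mem_singleton, not_or]
      exact ⟨n1, n2⟩
  have h5 : Nat.card (MulAction.orbit (T : Subgroup G) x) ∣ Nat.card (T : Subgroup G) := by
    rw [Nat.card_congr (MulAction.orbitEquivQuotientStabilizer (T : Subgroup G) x)]
    exact Subgroup.index_dvd_card _
  obtain ⟨n, hn⟩ := IsPGroup.iff_card.1 T.isPGroup'
  rw [hn] at h5
  obtain ⟨k, -, hk⟩ := (Nat.dvd_prime_pow Nat.prime_two).1 h5
  rw [hk] at h3 ⊢
  have hk2 : 2 ≤ k := by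
    by_contra hlt
    push Not at hlt
    have : k = 0 ∨ k = 1 := by omega
    rcases this with rfl | rfl <;> norm_num at h3
  obtain ⟨j, rfl⟩ := Nat.exists_eq_add_of_le hk2
  exact ⟨2 ^ j, by rw [pow_add]; norm_num⟩

/-- **`C(z)` transitive on the noncentral involutions of `Q`** -/
theorem good_of_trans [Finite G] {π : Set ℕ} (h2 : 2 ∈ π) (h3 : 3 ∈ π) (h : Large Q z) {L : Type v} [Group L]
    {f : centralizer ({z} : Set G) →* L} (hf : Function.Surjective f) (hker : ∀ c, f c = 1 → (c : G) ∈ Q)
    (hL : Good π L) (hodd : ¬ 2 ∣ (centralizer ({z} : Set G)).index) (h16 : 16 ∣ Nat.card Q)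
    {n : G} (hv : n * z * n⁻¹ ∈ Q) (hvz : n * z * n⁻¹ ≠ z)
    (htr : ∀ w ∈ Q, w * w = 1 → w ≠ 1 → w ≠ z → ∃ c : G, c * z = z * c ∧ c * (n * z * n⁻¹) * c⁻¹ = w)
    (hgen : closure ({c : G | c * z = z * c} ∪ {n}) = ⊤) : Good π G := by
  have hzz := h.z_sq
  obtain ⟨T, hT⟩ := exists_sylow_le hodd
  have hTz : ∀ t ∈ (T : Subgroup G), t * z = z * t := fun t ht => mem_centralizer_singleton_iff.1 (hT ht)
  have hv2 : n * z * n⁻¹ * (n * z * n⁻¹) = 1 := by
    calc n * z * n⁻¹ * (n * z * n⁻¹) = n * (z * z) * n⁻¹ := by group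
      _ = 1 := by rw [hzz]; group
  have hv1 : n * z * n⁻¹ ≠ 1 := by
    intro h1
    apply h.z_ne
    calc z = n⁻¹ * (n * z * n⁻¹) * n := by group
      _ = 1 := by rw [h1]; group
  obtain ⟨w, hwQ, hw2, hw1, hwz, hwT⟩ := exists_pair h T hTz h16 hv hv2 hv1 hvz
  obtain ⟨c, hc, hcw⟩ := htr w hwQ hw2 hw1 hwz
  have e : c * n * z * (c * n)⁻¹ = w := by rw [← hcw]; group
  refine good_of_large h2 h3 h T hTz hf hker hL (n := c * n) (by rw [e]; exact hwQ) (by rw [e]; exact hwz)
    (by rw [e]; exact hwT) ?_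
  rw [eq_top_iff, ← hgen, closure_le]
  rintro x (hx | rfl)
  · exact subset_closure (Or.inl hx)
  · have m1 : c ∈ closure ({c : G | c * z = z * c} ∪ {c * x}) := subset_closure (Or.inl hc)
    have m2 : c * x ∈ closure ({c : G | c * z = z * c} ∪ {c * x}) := subset_closure (Or.inr rfl)
    have m3 := mul_mem (inv_mem m1) m2
    rwa [inv_mul_cancel_left] at m3

end Cfsg.Agent.H861.PiS
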