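import Cfsg.Agent.H861.PiS.PcGood
import Cfsg.Agent.H861.PiS.Pair
import Cfsg.Agent.H543.PiBS.Gen

/-!
# S3876: normalisers of small sets of involutions are `π`-groups (helper861)
-/

set_option autoImplicit false

namespace Cfsg.Agent.H861.PiS

open Cfsg Subgroup
open Cfsg.Agent.H841.PiBS Cfsg.Agent.H543.PiBS

universe u v

/-- the normaliser of a small set containing `z` is a `π`-group if `C(z)` is one -/
theorem isPi_normalizer_fin {G : Type u} [Group G] [Finite G] {π : Set ℕ} (M : Finset G) {z : G} (hz : z ∈ M)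
    (hC : IsPiSubgroup π (centralizer ({z} : Set G))) (hM : ∀ p : ℕ, p.Prime → p ∉ π → M.card < p) :
    IsPiSubgroup π (normalizer (M : Set G)) := by
  intro p hp hd
  by_contra hpi
  have hpf : Fact p.Prime := ⟨hp⟩
  obtain ⟨x, hx⟩ := exists_prime_orderOf_dvd_card' p hd
  have hxp : (x : G) ^ p = 1 := by
    have : x ^ p = 1 := by rw [← hx]; exact pow_orderOf_eq_one x
    exact congrArg Subtype.val this
  have h1 : ((MulAut.conj (x : G)).toEquiv : Equiv.Perm G) ^ p = 1 := by
    have key : ∀ k : ℕ, ∀ y : G, (((MulAut.conj (x : G)).toEquiv : Equiv.Perm G) ^ k) y = (x : G) ^ k * y * ((x : G) ^ k)⁻¹ := by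
      intro k
      induction k with
      | zero => intro y; rw [pow_zero, pow_zero, Equiv.Perm.one_apply]; group
      | succ k ih =>
        intro y
        rw [pow_succ', Equiv.Perm.mul_apply, ih]
        show (x : G) * ((x : G) ^ k * y * ((x : G) ^ k)⁻¹) * (x : G)⁻¹ = _
        rw [pow_succ']
        group
    ext y
    rw [key, hxp, Equiv.Perm.one_apply]
    group
  have h2 := fix_of_small ((MulAut.conj (x : G)).toEquiv : Equiv.Perm G) hp h1 M (hM p hp hpi) (fun y hy =>
    ((mem_set_normalizer_iff).1 x.2 y).1 hy) z hz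
  have h3 : (x : G) * z * (x : G)⁻¹ = z := h2
  have h4 : (x : G) ∈ centralizer ({z} : Set G) := by
    rw [mem_centralizer_singleton_iff]
    calc (x : G) * z = (x : G) * z * (x : G)⁻¹ * x := by group
      _ = z * x := by rw [h3]
  have h5 : orderOf (⟨(x : G), h4⟩ : centralizer ({z} : Set G)) = p := by
    rw [orderOf_mk, ← hx, orderOf_coe]
  exact hpi (hC p hp (h5 ▸ orderOf_dvd_natCard _))

/-- `Good` gives the row -/
theorem row_of_good {S : Type*} [Group S] [Finite S] {π : Set ℕ} (hg : Good π S) (h2 : 2 ∈ π) (hD : DC π S) :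
    PiGrp π S := hg (DT.of_dPi hD.isDPi h2)

/-- the conclusion from a generating overgroup -/
theorem pg_of_top {G : Type u} [Group G] [Finite G] {π : Set ℕ} {H : Subgroup G} (hH : IsPiSubgroup π H)
    (htop : H = ⊤) : PG π G := by
  intro p hp hd
  rw [← card_top (G := G), ← htop] at hd
  exact hH p hp hd

end Cfsg.Agent.H861.PiS
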