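import Cfsg.Agent.KFacts.MonsterE
import Cfsg.Agent.MonsterU.Uncond
import Cfsg.Agent.MonsterP.Equiv
import Cfsg.Agent.H861.PiS.Tools2

/-!
# S3876: the Monster, `2, 3 ∈ π` (helper861)
-/

set_option autoImplicit false

namespace Cfsg.Agent.H861.PiS.MonRow

open Cfsg Subgroup
open Cfsg.Agent.H841.PiBS Cfsg.Agent.H543.PiBS
open Cfsg.Agent.MonsterU Cfsg.Agent.MonsterU.Ch
open Cfsg.Agent.MonsterU.Lam2 (L2 IsType)
open Cfsg.Spor (Co1)

section chart

variable {G : Type*} [Group G] [Finite G] {Q : Subgroup G} {z : G} {eta : G → L2}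
  {pi : Subgroup.centralizer ({z} : Set G) →* Co1}

omit [Finite G] in
/-- the classes of type four -/
def Four : SubMulAction Co1 L2 where
  carrier := {x | IsType 4 x}
  smul_mem' g _ hx := IsType.smul1 hx g

/-- a 2-subgroup of `Co₁` fixes a class of type four -/
theorem exists_fixed (P : Subgroup Co1) (hP : IsPGroup 2 P) : ∃ x : L2, IsType 4 x ∧ ∀ g ∈ P, g • x = x := by
  have hf : Fact (Nat.Prime 2) := ⟨Nat.prime_two⟩
  have hc : Nat.card Four = 8292375 := Cfsg.Agent.ConwayFacts.NormL2.ncard_four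
  have hfX : Finite Four := Nat.finite_of_card_ne_zero (by rw [hc]; norm_num)
  obtain ⟨x, hx⟩ := hP.nonempty_fixed_point_of_prime_not_dvd_card Four (by rw [hc]; norm_num)
  exact ⟨x, x.2, fun g hg => congrArg Subtype.val (hx ⟨g, hg⟩)⟩

/-- **Groups with a chart.** -/
theorem good_of_chart [IsSimpleGroup G] (h : Chart Q z eta pi)
    (hodd : Odd (Subgroup.centralizer ({z} : Set G)).index)
    (hgen : ∃ n₀ : G, n₀ * z * n₀⁻¹ ∈ Q ∧ n₀ * z * n₀⁻¹ ≠ z ∧
      Subgroup.closure ({c : G | c * z = z * c} ∪ {n₀}) = ⊤) {π : Set ℕ} (h2 : 2 ∈ π) (h3 : 3 ∈ π)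
    (hL : Good π Co1) : Good π G := by
  obtain ⟨T, hT⟩ := exists_sylow_le (K := centralizer ({z} : Set G)) hodd.not_two_dvd_nat
  have hTz : ∀ t ∈ (T : Subgroup G), t * z = z * t := fun t ht => mem_centralizer_singleton_iff.1 (hT ht)
  have hP : IsPGroup 2 (((T : Subgroup G).subgroupOf (centralizer ({z} : Set G))).map pi) :=
    (T.isPGroup'.comap_of_injective _ (subtype_injective _)).map _
  obtain ⟨x, hx4, hx⟩ := exists_fixed _ hP
  obtain ⟨n₀, hn1, hn2, hn3⟩ := hgen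
  have h4 := Fused.type_four_of_conj h hn1 hn2
  obtain ⟨s, hs⟩ := AmalSideOf.exists_smul_f0 h4
  obtain ⟨t, ht⟩ := AmalSideOf.exists_smul_f0 hx4
  obtain ⟨c, hc⟩ := h.pi_surj (t⁻¹ * s)
  have hcz : (c : G) * z = z * c := mem_centralizer_singleton_iff.1 c.2
  have e : (c : G) * n₀ * z * ((c : G) * n₀)⁻¹ = (c : G) * (n₀ * z * n₀⁻¹) * (c : G)⁻¹ := by group
  have hvQ : (c : G) * (n₀ * z * n₀⁻¹) * (c : G)⁻¹ ∈ Q := h.large.conj_mem _ hcz _ hn1
  have hev : eta ((c : G) * (n₀ * z * n₀⁻¹) * (c : G)⁻¹) = x := by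
    rw [h.eta_conj c _ hn1, hc, mul_smul, hs, ← ht, inv_smul_smul]
  refine good_of_large h2 h3 h.large T hTz h.pi_surj (fun d hd => (h.pi_eq_one d).1 hd) hL (n := (c : G) * n₀)
    (by rw [e]; exact hvQ) ?_ ?_ ?_
  · rw [e]
    intro h5
    apply hn2
    calc n₀ * z * n₀⁻¹ = (c : G)⁻¹ * ((c : G) * (n₀ * z * n₀⁻¹) * (c : G)⁻¹) * c := by group
      _ = (c : G)⁻¹ * (z * c) := by rw [h5]; group
      _ = z := by rw [← hcz]; group
  · rw [e]
    intro u hu
    have huC : u ∈ centralizer ({z} : Set G) := hT hu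
    have h5 : u * ((c : G) * (n₀ * z * n₀⁻¹) * (c : G)⁻¹) * u⁻¹ ∈ Q :=
      h.large.conj_mem _ (hTz u hu) _ hvQ
    refine (h.eta_eq h5 hvQ).1 ?_
    rw [h.eta_conj ⟨u, huC⟩ _ hvQ, hev]
    exact hx _ ⟨⟨u, huC⟩, mem_subgroupOf.2 hu, rfl⟩
  · rw [eq_top_iff, ← hn3, closure_le]
    rintro y (hy | rfl)
    · exact subset_closure (Or.inl hy)
    · have m1 : (c : G) ∈ closure ({d : G | d * z = z * d} ∪ {(c : G) * y}) := subset_closure (Or.inl hcz)
      have m2 : (c : G) * y ∈ closure ({d : G | d * z = z * d} ∪ {(c : G) * y}) := subset_closure (Or.inr rfl)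
      have m3 := mul_mem (inv_mem m1) m2
      rwa [inv_mul_cancel_left] at m3

end chart

section model

open Cfsg.Agent.MonsterX.Model Cfsg.Agent.MonsterX.MainSimple Cfsg.Agent.MonsterX.MainBasic

variable {W : Type} [AddCommGroup W] [Module ℚ W] {M : MData W}

/-- the group of the model -/
theorem good_model (hG : MGroup M Co1) (hR : MRep M) (hL : MLat M) (hO : MOrbit M) (hT : MTrans M)
    {π : Set ℕ} (h2 : 2 ∈ π) (h3 : 3 ∈ π) (hLG : Good π Co1) : Good π M.G := by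
  have hfin := G_finite hO
  have hsimp := isSimple hG hR hL hO hT
  have hco := Cfsg.Agent.KFacts.MonsterE.simple_Co1
  obtain ⟨_, D⟩ := Cfsg.Agent.KFacts.MonsterE.data_model hG hR hL hO hT
  obtain ⟨eta, pi, h⟩ := ModelChart.chart hG hR hL hO hT
  exact good_of_chart h D.odd D.gen h2 h3 hLG

end model

theorem row_M {S : Type*} [Group S] [Finite S] (h : Cfsg.Spor.IsoM S) {π : Set ℕ} (h2 : 2 ∈ π) (h3 : 3 ∈ π)
    (hLG : Good π Co1) (hD : DC π S) : PiGrp π S := by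
  have A := Cfsg.Agent.MonsterU.Uncond.all
  obtain ⟨e⟩ := Cfsg.Agent.MonsterP.Equiv.equiv
  have hf := Cfsg.Agent.MonsterX.MainBasic.G_finite A.hO
  obtain ⟨f⟩ := h
  exact row_of_good (Good.congr (f.trans e) (good_model A.hG A.hR A.hL A.hO A.hT h2 h3 hLG)) h2 hD

end Cfsg.Agent.H861.PiS.MonRow
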