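import Cfsg.Agent.MonsterU.CoFrameF
import Cfsg.Agent.MonsterU.CoFrameL2
import Cfsg.Agent.KFacts.Co1.InCo1
import Cfsg.Agent.KFacts.Co1.Simp
import Cfsg.Agent.S1572
import Cfsg.Agent.H841.PiBS.M24
import Cfsg.Agent.H861.PiS.MonRow

/-!
# S3876: the Conway group `Co₁` and the Monster, `2, 3 ∈ π` (helper861)

`F = 2^11 : M₂₄` and `C(z) = 2^{1+8}.Ω₈⁺(2)`; an element of order 13 of `C(z)` would lie in `F`.
-/

set_option autoImplicit false

namespace Cfsg.Agent.H861.PiS.CoOneRow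

open Cfsg Subgroup
open Cfsg.Agent.H841.PiBS Cfsg.Agent.H543.PiBS
open Cfsg.Agent.SporadicA.Co0Mono hiding smul_add smul_sub smul_neg smul_zero
open Cfsg.Agent.SporadicA.Co1Simple
open Cfsg.Agent.CoOneType
open Cfsg.Agent.CoOneType.CoOneE (pr pr_surjective E mem_E)
open Cfsg.Agent.CoOneType.SignFacts (sup mem_sup notMem_sup wt)
open Cfsg.Agent.CoOneType.CentOctad (C0 mem_C0 xi_mem)
open Cfsg.Agent.SporadicStructure.Co0Base (e8 e8_coe)
open Cfsg.Agent.MonsterU.Lam2 (L2 cl cl_surjective cl_two)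
open Cfsg.Agent.MonsterU.CoFrameL2 (f0)
open Cfsg.Spor (Co1)

/-- elements of order 13 act trivially on small sections -/
theorem fixed_thirteen {g : Co0} (h13 : g ^ 13 = 1) (U : AddSubgroup L2) (hU : ∀ x ∈ U, g • x ∈ U) {r : ℕ}
    (hr : r ≤ 11) (hc : Nat.card U ∣ 2 ^ r) : ∀ x ∈ U, g • x = x := by
  classical
  have hf : Fact (Nat.Prime 13) := ⟨by norm_num⟩
  have hft : Fintype U := Fintype.ofFinite U
  let f : Function.End U := fun x => ⟨g • (x : L2), hU x x.2⟩
  have hpow : ∀ k : ℕ, ∀ x : U, ((f ^ k) x : L2) = g ^ k • (x : L2) := by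
    intro k
    induction k with
    | zero => intro x; rw [pow_zero, pow_zero, one_smul]; rfl
    | succ k ih =>
      intro x
      rw [pow_succ', pow_succ', mul_smul]
      show g • ((f ^ k) x : L2) = _
      rw [ih]
  have hf13 : f ^ 13 ^ 1 = 1 := by
    funext x
    apply Subtype.ext
    rw [pow_one, hpow, h13, one_smul]
    rfl
  have hmod := Equiv.Perm.card_fixedPoints_modEq hf13
  let B : AddSubgroup L2 :=
    { carrier := {x | x ∈ U ∧ g • x = x}
      add_mem' := fun {a b} ha hb => ⟨U.add_mem ha.1 hb.1, by rw [smul_add, ha.2, hb.2]⟩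
      zero_mem' := ⟨U.zero_mem, smul_zero g⟩
      neg_mem' := fun {a} ha => ⟨U.neg_mem ha.1, by rw [smul_neg, ha.2]⟩ }
  have hBU : B ≤ U := fun x hx => hx.1
  have hBc : Nat.card B = Fintype.card (Function.fixedPoints f) := by
    rw [← Nat.card_eq_fintype_card]
    refine Nat.card_congr ⟨fun x => ⟨⟨x, x.2.1⟩, Subtype.ext x.2.2⟩, fun x => ⟨x.1, x.1.2, congrArg Subtype.val x.2⟩,
      fun x => rfl, fun x => rfl⟩
  rw [← hBc, ← Nat.card_eq_fintype_card] at hmod
  obtain ⟨a, ha, ha'⟩ := (Nat.dvd_prime_pow Nat.prime_two).1 hc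
  obtain ⟨b, hb, hb'⟩ := (Nat.dvd_prime_pow Nat.prime_two).1 ((AddSubgroup.card_dvd_of_le hBU).trans hc)
  have hle : b ≤ a := by
    have h1 := AddSubgroup.card_dvd_of_le hBU
    rw [ha', hb'] at h1
    exact (Nat.pow_dvd_pow_iff_le_right (by norm_num)).1 h1
  rw [ha', hb'] at hmod
  have hab : a = b := by
    have key : ∀ a ≤ 11, ∀ b ≤ a, 2 ^ a % 13 = 2 ^ b % 13 → a = b := by decide
    exact key a (by omega) b hle hmod
  have hBeq : B = U := by
    refine AddSubgroup.eq_of_le_of_card_ge hBU ?_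
    rw [ha', hb', hab]
  intro x hx
  rw [← hBeq] at hx
  exact hx.2

variable {o : golayCode}

/-- the lattice vectors supported on the octad -/
def Lo (o : golayCode) : AddSubgroup leechLattice where
  carrier := {v | ∀ i, i ∉ sup o → (v : GolayPt → ℤ) i = 0}
  zero_mem' := fun _ _ => rfl
  add_mem' := fun {a b} ha hb i hi => by
    show (a : GolayPt → ℤ) i + (b : GolayPt → ℤ) i = 0
    rw [ha i hi, hb i hi, add_zero]
  neg_mem' := fun {a} ha i hi => by
    show -(a : GolayPt → ℤ) i = 0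
    rw [ha i hi, neg_zero]

/-- restriction to the octad -/
def res (o : golayCode) : Lo o →+ (sup o → ℤ) where
  toFun v i := ((v : leechLattice) : GolayPt → ℤ) i
  map_zero' := rfl
  map_add' _ _ := rfl

theorem res_injective : Function.Injective (res o) := by
  intro v w h
  apply Subtype.ext
  apply Subtype.ext
  funext i
  by_cases hi : i ∈ sup o
  · exact congrFun h ⟨i, hi⟩
  · rw [v.2 i hi, w.2 i hi]

theorem index_two (ho : wt o = 8) : ∃ r ≤ 8, ((nsmulAddMonoidHom (α := Lo o) 2).range).index = 2 ^ r := by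
  let φ : Lo o →ₗ[ℤ] (sup o → ℤ) := (res o).toIntLinearMap
  have hφ : Function.Injective φ := res_injective
  have e := LinearEquiv.ofInjective φ hφ
  have h1 : Module.Finite ℤ (Lo o) := Module.Finite.equiv e.symm
  have h2 : Module.Free ℤ (Lo o) := Module.Free.of_equiv e.symm
  refine ⟨Module.finrank ℤ (Lo o), ?_, AddSubgroup.index_range_nsmul (Lo o) 2⟩
  have h3 := LinearMap.finrank_le_finrank_of_injective hφ
  rw [Module.finrank_fintype_fun_eq_card, Fintype.card_coe] at h3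
  have h4 : (sup o).card = 8 := ho
  omega

/-- the image in `L2` -/
noncomputable def Uo (o : golayCode) : AddSubgroup L2 := (Lo o).map cl

theorem card_Uo (ho : wt o = 8) : ∃ r ≤ 8, Nat.card (Uo o) ∣ 2 ^ r := by
  obtain ⟨r, hr, h⟩ := index_two ho
  refine ⟨r, hr, ?_⟩
  rw [← h]
  let f : Lo o →+ L2 := cl.comp (Lo o).subtype
  have h1 : Uo o = f.range := by
    ext x
    constructor
    · rintro ⟨v, hv, rfl⟩
      exact ⟨⟨v, hv⟩, rfl⟩
    · rintro ⟨v, rfl⟩
      exact ⟨v, v.2, rfl⟩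
  rw [h1, ← AddSubgroup.index_ker]
  refine AddSubgroup.index_dvd_of_le ?_
  rintro _ ⟨v, rfl⟩
  show cl ((2 • v : Lo o) : leechLattice) = 0
  exact cl_two v

theorem mem_Lo_iff {v : leechLattice} : v ∈ Lo o ↔ signCo0 o • v = -v :=
  (Cfsg.Agent.KFacts.Co1.RHat.sign_neg_iff o v).symm

/-- an element of order 13 of `C₀(o)` lies in `N` -/
theorem mem_N_of_thirteen (ho : wt o = 8) {g : Co0} (hg : g ∈ C0 o) (h13 : g ^ 13 = 1) : g ∈ N := by
  obtain ⟨r, hr, hc⟩ := card_Uo ho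
  have hU : ∀ x ∈ Uo o, g • x ∈ Uo o := by
    rintro _ ⟨v, hv, rfl⟩
    refine ⟨g • v, ?_, rfl⟩
    have hv' : signCo0 o • v = -v := mem_Lo_iff.1 hv
    show g • v ∈ Lo o
    rw [mem_Lo_iff, ← mul_smul, ← mem_C0.1 hg, mul_smul, hv', Cfsg.Agent.SporadicA.Co0Mono.smul_neg]
  have h1 := fixed_thirteen h13 (Uo o) hU (hr.trans (by norm_num)) hc
  obtain ⟨i, hi⟩ : (sup o).Nonempty := by
    rw [← Finset.card_pos]
    have : (sup o).card = 8 := ho
    omega
  have h2 : g • cl (e8 i) = cl (e8 i) := h1 _ ⟨e8 i, fun j hj => by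
    rw [Cfsg.Agent.MonsterU.CoFrame.coe_e8, if_neg]
    rintro rfl
    exact hj hi, rfl⟩
  have h3 : cl (e8 i) = f0 := (Cfsg.Agent.MonsterU.CoFrameL2.cong_iff_cl _ _).1 (Cfsg.Agent.MonsterU.CoFrameAct.cong_e8 i none)
  rw [h3] at h2
  have h4 : pr g • f0 = f0 := h2
  exact (Cfsg.Agent.MonsterU.CoFrameL2.pr_mem_F_iff g).1 ((Cfsg.Agent.MonsterU.CoFrameL2.mem_F_iff _).2 h4)

/-- the stabilizer of the frame -/
abbrev F : Subgroup Co1 := Cfsg.Agent.MonsterU.CoFrameF.F

theorem mem_F_iff (s : Co1) : s ∈ F ↔ s • f0 = f0 := Cfsg.Agent.MonsterU.CoFrameL2.mem_F_iff s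

/-- the central involution -/
def zz (o : golayCode) : Co1 := Cfsg.Agent.CoOneType.ClosingFacts.mk (signCo0 o)

theorem pr_mem_cent (ho : wt o = 8) (g : Co0) : pr g ∈ centralizer ({zz o} : Set Co1) ↔ g ∈ C0 o :=
  Cfsg.Agent.KFacts.Co1.InCo1.mem_cent ho g

theorem odd_index (ho : wt o = 8) : ¬ 2 ∣ (F ⊓ centralizer ({zz o} : Set Co1)).index := by
  have h1 : (F ⊓ centralizer ({zz o} : Set Co1)).comap pr = N ⊓ C0 o := by
    ext g
    rw [Subgroup.mem_comap, mem_inf, mem_inf, pr_mem_cent ho]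
    exact and_congr Cfsg.Agent.MonsterU.CoFrameF.pr_mem_F Iff.rfl
  have h2 := Subgroup.index_comap_of_surjective (F ⊓ centralizer ({zz o} : Set Co1)) pr_surjective
  rw [h1, Cfsg.Agent.KFacts.Co1.Perf.index_inf ho] at h2
  rw [← h2]
  norm_num

theorem finite : Finite Co1 := Nat.finite_of_card_ne_zero (by
  rw [Cfsg.Agent.MonsterU.CoFrameF.card_Co1]; norm_num)

/-- elements of order 13 of `C(z)` lie in `F` -/
theorem mem_F_of_thirteen (ho : wt o = 8) {y : Co1} (hy : y ∈ centralizer ({zz o} : Set Co1)) (h13 : y ^ 13 = 1) :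
    y ∈ F := by
  obtain ⟨g, rfl⟩ := pr_surjective y
  have hg := (pr_mem_cent ho g).1 hy
  have h1 : g ^ 13 = 1 ∨ g ^ 13 = signCo0 allOne := by
    rw [← Cfsg.Agent.MonsterU.CoFrameF.pr_eq_one, map_pow, h13]
  have h2 : (g ^ 14) ^ 13 = 1 := by
    rw [← pow_mul, mul_comm, pow_mul]
    rcases h1 with h | h
    · rw [h, one_pow]
    · rw [h, show (14 : ℕ) = 2 * 7 by norm_num, pow_mul, pow_two, Cfsg.Agent.SporadicA.Co0Mono.signCo0_mul_self, one_pow]
  have h3 := mem_N_of_thirteen ho (pow_mem hg 14) h2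
  have h4 : pr (g ^ 14) ∈ F := Cfsg.Agent.MonsterU.CoFrameF.pr_mem_F.2 h3
  rw [map_pow, show (14 : ℕ) = 13 + 1 by norm_num, pow_succ, h13, one_mul] at h4
  exact h4

theorem isPGroup_E : IsPGroup 2 E := by
  intro x
  refine ⟨1, Subtype.ext ?_⟩
  show (x : Co1) ^ 2 ^ 1 = 1
  rw [pow_one, pow_two]
  exact Cfsg.Agent.MonsterU.CoFrameF.sq_of_mem_E x.2

/-- a Sylow 2-subgroup of `F` contains `E` -/
theorem E_le [Finite Co1] (T : Sylow 2 Co1) (hT : (T : Subgroup Co1) ≤ F) : E ≤ T := by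
  have hfact : Fact (Nat.Prime 2) := ⟨Nat.prime_two⟩
  have hn : (T : Subgroup Co1) ≤ normalizer (E : Set Co1) := by
    intro s hs
    have hsF := hT hs
    rw [mem_normalizer_iff]
    intro x
    refine ⟨fun hx => Cfsg.Agent.MonsterU.CoFrameF.conj_mem_E hsF hx, fun hx => ?_⟩
    have h2 := Cfsg.Agent.MonsterU.CoFrameF.conj_mem_E (F.inv_mem hsF) hx
    have e : s⁻¹ * (s * x * s⁻¹) * s⁻¹⁻¹ = x := by group
    rwa [e] at h2
  have h1 : IsPGroup 2 ((T : Subgroup Co1) ⊔ E : Subgroup Co1) :=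
    (T.isPGroup').to_sup_of_normal_right' isPGroup_E hn
  have h2 := T.is_maximal' h1 le_sup_left
  exact le_sup_right.trans h2.le

theorem normalizer_le_F [Finite Co1] (T : Sylow 2 Co1) (hT : (T : Subgroup Co1) ≤ F) :
    normalizer ((T : Subgroup Co1) : Set Co1) ≤ F := by
  intro x hx
  have hE := E_le T hT
  rw [mem_F_iff]
  have h1 : x • f0 ∈ Cfsg.Agent.MonsterU.CoFrameL2.W1 := by
    refine Cfsg.Agent.MonsterU.CoFrameL2.mem_W1_of_E fun s hs => ?_
    have h2 : x⁻¹ * s * x ∈ (T : Subgroup Co1) := by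
      have := (mem_normalizer_iff.1 (inv_mem hx) s).1 (hE hs)
      rwa [inv_inv] at this
    have h3 := (mem_F_iff _).1 (hT h2)
    calc s • x • f0 = x • (x⁻¹ * s * x) • f0 := by rw [← mul_smul, ← mul_smul]; congr 1; group
      _ = x • f0 := by rw [h3]
  rcases (Cfsg.Agent.MonsterU.CoFrameL2.mem_W1 _).1 h1 with h2 | h2
  · exfalso
    apply Cfsg.Agent.MonsterU.CoFrameL2.f0_ne
    have h3 : x⁻¹ • x • f0 = x⁻¹ • (0 : L2) := by rw [h2]
    rwa [inv_smul_smul, smul_zero] at h3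
  · exact h2

/-- `F` is maximal -/
theorem eq_top_of {H : Subgroup Co1} (hF : F ≤ H) {x : Co1} (hx : x ∈ H) (hxF : x ∉ F) : H = ⊤ := by
  have h1 := Cfsg.Agent.S1572.result N (by
    ext g
    exact mem_N_iff g)
  have h2 : N < H.comap pr := by
    rw [← Cfsg.Agent.MonsterU.CoFrameF.comap_F]
    refine lt_of_le_of_ne (comap_mono hF) fun h => ?_
    obtain ⟨g, rfl⟩ := pr_surjective x
    apply hxF
    have : g ∈ H.comap pr := hx
    rw [← h] at this
    exact this
  have h3 := h1.2 _ h2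
  rw [eq_top_iff]
  intro y _
  obtain ⟨g, rfl⟩ := pr_surjective y
  have : g ∈ H.comap pr := by rw [h3]; exact mem_top _
  exact this

/-- `C(z)` is not contained in `F` -/
theorem exists_outside (ho : wt o = 8) : ∃ x ∈ centralizer ({zz o} : Set Co1), x ∉ F := by
  obtain ⟨S, hSo, hS⟩ := Finset.exists_subset_card_eq (s := sup o) (n := 4) (by
    have : (sup o).card = 8 := ho
    omega)
  obtain ⟨T, hT, hT0, hTo, -⟩ := CentOctad.exists_sextet ho hS hSo
  refine ⟨pr (Cfsg.Agent.SporadicA.Xi.xiCo0 T hT), (pr_mem_cent ho _).2 (xi_mem hT hTo), ?_⟩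
  intro h
  have h1 := Cfsg.Agent.MonsterU.CoFrameF.pr_mem_F.1 h
  obtain ⟨j, hj⟩ : S.Nonempty := by rw [← Finset.card_pos, hS]; norm_num
  have hTj : T j = 0 := Cfsg.Agent.SporadicA.Xi.mem_fib.1 (by rw [hT0]; exact hj)
  have h2 := Cfsg.Agent.KFacts.Co1.Simp.xi_apply hT hTj hTj
  rw [if_pos rfl] at h2
  obtain ⟨k, hk | hk⟩ := Cfsg.Agent.KFacts.Co1.Simp.exists_of_mem_N h1 j
  · rw [hk, Cfsg.Agent.MonsterU.CoFrame.coe_e8] at h2
    split_ifs at h2 <;> omega
  · rw [hk, Cfsg.Agent.KFacts.Co1.Simp.neg_coe, Cfsg.Agent.MonsterU.CoFrame.coe_e8] at h2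
    split_ifs at h2 <;> omega

/-- **`Co₁`** -/
theorem good {π : Set ℕ} (h2 : 2 ∈ π) (h3 : 3 ∈ π) : Good π Co1 := by
  intro hd
  have hfin := finite
  obtain ⟨O, hO⟩ := Cfsg.Agent.CoOneType.ClosingCo1.exists_octad
  obtain ⟨T, hT⟩ := exists_sylow_le (odd_index hO)
  have hTF : (T : Subgroup Co1) ≤ F := hT.trans inf_le_left
  have hTC : (T : Subgroup Co1) ≤ centralizer ({zz O} : Set Co1) := hT.trans inf_le_right
  have hN := normalizer_le_F T hTF
  have hd1 : DT π F := hd.descend T hTF hN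
  have hker : IsPiSubgroup π Cfsg.Agent.MonsterU.CoFrameF.toM24.ker := by
    refine isPi_of_isPGroup h2 ?_
    rw [Cfsg.Agent.MonsterU.CoFrameF.ker_toM24]
    exact isPGroup_E.comap_of_injective _ (subtype_injective _)
  have hd2 : DT π M24 := hd1.of_surjective _ Cfsg.Agent.MonsterU.CoFrameF.toM24_surjective hker
  have hM := M24.good h2 h3 hd2
  have hF : IsPiSubgroup π F := by
    intro p hp hpd
    have h4 := Cfsg.Agent.MonsterU.CoFrameF.toM24.ker.card_mul_index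
    rw [Subgroup.index_ker, MonoidHom.range_eq_top.2 Cfsg.Agent.MonsterU.CoFrameF.toM24_surjective, card_top] at h4
    rw [← h4] at hpd
    rcases (Nat.Prime.dvd_mul hp).1 hpd with h | h
    · exact hker p hp h
    · exact hM p hp h
  obtain ⟨H, hH, hU⟩ := hd.exists_ge T (isPi_of_le hF hN)
  have hFH := hU _ hF hTF
  have hC : IsPiSubgroup π (centralizer ({zz O} : Set Co1)) := by
    intro p hp hpd
    have h4 := hpd.trans (card_subgroup_dvd_card _)
    rw [Cfsg.Agent.MonsterU.CoFrameF.card_Co1] at h4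
    by_cases hp13 : p = 13
    · subst hp13
      have hpf : Fact (Nat.Prime 13) := ⟨hp⟩
      obtain ⟨y, hy⟩ := exists_prime_orderOf_dvd_card' 13 hpd
      have h5 : (y : Co1) ^ 13 = 1 := by
        have h6 := pow_orderOf_eq_one y
        rw [hy] at h6
        exact congrArg Subtype.val h6
      have h6 := mem_F_of_thirteen hO y.2 h5
      have h7 : orderOf (⟨(y : Co1), h6⟩ : F) = 13 := by rw [orderOf_mk, ← hy, orderOf_coe]
      exact hF 13 hp (h7 ▸ orderOf_dvd_natCard _)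
    · have h5 : p ∣ 2 ^ 21 * 3 ^ 9 * 5 ^ 4 * 7 ^ 2 * 11 * 13 * 23 := by
        refine h4.trans ?_
        norm_num
      have hM24 : Nat.card M24 = 244823040 := Cfsg.Agent.S0364.result
      have m : ∀ q : ℕ, q.Prime → q ∣ 244823040 → q ∈ π := fun q hq h => hM q hq (by rw [hM24]; exact h)
      simp only [hp.dvd_mul] at h5
      rcases h5 with ((((((h | h) | h) | h) | h) | h) | h)
      · rw [(Nat.prime_dvd_prime_iff_eq hp Nat.prime_two).1 (hp.dvd_of_dvd_pow h)]; exact h2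
      · rw [(Nat.prime_dvd_prime_iff_eq hp Nat.prime_three).1 (hp.dvd_of_dvd_pow h)]; exact h3
      · rw [(Nat.prime_dvd_prime_iff_eq hp (by norm_num)).1 (hp.dvd_of_dvd_pow h)]; exact m 5 (by norm_num) (by norm_num)
      · rw [(Nat.prime_dvd_prime_iff_eq hp (by norm_num)).1 (hp.dvd_of_dvd_pow h)]; exact m 7 (by norm_num) (by norm_num)
      · rw [(Nat.prime_dvd_prime_iff_eq hp (by norm_num)).1 h]; exact m 11 (by norm_num) (by norm_num)
      · exact absurd ((Nat.prime_dvd_prime_iff_eq hp (by norm_num)).1 h) hp13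
      · rw [(Nat.prime_dvd_prime_iff_eq hp (by norm_num)).1 h]; exact m 23 (by norm_num) (by norm_num)
  have hCH := hU _ hC hTC
  obtain ⟨x, hx, hxF⟩ := exists_outside hO
  exact pg_of_top hH.pi (eq_top_of hFH (hCH hx) hxF)

theorem row_Co1 {S : Type*} [Group S] [Finite S] (h : Cfsg.Spor.IsoCo1 S) {π : Set ℕ} (h2 : 2 ∈ π) (h3 : 3 ∈ π)
    (hD : DC π S) : PiGrp π S := by
  obtain ⟨e⟩ := h
  have hfin := finite
  exact row_of_good (Good.congr e (good h2 h3)) h2 hD

/-- **The Monster** -/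
theorem row_M {S : Type*} [Group S] [Finite S] (h : Cfsg.Spor.IsoM S) {π : Set ℕ} (h2 : 2 ∈ π) (h3 : 3 ∈ π)
    (hD : DC π S) : PiGrp π S := MonRow.row_M h h2 h3 (good h2 h3) hD

end Cfsg.Agent.H861.PiS.CoOneRow
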