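import Cfsg.Agent.H861.PiS.Tools2
import Cfsg.Agent.H861.PiS.SpSix
import Cfsg.Agent.KFacts.Co3.Sheet
import Cfsg.Agent.H841.PiBS.M23
import Cfsg.Agent.CoOneType.Thirteen

/-!
# S3876: the Conway group `Co₃`, `2, 3 ∈ π` (helper861)

`C(z) = 2·Sp₆(2)` gives `5 ∈ π`; `M₂₃` has index `2³ 3⁵ 5²`.
-/

set_option autoImplicit false
set_option maxRecDepth 100000

namespace Cfsg.Agent.H861.PiS.CoThreeRow

open Cfsg Subgroup
open Cfsg.Agent.H841.PiBS Cfsg.Agent.H543.PiBS
open Cfsg.Agent.SporRec.TwoSp6.Model Cfsg.Agent.SporRec.TwoSp6.Order Cfsg.Agent.SporRec.Co3.Ident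
  Cfsg.Agent.SporRec.Co3.Chain Cfsg.Agent.SporRec.Co3.Model Cfsg.Agent.KFacts.Co3.AutM
  Cfsg.Agent.KFacts.Co3.Cent Cfsg.Agent.KFacts.Co3.Syl Cfsg.Agent.KFacts.Co3.Sheet
open Cfsg.Agent.SporadicA.Co0Mono

/-- the centralizer of a 2-central involution gives 5 -/
theorem five_mem {K : Type*} [Group K] [Finite K] (e : G3 ≃* K) {π : Set ℕ} (h2 : 2 ∈ π) (h3 : 3 ∈ π)
    (hd : DT π K) : 5 ∈ π := by
  obtain ⟨S, hzS, hcS, hcen⟩ := (facts e).basic.syl
  obtain ⟨π', -, hE⟩ := exists_pi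
  have hzz := (facts e).basic.zz
  have hz1 := (facts e).basic.z1
  set z := e Z with hz
  have hN : normalizer ((S : Subgroup K) : Set K) ≤ centralizer ({z} : Set K) := by
    intro g hg
    rw [mem_centralizer_singleton_iff]
    have hgi := inv_mem hg
    have h1 : g * z * g⁻¹ ∈ (S : Subgroup K) := (mem_normalizer_iff.1 hg z).1 hzS
    have h4 : ∀ x ∈ S, x * (g * z * g⁻¹) = g * z * g⁻¹ * x := by
      intro x hx
      have h5 : g⁻¹ * x * g ∈ (S : Subgroup K) := by
        have := (mem_normalizer_iff.1 hgi x).1 hx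
        rwa [inv_inv] at this
      have h6 := hcS _ h5
      calc x * (g * z * g⁻¹) = g * ((g⁻¹ * x * g) * z) * g⁻¹ := by group
        _ = g * (z * (g⁻¹ * x * g)) * g⁻¹ := by rw [h6]
        _ = g * z * g⁻¹ * x := by group
    rcases hcen _ h1 h4 with h5 | h5
    · exfalso
      apply hz1
      calc z = g⁻¹ * (g * z * g⁻¹) * g := by group
        _ = 1 := by rw [h5]; group
    · calc g * z = g * z * g⁻¹ * g := by group
        _ = z * g := by rw [h5]
  have hS : (S : Subgroup K) ≤ centralizer ({z} : Set K) := fun x hx =>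
    mem_centralizer_singleton_iff.2 (hcS x hx)
  have hd1 : DT π (centralizer ({z} : Set K)) := hd.descend S hS hN
  have hd2 : DT π M := hd1.map_equiv (eqv e).symm
  have hfM : Finite M := Nat.finite_of_card_ne_zero (by rw [card_M]; norm_num)
  have hd3 : DT π Cfsg.Agent.SporRec.TwoSp6.Sp.S := by
    refine hd2.of_surjective π' hE.surj ?_
    refine isPi_of_isPGroup h2 ?_
    intro x
    refine ⟨1, Subtype.ext ?_⟩
    show (x : M) ^ 2 ^ 1 = 1
    rcases hE.ker x x.2 with h4 | h4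
    · rw [h4, one_pow]
    · rw [h4, pow_one, pow_two, hE.z_sq]
  refine SpSix.good h2 h3 hd3 5 (by norm_num) ?_
  rw [SpSix.card]
  norm_num

/-- `M₂₃` in `M₂₄` -/
def inc (σ : Spor.M23) : M24 := ⟨σ.1, (Subgroup.mem_inf.1 σ.2).1⟩

theorem fix_none (σ : Spor.M23) : (σ : Equiv.Perm GolayPt) none = none := (Subgroup.mem_inf.1 σ.2).2

theorem smul_V (σ : Spor.M23) : permCo0 (inc σ) • Spor.leechV = Spor.leechV := by
  have h1 := permCo0_smul (inc σ) Spor.leechV
  apply Subtype.ext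
  refine Eq.trans h1 ?_
  funext i
  rw [permMap_apply]
  have h2 := fix_none σ
  have h3 : (σ : Equiv.Perm GolayPt).symm none = none := by
    rw [Equiv.symm_apply_eq, h2]
  show Spor.vecV ((σ : Equiv.Perm GolayPt).symm i) = Spor.vecV i
  unfold Spor.vecV
  by_cases hi : i = none
  · rw [hi, h3]
  · rw [if_neg hi, if_neg]
    intro h4
    apply hi
    rw [Equiv.symm_apply_eq, h2] at h4
    exact h4

/-- `M₂₃` in `Co₃` -/
noncomputable def phi : Spor.M23 →* Spor.Co3 where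
  toFun σ := ⟨((permCo0 (inc σ) : Co0) : Equiv.Perm leechLattice),
    Subgroup.mem_inf.2 ⟨(permCo0 (inc σ)).2, smul_V σ⟩⟩
  map_one' := by
    apply Subtype.ext
    have h1 : permCo0 (1 : M24) = 1 := map_one _
    exact congrArg (fun t : Co0 => (t : Equiv.Perm leechLattice)) h1
  map_mul' σ τ := by
    apply Subtype.ext
    have h1 := map_mul permCo0 (inc σ) (inc τ)
    exact congrArg (fun t : Co0 => (t : Equiv.Perm leechLattice)) h1

theorem phi_inj : Function.Injective phi := by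
  intro σ τ h
  have h1 : ((permCo0 (inc σ) : Co0) : Equiv.Perm leechLattice) = permCo0 (inc τ) :=
    congrArg (fun t : Spor.Co3 => (t : Equiv.Perm leechLattice)) h
  have h2 : inc σ = inc τ := Cfsg.Agent.CoOneType.Thirteen.permCo0_injective (Subtype.ext h1)
  have h3 : (inc σ : Equiv.Perm GolayPt) = inc τ := congrArg Subtype.val h2
  exact Subtype.ext h3

theorem card : Nat.card Spor.Co3 = 495766656000 := by
  rw [← Nat.card_congr equivCo3.toEquiv]
  exact isCo3_G3.2

theorem row_model {π : Set ℕ} (h2 : 2 ∈ π) (h3 : 3 ∈ π) (hD : DC π Spor.Co3) : PiGrp π Spor.Co3 := by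
  have hfin : Finite Spor.Co3 := Nat.finite_of_card_ne_zero (by rw [card]; norm_num)
  have h5 := five_mem equivCo3 h2 h3 (DT.of_dPi hD.isDPi h2)
  have hU : Nat.card phi.range = 10200960 := by
    rw [← Cfsg.Agent.SporadicA.MathieuRecog.card_M23]
    exact (Nat.card_congr (MonoidHom.ofInjective phi_inj).toEquiv).symm
  have hi : phi.range.index = 48600 := by
    have h4 := phi.range.card_mul_index
    rw [hU, card] at h4
    omega
  have hD1 : DC π phi.range := hD.descend phi.range fun p hp hd => by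
    rw [hi, show (48600 : ℕ) = 2 ^ 3 * 3 ^ 5 * 5 ^ 2 by norm_num] at hd
    rcases (Nat.Prime.dvd_mul hp).1 hd with h | h
    · rcases (Nat.Prime.dvd_mul hp).1 h with h | h
      · rw [(Nat.prime_dvd_prime_iff_eq hp Nat.prime_two).1 (hp.dvd_of_dvd_pow h)]; exact h2
      · rw [(Nat.prime_dvd_prime_iff_eq hp Nat.prime_three).1 (hp.dvd_of_dvd_pow h)]; exact h3
    · rw [(Nat.prime_dvd_prime_iff_eq hp (by norm_num)).1 (hp.dvd_of_dvd_pow h)]; exact h5
  have hD2 : DC π Spor.M23 := hD1.congr (MonoidHom.ofInjective phi_inj).symm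
  have hP : PG π Spor.M23 := M23.good23 h2 h3 (DT.of_dPi hD2.isDPi h2)
  have hc := Cfsg.Agent.SporadicA.MathieuRecog.card_M23
  intro p hp hd
  rw [card, show (495766656000 : ℕ) = 2 ^ 10 * 3 ^ 7 * 5 ^ 3 * (7 * 11 * 23) by norm_num] at hd
  rcases (Nat.Prime.dvd_mul hp).1 hd with h | h
  · rcases (Nat.Prime.dvd_mul hp).1 h with h | h
    · rcases (Nat.Prime.dvd_mul hp).1 h with h | h
      · rw [(Nat.prime_dvd_prime_iff_eq hp Nat.prime_two).1 (hp.dvd_of_dvd_pow h)]; exact h2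
      · rw [(Nat.prime_dvd_prime_iff_eq hp Nat.prime_three).1 (hp.dvd_of_dvd_pow h)]; exact h3
    · rw [(Nat.prime_dvd_prime_iff_eq hp (by norm_num)).1 (hp.dvd_of_dvd_pow h)]; exact h5
  · refine hP p hp (h.trans ?_)
    rw [hc]
    norm_num

theorem row_Co3 {S : Type*} [Group S] [Finite S] (h : Cfsg.Spor.IsoCo3 S) {π : Set ℕ} (h2 : 2 ∈ π) (h3 : 3 ∈ π)
    (hD : DC π S) : PiGrp π S := by
  obtain ⟨e⟩ := h
  intro p hp hd
  exact row_model h2 h3 (hD.congr e) p hp (by rwa [← Nat.card_congr e.toEquiv])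

end Cfsg.Agent.H861.PiS.CoThreeRow
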