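import Cfsg.Agent.H861.PiS.AltTools

/-!
# S3876: `Good π A₁₁` (helper861)
-/

set_option autoImplicit false

namespace Cfsg.Agent.H861.PiS

/-- elements of prime order `p ≥ 5` preserving a partition with few parts of small size -/
theorem part_five {X : Type*} [DecidableEq X] [Fintype X] {κ : Type*} [DecidableEq κ] (blk : X → κ)
    (hF : (Finset.univ.image fun a => (Finset.univ.filter fun b => blk b = blk a : Finset X)).card < 5)
    (hB : ∀ a, (Finset.univ.filter fun b => blk b = blk a).card < 5) {p : ℕ} (hp : p.Prime) (h5 : 5 ≤ p)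
    (g : Equiv.Perm X) (hg : g ^ p = 1) (hc : ∀ a b, blk (g a) = blk (g b) ↔ blk a = blk b) : g = 1 := by
  refine eq_one_of_blocks g hp h5 hg
    (Finset.univ.image fun a => (Finset.univ.filter fun b => blk b = blk a : Finset X)) hF ?_ ?_ ?_
  · intro B hB'
    rw [Finset.mem_image] at hB'
    obtain ⟨a, -, rfl⟩ := hB'
    exact hB a
  · intro B hB'
    rw [Finset.mem_image] at hB' ⊢
    obtain ⟨a, -, rfl⟩ := hB'
    refine ⟨g a, Finset.mem_univ _, ?_⟩
    ext y
    rw [Finset.mem_filter, Finset.mem_map]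
    constructor
    · rintro ⟨-, h⟩
      refine ⟨g⁻¹ y, ?_, g.apply_symm_apply y⟩
      rw [Finset.mem_filter]
      refine ⟨Finset.mem_univ _, ?_⟩
      rw [← hc, show g (g⁻¹ y) = y from g.apply_symm_apply y]
      exact h
    · rintro ⟨b, hb, rfl⟩
      rw [Finset.mem_filter] at hb
      exact ⟨Finset.mem_univ _, (hc b a).2 hb.2⟩
  · have h1 : Finset.univ \ (Finset.univ.image fun a => (Finset.univ.filter fun b => blk b = blk a :
        Finset X)).biUnion id = (∅ : Finset X) := by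
      rw [Finset.sdiff_eq_empty_iff_subset]
      intro y _
      rw [Finset.mem_biUnion]
      exact ⟨_, Finset.mem_image.2 ⟨y, Finset.mem_univ _, rfl⟩, Finset.mem_filter.2 ⟨Finset.mem_univ _, rfl⟩⟩
    rw [h1, Finset.card_empty]
    norm_num

namespace Eleven

open Cfsg Subgroup
open Cfsg.Agent.H841.PiBS
open Cfsg.Agent.GH.Pc Cfsg.Agent.GH.Models.Proj

abbrev P11 := Equiv.Perm (Fin 11)
abbrev A11 := alternatingGroup (Fin 11)

/-- the polycyclic family of a Sylow 2-subgroup -/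
def xp : Fin 7 → P11 := ![
  ⟨![4, 5, 6, 7, 0, 1, 2, 3, 8, 9, 10], ![4, 5, 6, 7, 0, 1, 2, 3, 8, 9, 10], by decide, by decide⟩,
  ⟨![2, 3, 0, 1, 4, 5, 6, 7, 8, 9, 10], ![2, 3, 0, 1, 4, 5, 6, 7, 8, 9, 10], by decide, by decide⟩,
  ⟨![0, 1, 2, 3, 6, 7, 4, 5, 8, 9, 10], ![0, 1, 2, 3, 6, 7, 4, 5, 8, 9, 10], by decide, by decide⟩,
  ⟨![1, 0, 2, 3, 4, 5, 6, 7, 9, 8, 10], ![1, 0, 2, 3, 4, 5, 6, 7, 9, 8, 10], by decide, by decide⟩,
  ⟨![1, 0, 2, 3, 5, 4, 6, 7, 8, 9, 10], ![1, 0, 2, 3, 5, 4, 6, 7, 8, 9, 10], by decide, by decide⟩,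
  ⟨![1, 0, 3, 2, 4, 5, 6, 7, 8, 9, 10], ![1, 0, 3, 2, 4, 5, 6, 7, 8, 9, 10], by decide, by decide⟩,
  ⟨![1, 0, 3, 2, 5, 4, 7, 6, 8, 9, 10], ![1, 0, 3, 2, 5, 4, 7, 6, 8, 9, 10], by decide, by decide⟩]

theorem xp_mem : ∀ i, xp i ∈ alternatingGroup (Fin 11) := by
  intro i
  rw [Equiv.Perm.mem_alternatingGroup]
  revert i
  decide +kernel

def x (i : Fin 7) : A11 := ⟨xp i, xp_mem i⟩

def P : Pres 7 where
  sq _ := []
  cj i j := match i.val, j.val with
    | 0, 1 => [2]
    | 0, 2 => [1]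
    | 0, 3 => [3, 4]
    | 0, 5 => [5, 6]
    | 1, 3 => [3, 5]
    | 1, 4 => [4, 5]
    | 2, 4 => [4, 5, 6]
    | _, _ => [j]

theorem P_ok : P.Ok := by decide

theorem satp : Sat P xp := by
  constructor
  · decide +kernel
  · decide +kernel

theorem sat : Sat P x :=
  Sat.of_injective (alternatingGroup (Fin 11)).subtype (subtype_injective _) satp

theorem nfp : allB 7 (fun e => isZ e || !decide (nf xp e = 1)) = true := by decide +kernel

theorem cenp : allB 7 (fun e => decide (nf xp e = 1) || decide (nf xp e = xp 6) ||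
    !decide (∀ i, xp i * nf xp e = nf xp e * xp i)) = true := by decide +kernel

theorem coe_nf (e : Fin 7 → Bool) : ((nf x e : A11) : P11) = nf xp e :=
  map_nf (alternatingGroup (Fin 11)).subtype x e

theorem nf_x (e : Fin 7 → Bool) (h : nf x e = 1) : e = fun _ => false :=
  nf_inj_of xp nfp e (by rw [← coe_nf, h]; rfl)

theorem cen_x (e : Fin 7 → Bool) (h : ∀ i, x i * nf x e = nf x e * x i) (hne : nf x e ≠ 1) : nf x e = x 6 := by
  apply Subtype.ext
  rw [coe_nf]
  refine cen_of xp (xp 6) cenp e (fun i => ?_) fun h1 => hne (Subtype.ext (by rw [coe_nf]; exact h1))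
  have := congrArg Subtype.val (h i)
  rw [← coe_nf]
  exact this

theorem card : Nat.card A11 = 19958400 := by
  rw [nat_card_alternatingGroup, Nat.card_fin]
  decide

theorem not_dvd : ¬ 2 ^ (7 + 1) ∣ Nat.card A11 := by
  rw [card]; decide

/-- the centralizer of the central involution has no elements of prime order `≥ 5` -/
theorem cent_five {p : ℕ} (hp : p.Prime) (h5 : 5 ≤ p) (g : A11) (hg : g ^ p = 1) (hc : g * x 6 = x 6 * g) : g = 1 := by
  apply Subtype.ext
  refine comm_five (xp 6) ?_ ?_ hp h5 (g : P11) (congrArg Subtype.val hg) (congrArg Subtype.val hc)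
  · decide +kernel
  · decide +kernel

/-- the partition `0123 | 4567 | 8 9 10` -/
def blk : Fin 11 → Fin 3 := ![0, 0, 0, 0, 1, 1, 1, 1, 2, 2, 2]

/-- the stabilizer of the partition -/
def U2 : Subgroup A11 where
  carrier := {g | ∀ a b, blk ((g : P11) a) = blk ((g : P11) b) ↔ blk a = blk b}
  one_mem' := fun a b => Iff.rfl
  mul_mem' := fun {g h} hg hh a b => (hg ((h : P11) a) ((h : P11) b)).trans (hh a b)
  inv_mem' := fun {g} hg a b => by
    have h1 := hg ((g : P11)⁻¹ a) ((g : P11)⁻¹ b)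
    rw [show (g : P11) ((g : P11)⁻¹ a) = a from (g : P11).apply_symm_apply a,
      show (g : P11) ((g : P11)⁻¹ b) = b from (g : P11).apply_symm_apply b] at h1
    exact h1.symm

theorem part_U2 {p : ℕ} (hp : p.Prime) (h5 : 5 ≤ p) (g : A11) (hg : g ^ p = 1) (hc : g ∈ U2) : g = 1 := by
  apply Subtype.ext
  refine part_five blk ?_ ?_ hp h5 (g : P11) (congrArg Subtype.val hg) hc
  · decide +kernel
  · decide +kernel

/-- the stabilizer of the last point -/
def U3 : Subgroup A11 where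
  carrier := {g | (g : P11) 10 = 10}
  one_mem' := rfl
  mul_mem' := fun {g h} hg hh => by
    show (g : P11) ((h : P11) 10) = 10
    rw [show (h : P11) 10 = 10 from hh]; exact hg
  inv_mem' := fun {g} hg => by
    show (g : P11)⁻¹ 10 = 10
    rw [Equiv.Perm.inv_eq_iff_eq]; exact hg.symm

/-- `(0 2 4)(1 3 5)` -/
def u1 : P11 := ⟨![2, 3, 4, 5, 0, 1, 6, 7, 8, 9, 10], ![4, 5, 0, 1, 2, 3, 6, 7, 8, 9, 10], by decide, by decide⟩
/-- `(0 1 2)` -/
def u2 : P11 := ⟨![1, 2, 0, 3, 4, 5, 6, 7, 8, 9, 10], ![2, 0, 1, 3, 4, 5, 6, 7, 8, 9, 10], by decide, by decide⟩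
/-- `(8 9 10)` -/
def u3 : P11 := ⟨![0, 1, 2, 3, 4, 5, 6, 7, 9, 10, 8], ![0, 1, 2, 3, 4, 5, 6, 7, 10, 8, 9], by decide, by decide⟩
/-- a 9-cycle -/
def nine : P11 := ⟨![1, 2, 3, 4, 5, 6, 7, 8, 0, 9, 10], ![8, 0, 1, 2, 3, 4, 5, 6, 7, 9, 10], by decide, by decide⟩

theorem u1_mem : u1 ∈ alternatingGroup (Fin 11) := by rw [Equiv.Perm.mem_alternatingGroup]; decide +kernel
theorem u2_mem : u2 ∈ alternatingGroup (Fin 11) := by rw [Equiv.Perm.mem_alternatingGroup]; decide +kernel
theorem u3_mem : u3 ∈ alternatingGroup (Fin 11) := by rw [Equiv.Perm.mem_alternatingGroup]; decide +kernel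
theorem nine_mem : nine ∈ alternatingGroup (Fin 11) := by rw [Equiv.Perm.mem_alternatingGroup]; decide +kernel

/-- `A₁₁` is a `π`-group -/
theorem good {π : Set ℕ} (h2 : 2 ∈ π) (h3 : 3 ∈ π) : Good π A11 := by
  intro hd
  have hC : IsPiSubgroup π (centralizer ({x 6} : Set A11)) :=
    isPi_of_five h2 h3 fun p hp h5 g hg hgp => cent_five hp h5 g hgp (mem_centralizer_singleton_iff.1 hg)
  have hC2 : IsPiSubgroup π U2 := isPi_of_five h2 h3 fun p hp h5 g hg hgp => part_U2 hp h5 g hgp hg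
  have hx1 : x 6 ≠ 1 := fun h => absurd (congrArg Subtype.val h) (by decide : xp 6 ≠ 1)
  have hcz : ∀ i, x i * x 6 = x 6 * x i := fun i => Subtype.ext (by
    show xp i * xp 6 = xp 6 * xp i
    revert i
    decide +kernel)
  obtain ⟨H, hH, hU⟩ := exists_H P_ok sat nf_x not_dvd (fun w => w ≠ 1)
    (fun g w hw h => hw (by
      calc w = g⁻¹ * (g * w * g⁻¹) * g := by group
        _ = 1 := by rw [h]; group)) hx1 (subset_closure ⟨6, rfl⟩) hcz cen_x hC hd
  have hHC := hU _ hC fun i => mem_centralizer_singleton_iff.2 (hcz i)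
  have hH2 := hU _ hC2 (by
    have : ∀ i : Fin 7, ∀ a b, blk (xp i a) = blk (xp i b) ↔ blk a = blk b := by decide +kernel
    exact this)
  have m1 : (⟨u1, u1_mem⟩ : A11) ∈ H := hHC (mem_centralizer_singleton_iff.2 (Subtype.ext (by decide : u1 * xp 6 = xp 6 * u1)))
  have m2 : (⟨u2, u2_mem⟩ : A11) ∈ H := hH2 (by
    have : ∀ a b, blk (u2 a) = blk (u2 b) ↔ blk a = blk b := by decide +kernel
    exact this)
  have m3 : (⟨u3, u3_mem⟩ : A11) ∈ H := hHC (mem_centralizer_singleton_iff.2 (Subtype.ext (by decide : u3 * xp 6 = xp 6 * u3)))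
  have m4 : x 2 ∈ H := hHC (mem_centralizer_singleton_iff.2 (hcz 2))
  have p5 : 5 ∈ π := by
    refine mem_pi_of hH.pi (by norm_num) (mul_mem m1 m2) (Subtype.ext ?_) fun h => ?_
    · exact (by decide +kernel : (u1 * u2) ^ 5 = 1)
    · exact absurd (congrArg Subtype.val h) (by decide : u1 * u2 ≠ 1)
  have p7 : 7 ∈ π := by
    refine mem_pi_of hH.pi (by norm_num) (mul_mem (mul_mem m1 m2) m4) (Subtype.ext ?_) fun h => ?_
    · exact (by decide +kernel : (u1 * u2 * xp 2) ^ 7 = 1)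
    · exact absurd (congrArg Subtype.val h) (by decide : u1 * u2 * xp 2 ≠ 1)
  have hC3 : IsPiSubgroup π U3 := by
    intro p hp hpd
    have hpf : Fact p.Prime := ⟨hp⟩
    by_contra hpi
    have hp2 : p ≠ 2 := by rintro rfl; exact hpi h2
    have hp3 : p ≠ 3 := by rintro rfl; exact hpi h3
    have hp5 : p ≠ 5 := by rintro rfl; exact hpi p5
    have hp7 : p ≠ 7 := by rintro rfl; exact hpi p7
    have hp10 : 10 < p := by
      by_contra hle
      push Not at hle
      have hp1 := hp.two_le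
      have h4 : p ≠ 4 := by rintro rfl; exact absurd hp (by decide)
      have h6 : p ≠ 6 := by rintro rfl; exact absurd hp (by decide)
      have h8 : p ≠ 8 := by rintro rfl; exact absurd hp (by decide)
      have h9 : p ≠ 9 := by rintro rfl; exact absurd hp (by decide)
      have h10 : p ≠ 10 := by rintro rfl; exact absurd hp (by decide)
      omega
    obtain ⟨g, hg⟩ := exists_prime_orderOf_dvd_card' p hpd
    have h1 : (((g : A11) : P11)) ^ p = 1 := by
      have : g ^ p = 1 := by rw [← hg]; exact pow_orderOf_eq_one g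
      exact congrArg (fun t : U3 => ((t : A11) : P11)) this
    have hg10 : ((g : A11) : P11) 10 = 10 := g.2
    have h2 := fix_of_small ((g : A11) : P11) hp h1 (Finset.univ.erase 10) (by
      rw [Finset.card_erase_of_mem (Finset.mem_univ _), Finset.card_fin]; omega) (fun y hy => by
        rw [Finset.mem_erase] at hy ⊢
        refine ⟨fun h => hy.1 ?_, Finset.mem_univ _⟩
        rw [← hg10] at h
        exact ((g : A11) : P11).injective h)
    have h3 : g = 1 := by
      apply Subtype.ext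
      apply Subtype.ext
      ext y : 1
      by_cases hy : y = 10
      · rw [hy]; exact hg10
      · exact h2 y (Finset.mem_erase.2 ⟨hy, Finset.mem_univ _⟩)
    rw [h3, orderOf_one] at hg
    exact hp.one_lt.ne hg
  have hH3 := hU _ hC3 (by
    have : ∀ i : Fin 7, xp i 10 = 10 := by decide +kernel
    exact this)
  have m5 : (⟨nine, nine_mem⟩ : A11) ∈ H := hH3 (by
    show nine 10 = 10
    decide)
  have p11 : 11 ∈ π := by
    refine mem_pi_of hH.pi (by norm_num) (mul_mem m3 m5) (Subtype.ext ?_) fun h => ?_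
    · exact (by decide +kernel : (u3 * nine) ^ 11 = 1)
    · exact absurd (congrArg Subtype.val h) (by decide : u3 * nine ≠ 1)
  intro p hp hpd
  rw [card, show (19958400 : ℕ) = 2 ^ 7 * 3 ^ 4 * 5 ^ 2 * 7 * 11 by norm_num] at hpd
  rcases (Nat.Prime.dvd_mul hp).1 hpd with h | h
  · rcases (Nat.Prime.dvd_mul hp).1 h with h | h
    · rcases (Nat.Prime.dvd_mul hp).1 h with h | h
      · rcases (Nat.Prime.dvd_mul hp).1 h with h | h
        · rw [(Nat.prime_dvd_prime_iff_eq hp Nat.prime_two).1 (hp.dvd_of_dvd_pow h)]; exact h2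
        · rw [(Nat.prime_dvd_prime_iff_eq hp Nat.prime_three).1 (hp.dvd_of_dvd_pow h)]; exact h3
      · rw [(Nat.prime_dvd_prime_iff_eq hp (by norm_num)).1 (hp.dvd_of_dvd_pow h)]; exact p5
    · rw [(Nat.prime_dvd_prime_iff_eq hp (by norm_num)).1 h]; exact p7
  · rw [(Nat.prime_dvd_prime_iff_eq hp (by norm_num)).1 h]; exact p11

end Eleven

end Cfsg.Agent.H861.PiS
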