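import Cfsg.Agent.TypeM.FactsLy
import Cfsg.Agent.H861.PiS.AltEleven
import Cfsg.Agent.H861.PiS.Tools2

/-!
# S3876: the Lyons group, `2, 3 ∈ π` (helper861)

`C(t) = 2·A₁₁` and the normaliser of a four-group generate a Hall subgroup `H` controlling the fusion of involutions;
a Sylow 2-subgroup acts semiregularly on the cosets of `H` besides `H`, so `|G : H| ≡ 1 (mod 256)`.
-/

set_option autoImplicit false

namespace Cfsg.Agent.H861.PiS.LyRow

open Cfsg Subgroup
open Cfsg.Agent.H841.PiBS Cfsg.Agent.H543.PiBS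
open Cfsg.Agent.TypeM.Two Cfsg.Agent.SporRec.TwoAn
open Cfsg.Agent.GH.Pc

variable {G : Type*} [Group G] [Finite G] (L : MT 11 G)

/-- the projection `2·A₁₁ → A₁₁` -/
def f : centralizer ({L.t} : Set G) →* alternatingGroup (Fin 11) :=
  L.K.π.codRestrict (alternatingGroup (Fin 11)) L.K.mem_alternating

omit [Finite G] in
theorem f_coe (x : centralizer ({L.t} : Set G)) : ((f L x : alternatingGroup (Fin 11)) : Equiv.Perm (Fin 11)) = L.K.π x := rfl

omit [Finite G] in
theorem f_surj : Function.Surjective (f L) := by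
  intro σ
  obtain ⟨g, hg⟩ := L.K.exists_lift σ.2
  exact ⟨g, Subtype.ext hg⟩

omit [Finite G] in
theorem f_eq_one {x : centralizer ({L.t} : Set G)} (h : f L x = 1) : x = 1 ∨ x = L.K.z :=
  (L.K.ker x).1 (congrArg Subtype.val h)

omit [Finite G] in
theorem ker_card : Nat.card (f L).ker = 2 := by
  have h1 : ((f L).ker : Set (centralizer ({L.t} : Set G))) = {1, L.K.z} := by
    ext x
    constructor
    · intro hx
      exact f_eq_one L hx
    · rintro (rfl | rfl)
      · exact one_mem _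
      · exact Subtype.ext L.K.π_z
  have h2 : Nat.card (f L).ker = ((f L).ker : Set (centralizer ({L.t} : Set G))).ncard := rfl
  rw [h2, h1, Set.ncard_pair L.K.z_ne.symm]

omit [Finite G] in
theorem card_C : Nat.card (centralizer ({L.t} : Set G)) = 39916800 := by
  have h1 := (f L).ker.card_mul_index
  rw [Subgroup.index_ker, MonoidHom.range_eq_top.2 (f_surj L), card_top, ker_card, Eleven.card] at h1
  rw [← h1]

omit [Finite G] in
/-- the Sylow 2-subgroup -/
theorem exists_T (hc : Nat.card G = 51765179004000000) : ∃ T : Sylow 2 G,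
    ∀ g : G, g ∈ (T : Subgroup G) ↔ ∃ h : g ∈ centralizer ({L.t} : Set G),
      f L ⟨g, h⟩ ∈ closure (Set.range Eleven.x) := by
  have hfact : Fact (Nat.Prime 2) := ⟨Nat.prime_two⟩
  obtain ⟨S, hS⟩ := Cfsg.Agent.QTUnique.PcCard.exists_sylow_eq Eleven.P_ok Eleven.sat Eleven.nf_x Eleven.not_dvd
  let K : Subgroup G := ((S : Subgroup Eleven.A11).comap (f L)).map (centralizer ({L.t} : Set G)).subtype
  have hK : ∀ g : G, g ∈ K ↔ ∃ h : g ∈ centralizer ({L.t} : Set G), f L ⟨g, h⟩ ∈ closure (Set.range Eleven.x) := by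
    intro g
    constructor
    · rintro ⟨y, hy, rfl⟩
      refine ⟨y.2, ?_⟩
      rw [← hS]
      exact hy
    · rintro ⟨h, h2⟩
      rw [← hS] at h2
      exact ⟨⟨g, h⟩, h2, rfl⟩
  have hp : IsPGroup 2 K := by
    rintro ⟨x, y, hy, rfl⟩
    obtain ⟨k, hk⟩ := S.isPGroup' ⟨f L y, hy⟩
    have h1 : f L (y ^ 2 ^ k) = 1 := by
      rw [map_pow]
      exact congrArg Subtype.val hk
    refine ⟨k + 1, Subtype.ext ?_⟩
    show ((centralizer ({L.t} : Set G)).subtype y) ^ 2 ^ (k + 1) = 1
    rw [← map_pow]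
    have h2 : y ^ 2 ^ (k + 1) = 1 := by
      rw [pow_succ, pow_mul, pow_two]
      rcases f_eq_one L h1 with h3 | h3
      · rw [h3, one_mul]
      · rw [h3, L.K.z_mul_z]
    rw [h2, map_one]
  have hi : ¬ 2 ∣ K.index := by
    have h1 : K.index = (S : Subgroup Eleven.A11).index * (centralizer ({L.t} : Set G)).index := by
      show (((S : Subgroup Eleven.A11).comap (f L)).map (centralizer ({L.t} : Set G)).subtype).index = _
      rw [index_map_subtype, index_comap_of_surjective _ (f_surj L)]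
    have h2 : (centralizer ({L.t} : Set G)).index = 1296826875 := by
      have h3 := (centralizer ({L.t} : Set G)).card_mul_index
      rw [card_C, hc] at h3
      omega
    rw [h1, h2, Nat.prime_two.dvd_mul, not_or]
    exact ⟨S.not_dvd_index, by norm_num⟩
  exact ⟨hp.toSylow hi, hK⟩

/-- control of fusion in a subgroup containing `C(t)`, a Sylow 2-subgroup of `C(t)` and an element fusing `t` to `w` -/
theorem control {T : Sylow 2 G} (hT : (T : Subgroup G) ≤ centralizer ({L.t} : Set G)) {H : Subgroup G}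
    (hC : centralizer ({L.t} : Set G) ≤ H) {w r : G} (hw : w * w = 1) (hw1 : w ≠ 1) (hwt : w ≠ L.t)
    (hwc : w * L.t = L.t * w) (hr : r ∈ H) (hrt : r * L.t * r⁻¹ = w) {s : G} (hs : s * s = 1) (hs1 : s ≠ 1)
    (hsH : s ∈ H) : ∃ h ∈ H, h * L.t * h⁻¹ = s := by
  have hfact : Fact (Nat.Prime 2) := ⟨Nat.prime_two⟩
  -- `s` moves into `T`
  have hTH : (T : Subgroup G) ≤ H := hT.trans hC
  obtain ⟨h, hh, hhT⟩ : ∃ h ∈ H, h * s * h⁻¹ ∈ (T : Subgroup G) := by
    let P : Sylow 2 H := T.subtype hTH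
    have hz : IsPGroup 2 (zpowers (⟨s, hsH⟩ : H)) := by
      refine IsPGroup.of_card (n := 1) ?_
      rw [Nat.card_zpowers, pow_one]
      refine orderOf_eq_prime (Subtype.ext ?_) fun h1 => hs1 (congrArg Subtype.val h1)
      show s ^ 2 = 1
      rw [pow_two, hs]
    obtain ⟨Q, hQ⟩ := hz.exists_le_sylow
    obtain ⟨h, hh⟩ := MulAction.exists_smul_eq H Q P
    refine ⟨h, h.2, ?_⟩
    have h1 : (⟨s, hsH⟩ : H) ∈ (Q : Subgroup H) := hQ (mem_zpowers _)
    have h2 : h * ⟨s, hsH⟩ * h⁻¹ ∈ ((h • Q : Sylow 2 H) : Subgroup H) := ⟨_, h1, rfl⟩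
    rw [hh] at h2
    exact h2
  obtain ⟨s', hs'⟩ : ∃ s', s' = h * s * h⁻¹ := ⟨_, rfl⟩
  rw [← hs'] at hhT
  have a1 : s' * s' = 1 := by
    calc s' * s' = h * (s * s) * h⁻¹ := by rw [hs']; group
      _ = 1 := by rw [hs]; group
  have a2 : s' ≠ 1 := by
    intro h1
    apply hs1
    calc s = h⁻¹ * s' * h := by rw [hs']; group
      _ = 1 := by rw [h1]; group
  have a3 := mem_centralizer_singleton_iff.1 (hT hhT)
  by_cases a4 : s' = L.t
  · refine ⟨h⁻¹, inv_mem hh, ?_⟩
    rw [← a4, hs']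
    group
  · obtain ⟨c, hc1, hc2⟩ := L.conj_in_centralizer (by norm_num) hwc a3 hw hw1 hwt a1 a2 a4
    refine ⟨h⁻¹ * c * r, mul_mem (mul_mem (inv_mem hh) (hC (mem_centralizer_singleton_iff.2 hc1))) hr, ?_⟩
    calc h⁻¹ * c * r * L.t * (h⁻¹ * c * r)⁻¹ = h⁻¹ * (c * (r * L.t * r⁻¹) * c⁻¹) * h := by group
      _ = s := by rw [hrt, hc2, hs']; group

/-- the index is `≡ 1` modulo the order of a Sylow 2-subgroup -/
theorem index_mod {T : Sylow 2 G} (hT : (T : Subgroup G) ≤ centralizer ({L.t} : Set G)) {H : Subgroup G}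
    (hC : centralizer ({L.t} : Set G) ≤ H) {w r : G} (hw : w * w = 1) (hw1 : w ≠ 1) (hwt : w ≠ L.t)
    (hwc : w * L.t = L.t * w) (hr : r ∈ H) (hrt : r * L.t * r⁻¹ = w) :
    Nat.card (T : Subgroup G) ∣ H.index - 1 := by
  classical
  have hfact : Fact (Nat.Prime 2) := ⟨Nat.prime_two⟩
  have hTH : (T : Subgroup G) ≤ H := hT.trans hC
  let X : SubMulAction (T : Subgroup G) (G ⧸ H) :=
    { carrier := {x | x ≠ ((1 : G) : G ⧸ H)}
      smul_mem' := by
        intro t x hx h
        apply hx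
        have h1 : x = t⁻¹ • ((1 : G) : G ⧸ H) := by rw [← h, inv_smul_smul]
        rw [h1]
        show (((t⁻¹ : (T : Subgroup G)) : G) * 1 : G) = ((1 : G) : G ⧸ H)
        rw [mul_one]
        refine QuotientGroup.eq.2 ?_
        rw [mul_one, inv_mem_iff]
        exact hTH (t⁻¹).2 }
  have hX : Nat.card X = H.index - 1 := by
    have h1 : Nat.card X = ({x | x ≠ ((1 : G) : G ⧸ H)} : Set (G ⧸ H)).ncard := rfl
    have h2 : ({x | x ≠ ((1 : G) : G ⧸ H)} : Set (G ⧸ H)) = Set.univ \ {((1 : G) : G ⧸ H)} := by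
      ext x
      simp
    rw [h1, h2, Set.ncard_sdiff (Set.subset_univ _) (Set.toFinite _), Set.ncard_univ, Set.ncard_singleton, index_eq_card]
  rw [← hX]
  refine dvd_of_orbits (T := (T : Subgroup G)) fun x => ?_
  have h1 : MulAction.stabilizer (T : Subgroup G) x = ⊥ := by
    rcases (T.isPGroup'.to_subgroup (MulAction.stabilizer (T : Subgroup G) x)).card_eq_or_dvd with h2 | h2
    · exact eq_bot_of_card_eq _ h2
    exfalso
    obtain ⟨u, hu⟩ := exists_prime_orderOf_dvd_card' 2 h2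
    obtain ⟨s, hs⟩ : ∃ s : G, s = ((u : (T : Subgroup G)) : G) := ⟨_, rfl⟩
    have hsT : s ∈ (T : Subgroup G) := by rw [hs]; exact (u : (T : Subgroup G)).2
    have hs2 : s * s = 1 := by
      have h3 : u ^ 2 = 1 := by
        have h4 := pow_orderOf_eq_one u
        rwa [hu] at h4
      rw [pow_two] at h3
      rw [hs]
      exact congrArg (fun y : MulAction.stabilizer (T : Subgroup G) x => ((y : (T : Subgroup G)) : G)) h3
    have hs1 : s ≠ 1 := by
      intro h3
      rw [hs] at h3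
      have h4 : u = 1 := Subtype.ext (Subtype.ext h3)
      rw [h4, orderOf_one] at hu
      exact absurd hu (by norm_num)
    have hux : (u : (T : Subgroup G)) • x = x := u.2
    obtain ⟨g, hg⟩ := QuotientGroup.mk_surjective (x : G ⧸ H)
    have hgH : g ∉ H := by
      intro h3
      apply x.2
      rw [← hg]
      exact (QuotientGroup.eq.2 (by rwa [inv_one, one_mul])).symm
    have h5 : g⁻¹ * s * g ∈ H := by
      have h6 : ((s * g : G) : G ⧸ H) = (g : G ⧸ H) := by
        have h7 := congrArg (fun y : X => (y : G ⧸ H)) hux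
        have h8 : ((u : (T : Subgroup G)) • (x : G ⧸ H)) = (x : G ⧸ H) := h7
        rw [← hg] at h8
        rw [hs]
        exact h8
      have h9 := QuotientGroup.eq.1 h6.symm
      rwa [← mul_assoc] at h9
    obtain ⟨h, hh, hht⟩ := control L hT hC hw hw1 hwt hwc hr hrt (s := g⁻¹ * s * g) (by
      calc g⁻¹ * s * g * (g⁻¹ * s * g) = g⁻¹ * (s * s) * g := by group
        _ = 1 := by rw [hs2]; group) (fun h3 => hs1 (by
      calc s = g * (g⁻¹ * s * g) * g⁻¹ := by group
        _ = 1 := by rw [h3]; group)) h5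
    obtain ⟨k, hk, hkt⟩ := control L hT hC hw hw1 hwt hwc hr hrt hs2 hs1 (hTH hsT)
    apply hgH
    have h6 : k⁻¹ * g * h ∈ H := by
      refine hC (mem_centralizer_singleton_iff.2 ?_)
      have e1 : g * (h * L.t * h⁻¹) * g⁻¹ = k * L.t * k⁻¹ := by rw [hht, hkt]; group
      calc k⁻¹ * g * h * L.t = k⁻¹ * (g * (h * L.t * h⁻¹) * g⁻¹) * (g * h) := by group
        _ = L.t * (k⁻¹ * g * h) := by rw [e1]; group
    have e2 : g = k * (k⁻¹ * g * h) * h⁻¹ := by group
    rw [e2]
    exact mul_mem (mul_mem hk h6) (inv_mem hh)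
  rw [Nat.card_congr (MulAction.orbitEquivQuotientStabilizer (T : Subgroup G) x), h1]
  rw [← index_eq_card, index_bot]

theorem swap_data : ((Eleven.xp 3).support.card = 4 * 1 ∧ Eleven.xp 3 * Eleven.xp 3 = 1) ∧
    ((Eleven.xp 6 * Eleven.xp 3).support.card = 4 * 2 ∧
      Eleven.xp 6 * Eleven.xp 3 * (Eleven.xp 6 * Eleven.xp 3) = 1) ∧
    ((Eleven.xp 6).support.card = 4 * 2 ∧ Eleven.xp 6 * Eleven.xp 6 = 1) := by decide +kernel

include L in
/-- the Lyons group -/
theorem row {π : Set ℕ} (h2 : 2 ∈ π) (h3 : 3 ∈ π) (hc : Nat.card G = 51765179004000000) (hD : DC π G) :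
    PiGrp π G := by
  classical
  have hfact : Fact (Nat.Prime 2) := ⟨Nat.prime_two⟩
  obtain ⟨T, hT⟩ := exists_T L hc
  obtain ⟨⟨s3, q3⟩, ⟨s63, q63⟩, s6, q6⟩ := swap_data
  -- `T ≤ C(t)`
  have hTC : (T : Subgroup G) ≤ centralizer ({L.t} : Set G) := fun g hg => ((hT g).1 hg).1
  have htC : L.t ∈ centralizer ({L.t} : Set G) := mem_centralizer_singleton_iff.2 rfl
  have hzt : L.K.z = ⟨L.t, htC⟩ := Subtype.ext L.hz
  have htT : L.t ∈ (T : Subgroup G) := by
    rw [hT]
    refine ⟨htC, ?_⟩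
    have h4 : f L ⟨L.t, htC⟩ = 1 := by
      rw [← hzt]
      exact Subtype.ext L.K.π_z
    rw [h4]
    exact one_mem _
  have hxmem : ∀ i, Eleven.x i ∈ closure (Set.range Eleven.x) := fun i => subset_closure ⟨i, rfl⟩
  -- the lifts
  obtain ⟨w, hwf⟩ := f_surj L (Eleven.x 6)
  have hwπ : L.K.π w = Eleven.xp 6 := congrArg Subtype.val hwf
  have hww : w * w = 1 := by
    have h4 := L.K.sq_eq (g := w) (k := 2) (by rw [hwπ]; exact q6) (by rw [hwπ]; exact s6)
    rw [h4, L.K.z_pow_two]
  have hww' : (w : G) * w = 1 := congrArg Subtype.val hww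
  have hx61 : Eleven.x 6 ≠ 1 := fun h => absurd (congrArg Subtype.val h) (by decide : Eleven.xp 6 ≠ 1)
  have hw1 : (w : G) ≠ 1 := by
    intro h4
    have h5 : w = 1 := Subtype.ext h4
    rw [h5, map_one] at hwf
    exact hx61 hwf.symm
  have hwt : (w : G) ≠ L.t := by
    intro h4
    have h5 : w = L.K.z := Subtype.ext (h4.trans L.hz.symm)
    rw [h5] at hwπ
    rw [L.K.π_z] at hwπ
    exact absurd hwπ.symm (by decide : Eleven.xp 6 ≠ 1)
  have hwc : (w : G) * L.t = L.t * w := mem_centralizer_singleton_iff.1 w.2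
  -- `N(T) ≤ C(t)`
  have hN : normalizer ((T : Subgroup G) : Set G) ≤ centralizer ({L.t} : Set G) := by
    intro g hg
    have hgi := inv_mem hg
    obtain ⟨y, hy⟩ : ∃ y, y = g * L.t * g⁻¹ := ⟨_, rfl⟩
    have hyT : y ∈ (T : Subgroup G) := by rw [hy]; exact (mem_normalizer_iff.1 hg L.t).1 htT
    have hyc : ∀ u ∈ (T : Subgroup G), u * y = y * u := by
      intro u hu
      have h5 : g⁻¹ * u * g ∈ (T : Subgroup G) := by
        have := (mem_normalizer_iff.1 hgi u).1 hu
        rwa [inv_inv] at this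
      have h6 := mem_centralizer_singleton_iff.1 (hTC h5)
      calc u * y = g * ((g⁻¹ * u * g) * L.t) * g⁻¹ := by rw [hy]; group
        _ = g * (L.t * (g⁻¹ * u * g)) * g⁻¹ := by rw [h6]
        _ = y * u := by rw [hy]; group
    have hyy : y * y = 1 := by
      calc y * y = g * (L.t * L.t) * g⁻¹ := by rw [hy]; group
        _ = 1 := by rw [L.t_mul_t]; group
    have hy1 : y ≠ 1 := by
      intro h4
      apply L.t_ne
      calc L.t = g⁻¹ * y * g := by rw [hy]; group
        _ = 1 := by rw [h4]; group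
    obtain ⟨hyC, hyf⟩ := (hT y).1 hyT
    have hlift : ∀ i, ∃ u ∈ (T : Subgroup G), ∃ hu : u ∈ centralizer ({L.t} : Set G), f L ⟨u, hu⟩ = Eleven.x i := by
      intro i
      obtain ⟨u, hu⟩ := f_surj L (Eleven.x i)
      refine ⟨u, (hT _).2 ⟨u.2, ?_⟩, u.2, hu⟩
      rw [show (⟨(u : G), u.2⟩ : centralizer ({L.t} : Set G)) = u from rfl, hu]
      exact hxmem i
    have h6 : ∀ i, Eleven.x i * f L ⟨y, hyC⟩ = f L ⟨y, hyC⟩ * Eleven.x i := by
      intro i
      obtain ⟨u, huT, huC, hu⟩ := hlift i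
      rw [← hu, ← map_mul, ← map_mul]
      congr 1
      exact Subtype.ext (hyc u huT)
    have h7 : f L ⟨y, hyC⟩ = 1 := by
      by_contra hne
      obtain ⟨e, he⟩ := exists_nf Eleven.P_ok Eleven.sat hyf
      have h8 : f L ⟨y, hyC⟩ = Eleven.x 6 := by
        rw [he]
        exact Eleven.cen_x e (by rw [← he]; exact h6) (by rw [← he]; exact hne)
      obtain ⟨u, huT, huC, hu⟩ := hlift 3
      have p1 : L.K.π ⟨y, hyC⟩ = Eleven.xp 6 := congrArg Subtype.val h8
      have p2 : L.K.π ⟨u, huC⟩ = Eleven.xp 3 := congrArg Subtype.val hu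
      have r1 : (⟨u, huC⟩ : centralizer ({L.t} : Set G)) * ⟨u, huC⟩ = L.K.z := by
        rw [L.K.sq_eq (k := 1) (by rw [p2]; exact q3) (by rw [p2]; exact s3), pow_one]
      have r2 : ((⟨y, hyC⟩ : centralizer ({L.t} : Set G)) * ⟨u, huC⟩) * (⟨y, hyC⟩ * ⟨u, huC⟩) = 1 := by
        rw [L.K.sq_eq (k := 2) (by rw [map_mul, p1, p2]; exact q63) (by rw [map_mul, p1, p2]; exact s63),
          L.K.z_pow_two]
      have r3 : (⟨u, huC⟩ : centralizer ({L.t} : Set G)) * ⟨y, hyC⟩ = ⟨y, hyC⟩ * ⟨u, huC⟩ := Subtype.ext (hyc u huT)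
      apply L.K.z_ne
      calc L.K.z = (⟨y, hyC⟩ : centralizer ({L.t} : Set G)) * ⟨y, hyC⟩ * (⟨u, huC⟩ * ⟨u, huC⟩) := by
            rw [r1, show (⟨y, hyC⟩ : centralizer ({L.t} : Set G)) * ⟨y, hyC⟩ = 1 from Subtype.ext hyy, one_mul]
        _ = ⟨y, hyC⟩ * (⟨y, hyC⟩ * ⟨u, huC⟩) * ⟨u, huC⟩ := by simp only [mul_assoc]
        _ = ⟨y, hyC⟩ * (⟨u, huC⟩ * ⟨y, hyC⟩) * ⟨u, huC⟩ := by rw [r3]
        _ = 1 := by rw [← r2]; simp only [mul_assoc]
    rcases f_eq_one L h7 with h8 | h8
    · exact absurd (congrArg Subtype.val h8) hy1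
    · have h9 : y = L.t := (congrArg Subtype.val h8).trans L.hz
      rw [mem_centralizer_singleton_iff]
      calc g * L.t = g * L.t * g⁻¹ * g := by group
        _ = L.t * g := by rw [← hy, h9]
  -- `C(t)` is a `π`-group
  have hd : DT π G := DT.of_dPi hD.isDPi h2
  have hd1 : DT π (centralizer ({L.t} : Set G)) := hd.descend T hTC hN
  have hd2 : DT π Eleven.A11 := by
    refine hd1.of_surjective (f L) (f_surj L) ?_
    refine isPi_of_isPGroup h2 ?_
    exact IsPGroup.of_card (n := 1) (by rw [ker_card, pow_one])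
  have hP := Eleven.good h2 h3 hd2
  have hC : IsPiSubgroup π (centralizer ({L.t} : Set G)) := by
    intro p hp hpd
    rw [card_C, show (39916800 : ℕ) = 2 * 19958400 by norm_num] at hpd
    rcases (Nat.Prime.dvd_mul hp).1 hpd with h | h
    · rw [(Nat.prime_dvd_prime_iff_eq hp Nat.prime_two).1 h]; exact h2
    · exact hP p hp (by rw [Eleven.card]; exact h)
  obtain ⟨H, hH, hNH, hU⟩ := hD.overgroups T (isPi_of_le hC hN)
  have hCH := hU _ hC hTC
  -- the four-group
  have hTV : (T : Subgroup G) ≤ normalizer (VV L.t (w : G)) := by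
    intro u hu
    obtain ⟨huC, huf⟩ := (hT u).1 hu
    have hut := mem_centralizer_singleton_iff.1 huC
    have hcase : u * w = w * u ∨ u * w = w * u * L.t := by
      have h4 : (⟨u, huC⟩ : centralizer ({L.t} : Set G)) * w = w * ⟨u, huC⟩ ∨
          (⟨u, huC⟩ : centralizer ({L.t} : Set G)) * w = w * ⟨u, huC⟩ * L.K.z := by
        refine L.K.comm_or ?_
        have h5 : f L ⟨u, huC⟩ * Eleven.x 6 = Eleven.x 6 * f L ⟨u, huC⟩ := by
          have h6 : closure (Set.range Eleven.x) ≤ centralizer ({Eleven.x 6} : Set Eleven.A11) := by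
            rw [closure_le]
            rintro _ ⟨i, rfl⟩
            refine mem_centralizer_singleton_iff.2 (Subtype.ext ?_)
            show Eleven.xp i * Eleven.xp 6 = Eleven.xp 6 * Eleven.xp i
            revert i
            decide +kernel
          exact mem_centralizer_singleton_iff.1 (h6 huf)
        have h7 := congrArg Subtype.val h5
        rw [hwπ]
        exact h7
      rcases h4 with h4 | h4
      · exact Or.inl (congrArg Subtype.val h4)
      · right
        have h5 : u * w = w * u * (L.K.z : G) := congrArg Subtype.val h4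
        rwa [L.hz] at h5
    have htt := L.t_mul_t
    apply mem_norm_of
    · rintro x (rfl | rfl | rfl)
      · left
        rw [hut]
        group
      · rcases hcase with h | h
        · right; left
          rw [h]; group
        · right; right
          rw [h]
          calc (w : G) * u * L.t * u⁻¹ = w * (u * L.t) * u⁻¹ := by group
            _ = w * L.t := by rw [hut]; group
      · rcases hcase with h | h
        · right; right
          calc u * (w * L.t) * u⁻¹ = (u * w) * L.t * u⁻¹ := by group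
            _ = w * (u * L.t) * u⁻¹ := by rw [h]; group
            _ = w * L.t := by rw [hut]; group
        · right; left
          calc u * (w * L.t) * u⁻¹ = (u * w) * L.t * u⁻¹ := by group
            _ = w * u * (L.t * L.t) * u⁻¹ := by rw [h]; group
            _ = w := by rw [htt]; group
    · have hut' : u⁻¹ * L.t = L.t * u⁻¹ := by
        calc u⁻¹ * L.t = u⁻¹ * (L.t * u) * u⁻¹ := by group
          _ = L.t * u⁻¹ := by rw [← hut]; group
      have hcase' : w * u = u * w ∨ w * u = u * w * L.t := by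
        rcases hcase with h | h
        · exact Or.inl h.symm
        · right
          rw [h]
          calc (w : G) * u = w * u * (L.t * L.t) := by rw [htt, mul_one]
            _ = w * u * L.t * L.t := by group
      rintro x (rfl | rfl | rfl)
      · left
        rw [hut']
        group
      · rcases hcase' with h | h
        · right; left
          rw [mul_assoc, h]; group
        · right; right
          rw [mul_assoc, h]
          show u⁻¹ * (u * w * L.t) = w * L.t
          group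
      · rcases hcase' with h | h
        · right; right
          calc u⁻¹ * (w * L.t) * u = u⁻¹ * w * (L.t * u) := by group
            _ = u⁻¹ * (w * u) * L.t := by rw [← hut]; group
            _ = w * L.t := by rw [h]; group
        · right; left
          calc u⁻¹ * (w * L.t) * u = u⁻¹ * w * (L.t * u) := by group
            _ = u⁻¹ * (w * u) * L.t := by rw [← hut]; group
            _ = w * (L.t * L.t) := by rw [h]; group
            _ = w := by rw [htt, mul_one]
  have hVH := hU _ (isPi_normalizer h2 h3 hC) hTV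
  -- the fusion
  obtain ⟨r, hr, hrt⟩ : ∃ r ∈ normalizer (VV L.t (w : G)), r * L.t * r⁻¹ = w := by
    obtain ⟨g, hg⟩ := L.one w hww' hw1
    have htt := L.t_mul_t
    obtain ⟨c, hc1, hc2⟩ := (L.rebase g hg).conj_in_centralizer (by norm_num) (r := g * w * g⁻¹) (s := L.t) (by
      rw [MT.rebase_t, ← hg]
      calc g * (g * L.t * g⁻¹) * g⁻¹ * (g * L.t * g⁻¹) = g * ((g * L.t * g⁻¹) * L.t) * g⁻¹ := by group
        _ = g * (L.t * (g * L.t * g⁻¹)) * g⁻¹ := by rw [hg, hwc]
        _ = g * L.t * g⁻¹ * (g * (g * L.t * g⁻¹) * g⁻¹) := by group) (by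
      rw [MT.rebase_t, hwc]) (by
      calc g * w * g⁻¹ * (g * w * g⁻¹) = g * (w * w) * g⁻¹ := by group
        _ = 1 := by rw [hww']; group) (by
      intro h
      apply hw1
      calc (w : G) = g⁻¹ * (g * w * g⁻¹) * g := by group
        _ = 1 := by rw [h]; group) (by
      intro h
      rw [MT.rebase_t] at h
      apply hwt
      calc (w : G) = g⁻¹ * (g * w * g⁻¹) * g := by group
        _ = g⁻¹ * w * g := by rw [h]
        _ = L.t := by rw [← hg]; group) htt L.t_ne (by
      rw [MT.rebase_t]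
      exact fun h => hwt h.symm)
    rw [MT.rebase_t] at hc1
    have k1 : c * g * L.t * (c * g)⁻¹ = w := by
      calc c * g * L.t * (c * g)⁻¹ = c * (g * L.t * g⁻¹) * c⁻¹ := by group
        _ = w := by rw [hg, hc1]; group
    have k2 : c * g * w * (c * g)⁻¹ = L.t := by
      calc c * g * w * (c * g)⁻¹ = c * (g * w * g⁻¹) * c⁻¹ := by group
        _ = L.t := hc2
    refine ⟨c * g, ?_, k1⟩
    obtain ⟨b, hb⟩ : ∃ b, b = c * g := ⟨_, rfl⟩
    rw [← hb] at k1 k2 ⊢
    have k3 : b⁻¹ * w * b = L.t := by rw [← k1]; group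
    have k4 : b⁻¹ * L.t * b = w := by
      calc b⁻¹ * L.t * b = b⁻¹ * (b * w * b⁻¹) * b := by rw [k2]
        _ = w := by group
    apply mem_norm_of
    · rintro x (rfl | rfl | rfl)
      · exact Or.inr (Or.inl k1)
      · exact Or.inl k2
      · right; right
        calc b * (w * L.t) * b⁻¹ = (b * w * b⁻¹) * (b * L.t * b⁻¹) := by group
          _ = w * L.t := by rw [k1, k2, hwc]
    · rintro x (rfl | rfl | rfl)
      · exact Or.inr (Or.inl k4)
      · exact Or.inl k3
      · right; right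
        calc b⁻¹ * (w * L.t) * b = (b⁻¹ * w * b) * (b⁻¹ * L.t * b) := by group
          _ = w * L.t := by rw [k3, k4, hwc]
  have hmod := index_mod L hTC hCH hww' hw1 hwt hwc (hVH hr) hrt
  have h256 : 256 ∣ H.index - 1 := by
    refine dvd_trans ?_ hmod
    have h4 := T.pow_dvd_card_of_pow_dvd_card (n := 8) (by rw [hc]; norm_num)
    exact h4
  have h5 : 5 ∈ π := hC 5 (by norm_num) (by rw [card_C]; norm_num)
  have hdvd : H.index ∣ 15 ^ 4 * 76849 := by
    have h6 : H.index ∣ (centralizer ({L.t} : Set G)).index := index_dvd_of_le hCH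
    have h7 : (centralizer ({L.t} : Set G)).index = 1296826875 := by
      have h8 := (centralizer ({L.t} : Set G)).card_mul_index
      rw [card_C, hc] at h8
      omega
    rw [h7] at h6
    exact h6.trans (by norm_num)
  have hcop : Nat.Coprime H.index (15 ^ 4) := by
    apply Nat.Coprime.pow_right
    rw [show (15 : ℕ) = 3 * 5 by norm_num]
    refine Nat.Coprime.mul_right ?_ ?_
    · exact (Nat.coprime_comm.1 ((Nat.Prime.coprime_iff_not_dvd Nat.prime_three).2 (hH.2 3 Nat.prime_three h3)))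
    · exact (Nat.coprime_comm.1 ((Nat.Prime.coprime_iff_not_dvd Nat.prime_five).2 (hH.2 5 Nat.prime_five h5)))
  have hd3 := hcop.dvd_of_dvd_mul_left hdvd
  have hidx : H.index = 1 := by
    rw [show (76849 : ℕ) = 31 * 37 * 67 by norm_num] at hd3
    obtain ⟨a, b, ha, hb, hab⟩ := Nat.dvd_mul.1 hd3
    obtain ⟨c, d, hc', hd', hcd⟩ := Nat.dvd_mul.1 ha
    rw [← hab, ← hcd] at h256 ⊢
    rcases (Nat.dvd_prime (by norm_num)).1 hb with rfl | rfl <;>
    rcases (Nat.dvd_prime (by norm_num)).1 hc' with rfl | rfl <;>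
    rcases (Nat.dvd_prime (by norm_num)).1 hd' with rfl | rfl <;>
    first
    | rfl
    | (exfalso; revert h256; norm_num)
  exact pg_of_top hH.1 (index_eq_one.1 hidx)

theorem row_Ly {S : Type*} [Group S] [Finite S] (h : Cfsg.Spor.IsoLy S) {π : Set ℕ} (h2 : 2 ∈ π) (h3 : 3 ∈ π)
    (hD : DC π S) : PiGrp π S := by
  obtain ⟨-, -, hc, ⟨L⟩⟩ := Cfsg.Agent.TypeM.FactsLy.facts h
  exact row L h2 h3 hc hD

end Cfsg.Agent.H861.PiS.LyRow
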