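import Cfsg.Agent.H861.PiS.AltTools

/-!
# S3876: `Good π A₉` (helper861)
-/

set_option autoImplicit false

namespace Cfsg.Agent.H861.PiS.Nine

open Cfsg Subgroup
open Cfsg.Agent.H841.PiBS
open Cfsg.Agent.GH.Pc Cfsg.Agent.GH.Models.Proj

abbrev P9 := Equiv.Perm (Fin 9)
abbrev A9 := alternatingGroup (Fin 9)

/-- the polycyclic family of a Sylow 2-subgroup -/
def xp : Fin 6 → P9 := ![
  ⟨![4, 5, 6, 7, 0, 1, 2, 3, 8], ![4, 5, 6, 7, 0, 1, 2, 3, 8], by decide, by decide⟩,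
  ⟨![2, 3, 0, 1, 4, 5, 6, 7, 8], ![2, 3, 0, 1, 4, 5, 6, 7, 8], by decide, by decide⟩,
  ⟨![0, 1, 2, 3, 6, 7, 4, 5, 8], ![0, 1, 2, 3, 6, 7, 4, 5, 8], by decide, by decide⟩,
  ⟨![1, 0, 2, 3, 5, 4, 6, 7, 8], ![1, 0, 2, 3, 5, 4, 6, 7, 8], by decide, by decide⟩,
  ⟨![1, 0, 3, 2, 4, 5, 6, 7, 8], ![1, 0, 3, 2, 4, 5, 6, 7, 8], by decide, by decide⟩,
  ⟨![1, 0, 3, 2, 5, 4, 7, 6, 8], ![1, 0, 3, 2, 5, 4, 7, 6, 8], by decide, by decide⟩]

theorem xp_mem : ∀ i, xp i ∈ alternatingGroup (Fin 9) := by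
  intro i
  rw [Equiv.Perm.mem_alternatingGroup]
  revert i
  decide +kernel

def x (i : Fin 6) : A9 := ⟨xp i, xp_mem i⟩

def P : Pres 6 where
  sq _ := []
  cj i j := match i.val, j.val with
    | 0, 1 => [2]
    | 0, 2 => [1]
    | 0, 4 => [4, 5]
    | 1, 3 => [3, 4]
    | 2, 3 => [3, 4, 5]
    | _, _ => [j]

theorem P_ok : P.Ok := by decide

theorem satp : Sat P xp := by
  constructor
  · decide +kernel
  · decide +kernel

theorem sat : Sat P x :=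
  Sat.of_injective (alternatingGroup (Fin 9)).subtype (subtype_injective _) satp

theorem nfp : allB 6 (fun e => isZ e || !decide (nf xp e = 1)) = true := by decide +kernel

theorem cenp : allB 6 (fun e => decide (nf xp e = 1) || decide (nf xp e = xp 5) ||
    !decide (∀ i, xp i * nf xp e = nf xp e * xp i)) = true := by decide +kernel

theorem coe_nf (e : Fin 6 → Bool) : ((nf x e : A9) : P9) = nf xp e :=
  map_nf (alternatingGroup (Fin 9)).subtype x e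

theorem nf_x (e : Fin 6 → Bool) (h : nf x e = 1) : e = fun _ => false :=
  nf_inj_of xp nfp e (by rw [← coe_nf, h]; rfl)

theorem cen_x (e : Fin 6 → Bool) (h : ∀ i, x i * nf x e = nf x e * x i) (hne : nf x e ≠ 1) : nf x e = x 5 := by
  apply Subtype.ext
  rw [coe_nf]
  refine cen_of xp (xp 5) cenp e (fun i => ?_) fun h1 => hne (Subtype.ext (by rw [coe_nf]; exact h1))
  have := congrArg Subtype.val (h i)
  rw [← coe_nf]
  exact this

theorem card : Nat.card A9 = 181440 := by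
  rw [nat_card_alternatingGroup, Nat.card_fin]
  decide

theorem not_dvd : ¬ 2 ^ (6 + 1) ∣ Nat.card A9 := by
  rw [card]; decide

/-- the centralizer of the central involution has no elements of prime order `≥ 5` -/
theorem cent_five {p : ℕ} (hp : p.Prime) (h5 : 5 ≤ p) (g : A9) (hg : g ^ p = 1) (hc : g * x 5 = x 5 * g) : g = 1 := by
  apply Subtype.ext
  refine comm_five (xp 5) ?_ ?_ hp h5 (g : P9) (congrArg Subtype.val hg) (congrArg Subtype.val hc)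
  · decide +kernel
  · decide +kernel

def w1 : P9 := ⟨![2, 3, 0, 1, 6, 7, 4, 5, 8], ![2, 3, 0, 1, 6, 7, 4, 5, 8], by decide, by decide⟩
def w2 : P9 := ⟨![2, 3, 0, 1, 7, 6, 5, 4, 8], ![2, 3, 0, 1, 7, 6, 5, 4, 8], by decide, by decide⟩
/-- `(1 2 3)(5 6 7)` -/
def g1 : P9 := ⟨![0, 2, 3, 1, 4, 6, 7, 5, 8], ![0, 3, 1, 2, 4, 7, 5, 6, 8], by decide, by decide⟩
/-- `(1 2 3)(5 7 6)` -/
def g2 : P9 := ⟨![0, 2, 3, 1, 4, 7, 5, 6, 8], ![0, 3, 1, 2, 4, 6, 7, 5, 8], by decide, by decide⟩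
/-- `(0 2 4)(1 3 5)` -/
def c3 : P9 := ⟨![2, 3, 4, 5, 0, 1, 6, 7, 8], ![4, 5, 0, 1, 2, 3, 6, 7, 8], by decide, by decide⟩

theorem w1_mem : w1 ∈ alternatingGroup (Fin 9) := by rw [Equiv.Perm.mem_alternatingGroup]; decide +kernel
theorem w2_mem : w2 ∈ alternatingGroup (Fin 9) := by rw [Equiv.Perm.mem_alternatingGroup]; decide +kernel
theorem g1_mem : g1 ∈ alternatingGroup (Fin 9) := by rw [Equiv.Perm.mem_alternatingGroup]; decide +kernel
theorem g2_mem : g2 ∈ alternatingGroup (Fin 9) := by rw [Equiv.Perm.mem_alternatingGroup]; decide +kernel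
theorem c3_mem : c3 ∈ alternatingGroup (Fin 9) := by rw [Equiv.Perm.mem_alternatingGroup]; decide +kernel

theorem norm_of (w g : A9) (h : (g : P9) * xp 5 = xp 5 * g ∨ (g : P9) * xp 5 = w * g ∨ (g : P9) * xp 5 = w * xp 5 * g)
    (h2 : (g : P9) * w = xp 5 * g ∨ (g : P9) * w = w * g ∨ (g : P9) * w = w * xp 5 * g)
    (h3 : (g : P9) * (w * xp 5) = xp 5 * g ∨ (g : P9) * (w * xp 5) = w * g ∨ (g : P9) * (w * xp 5) = w * xp 5 * g) :
    g ∈ normalizer (VV (x 5) w) := by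
  refine mem_norm_VV ?_ ?_ ?_
  · exact h.imp (fun h => Subtype.ext h) fun h => h.imp (fun h => Subtype.ext h) fun h => Subtype.ext h
  · exact h2.imp (fun h => Subtype.ext h) fun h => h.imp (fun h => Subtype.ext h) fun h => Subtype.ext h
  · exact h3.imp (fun h => Subtype.ext h) fun h => h.imp (fun h => Subtype.ext h) fun h => Subtype.ext h

theorem chk1 : ∀ i : Fin 6, (xp i * xp 5 = xp 5 * xp i ∨ xp i * xp 5 = w1 * xp i ∨ xp i * xp 5 = w1 * xp 5 * xp i) ∧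
    (xp i * w1 = xp 5 * xp i ∨ xp i * w1 = w1 * xp i ∨ xp i * w1 = w1 * xp 5 * xp i) ∧
    (xp i * (w1 * xp 5) = xp 5 * xp i ∨ xp i * (w1 * xp 5) = w1 * xp i ∨ xp i * (w1 * xp 5) = w1 * xp 5 * xp i) := by
  decide +kernel

theorem chk2 : ∀ i : Fin 6, (xp i * xp 5 = xp 5 * xp i ∨ xp i * xp 5 = w2 * xp i ∨ xp i * xp 5 = w2 * xp 5 * xp i) ∧
    (xp i * w2 = xp 5 * xp i ∨ xp i * w2 = w2 * xp i ∨ xp i * w2 = w2 * xp 5 * xp i) ∧
    (xp i * (w2 * xp 5) = xp 5 * xp i ∨ xp i * (w2 * xp 5) = w2 * xp i ∨ xp i * (w2 * xp 5) = w2 * xp 5 * xp i) := by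
  decide +kernel

/-- `A₉` is a `π`-group -/
theorem good {π : Set ℕ} (h2 : 2 ∈ π) (h3 : 3 ∈ π) : Good π A9 := by
  intro hd
  have hC : IsPiSubgroup π (centralizer ({x 5} : Set A9)) :=
    isPi_of_five h2 h3 fun p hp h5 g hg hgp => cent_five hp h5 g hgp (mem_centralizer_singleton_iff.1 hg)
  have hx1 : x 5 ≠ 1 := fun h => absurd (congrArg Subtype.val h) (by decide : xp 5 ≠ 1)
  have hcz : ∀ i, x i * x 5 = x 5 * x i := fun i => Subtype.ext (by
    show xp i * xp 5 = xp 5 * xp i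
    revert i
    decide +kernel)
  obtain ⟨H, hH, hU⟩ := exists_H P_ok sat nf_x not_dvd (fun w => w ≠ 1)
    (fun g w hw h => hw (by
      calc w = g⁻¹ * (g * w * g⁻¹) * g := by group
        _ = 1 := by rw [h]; group)) hx1 (subset_closure ⟨5, rfl⟩) hcz cen_x hC hd
  have hHC := hU _ hC fun i => mem_centralizer_singleton_iff.2 (hcz i)
  have hH1 := hU _ (isPi_normalizer h2 h3 (v := (⟨w1, w1_mem⟩ : A9)) hC) fun i =>
    norm_of ⟨w1, w1_mem⟩ (x i) (chk1 i).1 (chk1 i).2.1 (chk1 i).2.2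
  have hH2 := hU _ (isPi_normalizer h2 h3 (v := (⟨w2, w2_mem⟩ : A9)) hC) fun i =>
    norm_of ⟨w2, w2_mem⟩ (x i) (chk2 i).1 (chk2 i).2.1 (chk2 i).2.2
  have m1 : (⟨g1, g1_mem⟩ : A9) ∈ H := hH1 (norm_of ⟨w1, w1_mem⟩ ⟨g1, g1_mem⟩ (by decide) (by decide) (by decide))
  have m2 : (⟨g2, g2_mem⟩ : A9) ∈ H := hH2 (norm_of ⟨w2, w2_mem⟩ ⟨g2, g2_mem⟩ (by decide) (by decide) (by decide))
  have m3 : (⟨c3, c3_mem⟩ : A9) ∈ H := hHC (mem_centralizer_singleton_iff.2 (Subtype.ext (by decide : c3 * xp 5 = xp 5 * c3)))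
  have p5 : 5 ∈ π := by
    refine mem_pi_of hH.pi (by norm_num) (mul_mem (mul_mem (mul_mem m1 m2) m3) m3) (Subtype.ext ?_) fun h => ?_
    · exact (by decide +kernel : (g1 * g2 * c3 * c3) ^ 5 = 1)
    · exact absurd (congrArg Subtype.val h) (by decide : g1 * g2 * c3 * c3 ≠ 1)
  have p7 : 7 ∈ π := by
    refine mem_pi_of hH.pi (by norm_num) (mul_mem m1 m3) (Subtype.ext ?_) fun h => ?_
    · exact (by decide +kernel : (g1 * c3) ^ 7 = 1)
    · exact absurd (congrArg Subtype.val h) (by decide : g1 * c3 ≠ 1)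
  intro p hp hpd
  rw [card, show (181440 : ℕ) = 2 ^ 6 * 3 ^ 4 * 5 * 7 by norm_num] at hpd
  rcases (Nat.Prime.dvd_mul hp).1 hpd with h | h
  · rcases (Nat.Prime.dvd_mul hp).1 h with h | h
    · rcases (Nat.Prime.dvd_mul hp).1 h with h | h
      · rw [(Nat.prime_dvd_prime_iff_eq hp Nat.prime_two).1 (hp.dvd_of_dvd_pow h)]; exact h2
      · rw [(Nat.prime_dvd_prime_iff_eq hp Nat.prime_three).1 (hp.dvd_of_dvd_pow h)]; exact h3
    · rw [(Nat.prime_dvd_prime_iff_eq hp (by norm_num)).1 h]; exact p5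
  · rw [(Nat.prime_dvd_prime_iff_eq hp (by norm_num)).1 h]; exact p7

end Cfsg.Agent.H861.PiS.Nine
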