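import Cfsg.Agent.H861.PiS.Pair
import Cfsg.Agent.H861.PiS.AltNine
import Cfsg.Agent.H543.PiBS.Gen
import Cfsg.Agent.KFacts.Th.Main

/-!
# S3876: the Thompson group, `2, 3 ∈ π` (helper861)

`C(z) = 2^{1+8}.A₉` is transitive on the noncentral involutions of its extraspecial subgroup.
-/

set_option autoImplicit false
set_option maxRecDepth 100000

namespace Cfsg.Agent.H861.PiS.ThRow

open Cfsg Subgroup
open Cfsg.Agent.H841.PiBS Cfsg.Agent.H543.PiBS
open Cfsg.Agent.Th.Base Cfsg.Agent.Th.Word Cfsg.Agent.Th.RelWords Cfsg.Agent.Th.PermTab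
  Cfsg.Agent.Th.KOracle Cfsg.Agent.Th.KPerm Cfsg.Agent.Th.NineAct Cfsg.Agent.Th.CStruct
  Cfsg.Agent.Th.COracleDef
open Cfsg.Agent.KFacts.Th.Mask Cfsg.Agent.KFacts.Th.Struct
open Cfsg.Agent.KFacts.Th

universe u

/-- the masks reached from the representatives -/
def reach : ℕ := bfs pm [[4], [5], [6], [8]] 512 [3, 504, 510, 45]
  (Nat.lor (Nat.lor (Nat.shiftLeft 1 3) (Nat.shiftLeft 1 504)) (Nat.lor (Nat.shiftLeft 1 510) (Nat.shiftLeft 1 45)))

theorem reach_check : allB 512 (fun m => or (Nat.beq m 0) (or (parK m) (bit reach m))) = true := by decide +kernel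

theorem pm_inv_check : allG (fun x => allB 512 fun m => Nat.beq (pm (invL x) (pm x m)) m) [4, 5, 6, 8] = true := by
  decide +kernel

section

variable {G : Type u} [Group G] {γ : ℕ → G} (h : Ctx γ)
include h

/-- the involutions with the mask `m` are conjugate to `γ 3` in `C(a)` -/
def Sg (γ : ℕ → G) (m : ℕ) : Prop :=
  m < 512 ∧ ∀ w ∈ Q0 γ, HM (γ 1) (cc γ) w m → w * w = 1 → ∃ c : G, c * γ 1 = γ 1 * c ∧ c * γ 3 * c⁻¹ = w

theorem sg_step {x : ℕ} (hx : x ∈ [4, 5, 6, 8]) {m : ℕ} (hm : Sg γ m) : Sg γ (pm x m) := by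
  have hx9 : x ∈ [4, 5, 6, 7, 8, 9] := by
    simp only [List.mem_cons, List.not_mem_nil, or_false] at hx ⊢
    tauto
  refine ⟨pm_lt hx9 hm.1, fun w hw hwm hw2 => ?_⟩
  have hpm : pm (invL x) (pm x m) = m := by
    have := (allB_iff _ _).mp ((allG_iff _ _).mp pm_inv_check x hx) m hm.1
    exact Nat.eq_of_beq_eq_true this
  have h1 := h.mask_letter (invL_mem hx9) hwm
  rw [hpm, h.inv x, inv_inv] at h1
  have hxC := h.letter_mem hx9
  have h2 : γ x * w * (γ x)⁻¹ ∈ Q0 γ := by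
    have := h.Q_conj (inv_mem hxC) hw
    rwa [inv_inv] at this
  obtain ⟨c, hc, hcw⟩ := hm.2 _ h2 h1 (by
    calc γ x * w * (γ x)⁻¹ * (γ x * w * (γ x)⁻¹) = γ x * (w * w) * (γ x)⁻¹ := by group
      _ = 1 := by rw [hw2]; group)
  refine ⟨(γ x)⁻¹ * c, ?_, ?_⟩
  · exact h.mem_C.mp (mul_mem (inv_mem hxC) (h.mem_C.mpr hc))
  · calc (γ x)⁻¹ * c * γ 3 * ((γ x)⁻¹ * c)⁻¹ = (γ x)⁻¹ * (c * γ 3 * c⁻¹) * γ x := by group
      _ = w := by rw [hcw]; group

theorem com {i j : Fin 9} (hij : i ≠ j) : cc γ i * cc γ j = γ 1 * (cc γ j * cc γ i) := h.data.com i j hij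

theorem c2 (i : Fin 9) : cc γ i * cc γ i = 1 := cc_sq h.inv h.K i

theorem ac (i : Fin 9) : γ 1 * cc γ i = cc γ i * γ 1 := h.Q_comm (h.cc_mem i)

/-- vacuous masks -/
theorem sg_vac {y : G} (hy : y ∈ Q0 γ) {m : ℕ} (hm : HM (γ 1) (cc γ) y m) (hy2 : y * y = γ 1) : Sg γ m := by
  refine ⟨hm.1, fun w hw hwm hw2 => ?_⟩
  exfalso
  have hya := h.Q_comm hy
  rcases eq_of_mask h.data h.cardQ hy hw hm hwm with h1 | h1
  · rw [h1, hy2] at hw2
    exact h.a1 hw2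
  · have h2 : w * w = γ 1 := by
      calc w * w = y * (γ 1 * y) * γ 1 := by rw [h1]; group
        _ = y * y * (γ 1 * γ 1) := by rw [hya]; group
        _ = γ 1 := by rw [hy2, h.aa, mul_one]
    rw [h2] at hw2
    exact h.a1 hw2

/-- masks with an involution conjugate to `γ 3` -/
theorem sg_of {y : G} (hy : y ∈ Q0 γ) {m : ℕ} (hm : HM (γ 1) (cc γ) y m) {g : G} (hg : g ∈ sub γ isC)
    (hgy : g * γ 3 * g⁻¹ = y) {q : G} (hq : q ∈ Q0 γ) (hqy : q * y = γ 1 * (y * q)) : Sg γ m := by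
  refine ⟨hm.1, fun w hw hwm hw2 => ?_⟩
  rcases eq_of_mask h.data h.cardQ hy hw hm hwm with h1 | h1
  · exact ⟨g, h.mem_C.mp hg, by rw [hgy, h1]⟩
  · refine ⟨q * g, h.mem_C.mp (mul_mem (h.Q_le hq) hg), ?_⟩
    calc q * g * γ 3 * (q * g)⁻¹ = q * (g * γ 3 * g⁻¹) * q⁻¹ := by group
      _ = γ 1 * y := by rw [hgy, hqy]; group
      _ = w := by rw [h.Q_comm hy, h1]

theorem word_mem_C {w : List ℕ} (hw : allL isC w = true) : ev γ w ∈ sub γ isC :=
  ev_mem_sub ((allL_iff _ _).mp hw)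

theorem start : Sg γ 3 ∧ Sg γ 504 ∧ Sg γ 510 ∧ Sg γ 45 := by
  have D := h.data
  have m := fun i : Fin 9 => mask_c D i
  have q := h.cc_mem
  have e01 := com h (i := 0) (j := 1) (by decide)
  have e02 := com h (i := 0) (j := 2) (by decide)
  have e12 := com h (i := 1) (j := 2) (by decide)
  have e03 := com h (i := 0) (j := 3) (by decide)
  have e05 := com h (i := 0) (j := 5) (by decide)
  have aa := h.aa
  have a0 := ac h 0
  have a1 := ac h 1
  have a2 := ac h 2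
  have a3 := ac h 3
  have a5 := ac h 5
  have s0 := c2 h 0
  have s1 := c2 h 1
  have s2 := c2 h 2
  have hy01 : cc γ 0 * cc γ 1 * (cc γ 0 * cc γ 1) = γ 1 := by
    calc cc γ 0 * cc γ 1 * (cc γ 0 * cc γ 1) = γ 1 * (cc γ 1 * cc γ 0) * (cc γ 0 * cc γ 1) := by
          conv_lhs => rw [e01]
          rw [← e01]
      _ = γ 1 * cc γ 1 * (cc γ 0 * cc γ 0) * cc γ 1 := by group
      _ = γ 1 * (cc γ 1 * cc γ 1) := by rw [s0]; group
      _ = γ 1 := by rw [s1, mul_one]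
  refine ⟨?_, ?_, ?_, ?_⟩
  · exact sg_vac h (mul_mem (q 0) (q 1)) (mul D (q 0) (m 0) (m 1)) hy01
  · have hm := mul D (mul_mem (q 0) (q 1)) (mul D (q 0) (m 0) (m 1)) (m 2)
    refine sg_vac h (y := cc γ 0 * cc γ 1 * cc γ 2) (mul_mem (mul_mem (q 0) (q 1)) (q 2)) hm ?_
    have h3 : cc γ 2 * (cc γ 0 * cc γ 1) = cc γ 0 * cc γ 1 * cc γ 2 := by
      have e20 : cc γ 2 * cc γ 0 = γ 1 * (cc γ 0 * cc γ 2) := by
        rw [e02, ← mul_assoc, aa, one_mul]
      have e21 : cc γ 2 * cc γ 1 = γ 1 * (cc γ 1 * cc γ 2) := by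
        rw [e12, ← mul_assoc, aa, one_mul]
      calc cc γ 2 * (cc γ 0 * cc γ 1) = (cc γ 2 * cc γ 0) * cc γ 1 := by group
        _ = γ 1 * cc γ 0 * (cc γ 2 * cc γ 1) := by rw [e20]; group
        _ = γ 1 * (cc γ 0 * γ 1) * (cc γ 1 * cc γ 2) := by rw [e21]; group
        _ = γ 1 * (γ 1 * cc γ 0) * (cc γ 1 * cc γ 2) := by rw [a0]
        _ = (γ 1 * γ 1) * (cc γ 0 * cc γ 1 * cc γ 2) := by group
        _ = cc γ 0 * cc γ 1 * cc γ 2 := by rw [aa, one_mul]
    calc cc γ 0 * cc γ 1 * cc γ 2 * (cc γ 0 * cc γ 1 * cc γ 2) =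
          cc γ 0 * cc γ 1 * (cc γ 2 * (cc γ 0 * cc γ 1)) * cc γ 2 := by group
      _ = (cc γ 0 * cc γ 1 * (cc γ 0 * cc γ 1)) * (cc γ 2 * cc γ 2) := by rw [h3]; group
      _ = γ 1 := by rw [hy01, s2, mul_one]
  · refine sg_of h (y := cc γ 0) (q 0) (m 0) (g := 1) (one_mem _) ?_ (q 1) ?_
    · rw [← cc_zero (γ := γ)]; group
    · rw [e01, ← mul_assoc, aa, one_mul]
  · have hF : ev γ Fuse.wF = cc γ 0 * (cc γ 2 * (cc γ 3 * cc γ 5)) := by
      unfold Fuse.wF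
      rw [ev_append, ev_append, ev_append]
      rfl
    have hm := mul D (q 0) (m 0) (mul D (q 2) (m 2) (mul D (q 3) (m 3) (m 5)))
    have hqF : cc γ 0 * (cc γ 2 * (cc γ 3 * cc γ 5)) ∈ Q0 γ :=
      mul_mem (q 0) (mul_mem (q 2) (mul_mem (q 3) (q 5)))
    refine sg_of h (y := cc γ 0 * (cc γ 2 * (cc γ 3 * cc γ 5))) hqF hm
      (g := (ev γ (rw' 7) * γ 10)⁻¹) ?_ ?_ (q 0) ?_
    · refine inv_mem (mul_mem (word_mem_C h (by decide +kernel)) ?_)
      exact Subgroup.subset_closure ⟨10, by decide, rfl⟩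
    · have hU := Cfsg.Agent.Th.COracleSound.corc_sound h.inv h.C Fuse.checkU
      have h10 : γ 11 = (γ 10)⁻¹ := h.inv 10
      have h7 : cc γ 7 = (ev γ (rw' 7))⁻¹ * γ 3 * ev γ (rw' 7) := by
        unfold cc wc
        rw [ev_append, ev_iw h.inv, ev_cons]
        group
        rfl
      have hU' : (γ 10)⁻¹ * (cc γ 7 * (γ 10 * (ev γ Fuse.wF)⁻¹)) = 1 := by
        rw [ev_cons, ev_append, ev_cons, ev_iw h.inv, h10] at hU
        exact hU
      calc (ev γ (rw' 7) * γ 10)⁻¹ * γ 3 * ((ev γ (rw' 7) * γ 10)⁻¹)⁻¹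
          = (γ 10)⁻¹ * ((ev γ (rw' 7))⁻¹ * γ 3 * ev γ (rw' 7)) * γ 10 := by group
        _ = (γ 10)⁻¹ * cc γ 7 * γ 10 := by rw [← h7]
        _ = (γ 10)⁻¹ * (cc γ 7 * (γ 10 * (ev γ Fuse.wF)⁻¹)) * ev γ Fuse.wF := by group
        _ = ev γ Fuse.wF := by rw [hU', one_mul]
        _ = _ := hF
    · have e20 : cc γ 2 * cc γ 0 = γ 1 * (cc γ 0 * cc γ 2) := by
        rw [e02, ← mul_assoc, aa, one_mul]
      have e30 : cc γ 3 * cc γ 0 = γ 1 * (cc γ 0 * cc γ 3) := by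
        rw [e03, ← mul_assoc, aa, one_mul]
      have e50 : cc γ 5 * cc γ 0 = γ 1 * (cc γ 0 * cc γ 5) := by
        rw [e05, ← mul_assoc, aa, one_mul]
      have e1 : cc γ 0 * (cc γ 2 * (cc γ 3 * cc γ 5)) * cc γ 0 = γ 1 * (cc γ 0 * (cc γ 0 * (cc γ 2 * (cc γ 3 * cc γ 5)))) := by
        calc cc γ 0 * (cc γ 2 * (cc γ 3 * cc γ 5)) * cc γ 0
            = cc γ 0 * cc γ 2 * cc γ 3 * (cc γ 5 * cc γ 0) := by group
          _ = cc γ 0 * cc γ 2 * (cc γ 3 * γ 1) * (cc γ 0 * cc γ 5) := by rw [e50]; group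
          _ = cc γ 0 * cc γ 2 * γ 1 * (cc γ 3 * cc γ 0) * cc γ 5 := by rw [← a3]; group
          _ = cc γ 0 * cc γ 2 * (γ 1 * γ 1) * (cc γ 0 * cc γ 3) * cc γ 5 := by rw [e30]; group
          _ = cc γ 0 * (cc γ 2 * cc γ 0) * cc γ 3 * cc γ 5 := by rw [aa]; group
          _ = (cc γ 0 * γ 1) * (cc γ 0 * cc γ 2) * cc γ 3 * cc γ 5 := by rw [e20]; group
          _ = (γ 1 * cc γ 0) * (cc γ 0 * cc γ 2) * cc γ 3 * cc γ 5 := by rw [a0]
          _ = _ := by group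
      rw [e1, ← mul_assoc (γ 1) (γ 1), aa, one_mul]

theorem sg_all {m : ℕ} (hm : m < 512) (hp : par m = false) (h0 : m ≠ 0) : Sg γ m := by
  have hc := (allB_iff _ _).mp reach_check m hm
  have e1 : parK m = false := by
    have := (allB_iff _ _).mp parK_check m hm
    rw [eq_of_beqB this, hp]
  rw [e1] at hc
  have h1 : bit reach m = true := by
    simp only [Bool.or_eq_true, Bool.false_eq_true, false_or] at hc
    rcases hc with hc | hc
    · exact absurd (Nat.eq_of_beq_eq_true hc) h0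
    · exact hc
  have hst := start h
  have key := bfs_spec pm (Sg γ) [[4], [5], [6], [8]] (by
    intro g hg q hq
    simp only [List.mem_cons, List.not_mem_nil, or_false] at hg
    rcases hg with rfl | rfl | rfl | rfl
    · exact sg_step h (by simp) hq
    · exact sg_step h (by simp) hq
    · exact sg_step h (by simp) hq
    · exact sg_step h (by simp) hq) 512 [3, 504, 510, 45]
      (Nat.lor (Nat.lor (Nat.shiftLeft 1 3) (Nat.shiftLeft 1 504)) (Nat.lor (Nat.shiftLeft 1 510) (Nat.shiftLeft 1 45)))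
    (by
      intro q hq
      simp only [List.mem_cons, List.not_mem_nil, or_false] at hq
      rcases hq with rfl | rfl | rfl | rfl
      · exact hst.1
      · exact hst.2.1
      · exact hst.2.2.1
      · exact hst.2.2.2)
    (by
      intro q hq
      have h2 : (((1 <<< 3) ||| (1 <<< 504)) ||| ((1 <<< 510) ||| (1 <<< 45))).testBit q = true := hq
      simp only [Nat.testBit_or, Nat.one_shiftLeft, Nat.testBit_two_pow, Bool.or_eq_true, decide_eq_true_iff] at h2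
      rcases h2 with (h2 | h2) | (h2 | h2)
      · rw [← h2]; exact hst.1
      · rw [← h2]; exact hst.2.1
      · rw [← h2]; exact hst.2.2.1
      · rw [← h2]; exact hst.2.2.2)
  refine key m ?_
  rw [← bit_eq]
  exact h1

theorem good {π : Set ℕ} (h2 : 2 ∈ π) (h3 : 3 ∈ π) : Good π G := by
  have hfin := h.fin
  obtain ⟨f, D⟩ := Main.exists_data h
  have hcc0 : cc γ 0 = γ 3 := cc_zero
  have hn := Fuse.n_a h
  refine good_of_trans h2 h3 D.large D.surj (fun c hc => (D.ker c).1 hc) (Nine.good h2 h3) ?_ ?_ (n := Fuse.nn γ) ?_ ?_ ?_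
    (Fuse.gen h)
  · intro hd
    exact (Nat.not_even_iff_odd.2 D.odd) ((even_iff_two_dvd).2 hd)
  · rw [h.cardQ]; norm_num
  · rw [hn, ← hcc0]; exact h.cc_mem 0
  · rw [hn, ← hcc0]
    intro h1
    have h6 := mask_c h.data 0
    rw [h1] at h6
    exact absurd (unique h.data h6 (mask_a h.data)) (by decide +kernel)
  · intro w hw hw2 hw1 hwz
    rw [hn]
    obtain ⟨m, hm⟩ := exists_mask h.data hw
    refine (sg_all h hm.1 (par_eq h.data hw hm) ?_).2 w hw hm hw2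
    rintro rfl
    rcases eq_of_zero h.data h.cardQ hw hm with h4 | h4
    · exact hw1 h4
    · exact hwz h4

end

/-- `Good` gives the row -/
theorem row_of_good {S : Type*} [Group S] [Finite S] {π : Set ℕ} (hg : Good π S) (h2 : 2 ∈ π) (hD : DC π S) :
    PiGrp π S := hg (DT.of_dPi hD.isDPi h2)

theorem row_Th {S : Type*} [Group S] [Finite S] (h : Cfsg.Spor.IsoTh S) {π : Set ℕ} (h2 : 2 ∈ π) (h3 : 3 ∈ π)
    (hD : DC π S) : PiGrp π S := by
  obtain ⟨e⟩ := h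
  have hfin := Main.finite
  exact row_of_good (Good.congr e (good Main.ctx h2 h3)) h2 hD

end Cfsg.Agent.H861.PiS.ThRow
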