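import Cfsg.Agent.H861.PiS.PcGood

/-!
# S3876: tools for permutation groups (helper861)
-/

set_option autoImplicit false

namespace Cfsg.Agent.H861.PiS

open Cfsg Subgroup
open Cfsg.Agent.H841.PiBS
open Cfsg.Agent.GH.Pc Cfsg.Agent.GH.Models.Proj

universe u v

/-- elements of prime order `p ≥ 5` commuting with an involution with few cycles -/
theorem comm_five {X : Type*} [DecidableEq X] [Fintype X] (z : Equiv.Perm X)
    (hF : ((Finset.univ.filter fun b => z b ≠ b).image fun b => ({b, z b} : Finset X)).card < 5)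
    (hfix : (Finset.univ.filter fun b => z b = b).card < 5) {p : ℕ} (hp : p.Prime) (h5 : 5 ≤ p) (g : Equiv.Perm X)
    (hg : g ^ p = 1) (hc : g * z = z * g) : g = 1 := by
  have hc' : ∀ a, g (z a) = z (g a) := fun a => Equiv.Perm.congr_fun hc a
  refine eq_one_of_blocks g hp h5 hg
    ((Finset.univ.filter fun b => z b ≠ b).image fun b => ({b, z b} : Finset X)) hF ?_ ?_ ?_
  · intro B hB
    rw [Finset.mem_image] at hB
    obtain ⟨b, -, rfl⟩ := hB
    exact lt_of_le_of_lt (Finset.card_insert_le _ _) (by rw [Finset.card_singleton]; norm_num)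
  · intro B hB
    rw [Finset.mem_image] at hB ⊢
    obtain ⟨b, hb, rfl⟩ := hB
    rw [Finset.mem_filter] at hb
    refine ⟨g b, ?_, ?_⟩
    · rw [Finset.mem_filter]
      refine ⟨Finset.mem_univ _, fun h => hb.2 ?_⟩
      rw [← hc'] at h
      exact g.injective h
    · rw [Finset.map_insert, Finset.map_singleton]
      show ({g b, z (g b)} : Finset X) = {g b, g (z b)}
      rw [hc']
  · refine lt_of_le_of_lt (Finset.card_le_card ?_) hfix
    intro x hx
    rw [Finset.mem_sdiff] at hx
    rw [Finset.mem_filter]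
    refine ⟨Finset.mem_univ _, ?_⟩
    by_contra hne
    apply hx.2
    rw [Finset.mem_biUnion]
    exact ⟨{x, z x}, Finset.mem_image.2 ⟨x, Finset.mem_filter.2 ⟨Finset.mem_univ _, hne⟩, rfl⟩,
      Finset.mem_insert_self _ _⟩

/-- membership in the normaliser of a finite set -/
theorem mem_norm_fin {G : Type u} [Group G] {S : Set G} (hS : S.Finite) {g : G} (h : ∀ x ∈ S, g * x * g⁻¹ ∈ S) :
    g ∈ normalizer S := by
  refine mem_norm_of h ?_
  have hinj : Set.InjOn (fun x => g * x * g⁻¹) S := fun a _ b _ he => by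
    have he' : g * a * g⁻¹ = g * b * g⁻¹ := he
    exact mul_left_cancel (mul_right_cancel he')
  have himg : (fun x => g * x * g⁻¹) '' S = S := by
    apply Set.eq_of_subset_of_ncard_le _ _ hS
    · rintro _ ⟨x, hx, rfl⟩
      exact h x hx
    · rw [hinj.ncard_image]
  intro x hx
  rw [← himg] at hx
  obtain ⟨y, hy, rfl⟩ := hx
  show g⁻¹ * (g * y * g⁻¹) * g ∈ S
  have e : g⁻¹ * (g * y * g⁻¹) * g = y := by group
  rw [e]
  exact hy

theorem mem_norm_VV {G : Type u} [Group G] {z v g : G} (h1 : g * z = z * g ∨ g * z = v * g ∨ g * z = v * z * g)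
    (h2 : g * v = z * g ∨ g * v = v * g ∨ g * v = v * z * g)
    (h3 : g * (v * z) = z * g ∨ g * (v * z) = v * g ∨ g * (v * z) = v * z * g) : g ∈ normalizer (VV z v) := by
  have hfin : (VV z v).Finite := (((Set.finite_singleton (v * z)).insert v).insert z)
  refine mem_norm_fin hfin ?_
  have key : ∀ x : G, (g * x = z * g ∨ g * x = v * g ∨ g * x = v * z * g) → g * x * g⁻¹ ∈ VV z v := by
    rintro x (h | h | h)
    · exact Or.inl (by rw [h]; group)
    · exact Or.inr (Or.inl (by rw [h]; group))
    · exact Or.inr (Or.inr (by show _ = v * z; rw [h]; group))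
  rintro x (rfl | rfl | rfl)
  · exact key _ h1
  · exact key _ h2
  · exact key _ h3

/-- the normal forms are trivial only for the zero vector -/
theorem nf_inj_of {n : ℕ} {G : Type*} [Group G] [DecidableEq G] (x : Fin n → G)
    (h : allB n (fun e => isZ e || !decide (nf x e = 1)) = true) :
    ∀ e : Fin n → Bool, nf x e = 1 → e = fun _ => false := by
  intro e he
  have h1 := allB_spec h e
  rw [Bool.or_eq_true] at h1
  rcases h1 with h1 | h1
  · exact isZ_spec h1
  · rw [decide_eq_true he] at h1
    exact absurd h1 (by decide)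

/-- the centre of the family -/
theorem cen_of {n : ℕ} {G : Type*} [Group G] [DecidableEq G] (x : Fin n → G) (z : G)
    (h : allB n (fun e => decide (nf x e = 1) || decide (nf x e = z) || !decide (∀ i, x i * nf x e = nf x e * x i)) =
      true) :
    ∀ e : Fin n → Bool, (∀ i, x i * nf x e = nf x e * x i) → nf x e ≠ 1 → nf x e = z := by
  intro e he hne
  have h1 := allB_spec h e
  rw [Bool.or_eq_true, Bool.or_eq_true] at h1
  rcases h1 with (h1 | h1) | h1
  · exact absurd (of_decide_eq_true h1) hne
  · exact of_decide_eq_true h1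
  · rw [decide_eq_true he] at h1
    exact absurd h1 (by decide)

end Cfsg.Agent.H861.PiS
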