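import Cfsg.Agent.H861.PiS.Ext
import Cfsg.Agent.QTUnique.PcCard
import Cfsg.Agent.GH.Models.Proj

/-!
# S3876: `Good` from a polycyclic Sylow 2-subgroup (helper861)
-/

set_option autoImplicit false

namespace Cfsg.Agent.H861.PiS

open Cfsg Subgroup
open Cfsg.Agent.H841.PiBS
open Cfsg.Agent.GH.Pc

universe u v

/-- the subgroup containing all `π`-subgroups above the Sylow 2-subgroup generated by `x` -/
theorem exists_H {G : Type u} [Group G] [Finite G] {n : ℕ} {P : Pres n} {x : Fin n → G} (hP : P.Ok) (hx : Sat P x)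
    (hn : ∀ e : Fin n → Bool, nf x e = 1 → e = fun _ => false) (hG : ¬ 2 ^ (n + 1) ∣ Nat.card G) {π : Set ℕ}
    (I : G → Prop) (hI : ∀ g w, I w → I (g * w * g⁻¹)) {z : G} (hIz : I z) (hz : z ∈ closure (Set.range x))
    (hcz : ∀ i, x i * z = z * x i)
    (hcen : ∀ e : Fin n → Bool, (∀ i, x i * nf x e = nf x e * x i) → I (nf x e) → nf x e = z)
    (hC : IsPiSubgroup π (centralizer ({z} : Set G))) (hd : DT π G) :
    ∃ H : Subgroup G, OddPi π H ∧ ∀ U : Subgroup G, IsPiSubgroup π U → (∀ i, x i ∈ U) → U ≤ H := by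
  obtain ⟨T, hT⟩ := Cfsg.Agent.QTUnique.PcCard.exists_sylow_eq hP hx hn hG
  have hxT : ∀ i, x i ∈ (T : Subgroup G) := fun i => by rw [hT]; exact subset_closure ⟨i, rfl⟩
  have hzT : z ∈ (T : Subgroup G) := by rw [hT]; exact hz
  have hTz : ∀ t ∈ (T : Subgroup G), t * z = z * t := by
    intro t ht
    have h1 : closure (Set.range x) ≤ centralizer ({z} : Set G) := by
      rw [closure_le]
      rintro _ ⟨i, rfl⟩
      exact mem_centralizer_singleton_iff.2 (hcz i)
    rw [hT] at ht
    exact mem_centralizer_singleton_iff.1 (h1 ht)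
  have hN : normalizer ((T : Subgroup G) : Set G) ≤ centralizer ({z} : Set G) := by
    intro g hg
    rw [mem_centralizer_singleton_iff]
    have hgi := inv_mem hg
    have h1 : g * z * g⁻¹ ∈ (T : Subgroup G) := (mem_normalizer_iff.1 hg z).1 hzT
    have h2 : ∀ i, x i * (g * z * g⁻¹) = g * z * g⁻¹ * x i := by
      intro i
      have h3 : g⁻¹ * x i * g ∈ (T : Subgroup G) := by
        have := (mem_normalizer_iff.1 hgi (x i)).1 (hxT i)
        rwa [inv_inv] at this
      have h4 := hTz _ h3
      calc x i * (g * z * g⁻¹) = g * ((g⁻¹ * x i * g) * z) * g⁻¹ := by group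
        _ = g * (z * (g⁻¹ * x i * g)) * g⁻¹ := by rw [h4]
        _ = g * z * g⁻¹ * x i := by group
    have h1' := h1
    rw [hT] at h1'
    obtain ⟨e, he⟩ := exists_nf hP hx h1'
    have h5 := hcen e (by rw [← he]; exact h2) (by rw [← he]; exact hI g z hIz)
    rw [← he] at h5
    calc g * z = g * z * g⁻¹ * g := by group
      _ = z * g := by rw [h5]
  have hNpi : IsPiSubgroup π (normalizer ((T : Subgroup G) : Set G)) := isPi_of_le hC hN
  obtain ⟨H, hH, hU⟩ := hd.exists_ge T hNpi
  refine ⟨H, hH, fun U hUp hUx => hU U hUp ?_⟩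
  rw [hT, closure_le]
  rintro _ ⟨i, rfl⟩
  exact hUx i

/-- a subgroup without elements of prime order `≥ 5` -/
theorem isPi_of_five {G : Type u} [Group G] [Finite G] {π : Set ℕ} (h2 : 2 ∈ π) (h3 : 3 ∈ π) {U : Subgroup G}
    (h : ∀ p : ℕ, p.Prime → 5 ≤ p → ∀ g ∈ U, g ^ p = 1 → g = 1) : IsPiSubgroup π U := by
  intro p hp hd
  have hpf : Fact p.Prime := ⟨hp⟩
  by_cases hp2 : p = 2
  · rwa [hp2]
  by_cases hp3 : p = 3
  · rwa [hp3]
  have hp4 : p ≠ 4 := by
    rintro rfl
    exact absurd hp (by decide)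
  have hp5 : 5 ≤ p := by
    have := hp.two_le
    omega
  exfalso
  obtain ⟨g, hg⟩ := exists_prime_orderOf_dvd_card' p hd
  have h1 : (g : G) ^ p = 1 := by
    rw [← hg]
    exact congrArg Subtype.val (pow_orderOf_eq_one g)
  have h4 := h p hp hp5 g g.2 h1
  have h5 : g = 1 := Subtype.ext h4
  rw [h5, orderOf_one] at hg
  exact hp.one_lt.ne hg

/-- an element of prime order gives a prime of `π` -/
theorem mem_pi_of {G : Type u} [Group G] [Finite G] {π : Set ℕ} {H : Subgroup G} (hH : IsPiSubgroup π H) {p : ℕ}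
    (hp : p.Prime) {g : G} (hg : g ∈ H) (hgp : g ^ p = 1) (hg1 : g ≠ 1) : p ∈ π := by
  have hpf : Fact p.Prime := ⟨hp⟩
  have h1 : orderOf g = p := orderOf_eq_prime hgp hg1
  have h2 : orderOf (⟨g, hg⟩ : H) ∣ Nat.card H := orderOf_dvd_natCard _
  rw [orderOf_mk, h1] at h2
  exact hH p hp h2

/-- `g` of prime order `p` fixes every point of an invariant set with less than `p` elements -/
theorem fix_of_small {X : Type*} (g : Equiv.Perm X) {p : ℕ} (hp : p.Prime) (hg : g ^ p = 1) (B : Finset X)
    (hB : B.card < p) (hgB : ∀ x ∈ B, g x ∈ B) : ∀ x ∈ B, g x = x := by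
  classical
  intro x hx
  by_contra hne
  have hinj : Set.InjOn (fun k : ℕ => (g ^ k) x) (Finset.range p : Set ℕ) := by
    have key : ∀ i j : ℕ, i < j → j < p → (g ^ i) x = (g ^ j) x → False := by
      intro i j hij hj he
      have h1 : (g ^ (j - i)) x = x := by
        have h2 : (g ^ i) ((g ^ (j - i)) x) = (g ^ i) x := by
          rw [← Equiv.Perm.mul_apply, ← pow_add, Nat.add_sub_cancel' hij.le, he]
        exact (g ^ i).injective h2
      have hcop : Nat.Coprime (j - i) p := by
        refine (Nat.coprime_comm.1 ((Nat.Prime.coprime_iff_not_dvd hp).2 fun hd => ?_))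
        have := Nat.le_of_dvd (by omega) hd
        omega
      have h3 : Function.IsPeriodicPt g (j - i) x := by
        show g^[j - i] x = x
        rw [Equiv.Perm.iterate_eq_pow]; exact h1
      have h4 : Function.IsPeriodicPt g p x := by
        show g^[p] x = x
        rw [Equiv.Perm.iterate_eq_pow, hg, Equiv.Perm.one_apply]
      have h5 := h3.gcd h4
      rw [hcop] at h5
      exact hne h5
    intro i hi j hj he
    rw [Finset.coe_range, Set.mem_Iio] at hi hj
    rcases lt_trichotomy i j with h | h | h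
    · exact (key i j h hj he).elim
    · exact h
    · exact (key j i h hi he.symm).elim
  have hmaps : Set.MapsTo (fun k : ℕ => (g ^ k) x) (Finset.range p : Set ℕ) (B : Set X) := by
    intro k hk
    show (g ^ k) x ∈ B
    clear hinj hne hk
    induction k with
    | zero => simpa using hx
    | succ k ih => rw [pow_succ', Equiv.Perm.mul_apply]; exact hgB _ ih
  have := Finset.card_le_card_of_injOn _ hmaps hinj
  rw [Finset.card_range] at this
  omega

/-- `g` of prime order `p ≥ 5` is trivial if it permutes a family of at most four sets of at most four points -/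
theorem eq_one_of_blocks {X : Type*} [DecidableEq X] [Fintype X] (g : Equiv.Perm X) {p : ℕ} (hp : p.Prime) (h5 : 5 ≤ p)
    (hg : g ^ p = 1) (F : Finset (Finset X)) (hF : F.card < 5) (hFB : ∀ B ∈ F, B.card < 5)
    (hgF : ∀ B ∈ F, B.map g.toEmbedding ∈ F) (hc : (Finset.univ \ F.biUnion id).card < 5) : g = 1 := by
  have hpow : ∀ k : ℕ, ∀ B : Finset X, (Equiv.finsetCongr g ^ k : Equiv.Perm (Finset X)) B =
      B.map (g ^ k : Equiv.Perm X).toEmbedding := by
    intro k
    induction k with
    | zero =>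
      intro B
      rw [pow_zero, pow_zero, Equiv.Perm.one_apply]
      ext x
      simp
      exact Iff.rfl
    | succ k ih =>
      intro B
      rw [pow_succ', Equiv.Perm.mul_apply, ih, Equiv.finsetCongr_apply, Finset.map_map, pow_succ']
      rfl
  have h1 : (Equiv.finsetCongr g ^ p : Equiv.Perm (Finset X)) = 1 := by
    ext B : 1
    rw [hpow, hg, Equiv.Perm.one_apply]
    ext x
    simp
    exact Iff.rfl
  have h2 := fix_of_small (Equiv.finsetCongr g) hp h1 F (by omega) (fun B hB => by
    rw [Equiv.finsetCongr_apply]; exact hgF B hB)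
  have h3 : ∀ B ∈ F, ∀ x ∈ B, g x = x := by
    intro B hB
    refine fix_of_small g hp hg B (by have := hFB B hB; omega) fun x hx => ?_
    have h4 := h2 B hB
    rw [Equiv.finsetCongr_apply] at h4
    rw [← h4]
    exact Finset.mem_map_of_mem _ hx
  have h4 : ∀ x ∈ Finset.univ \ F.biUnion id, g x = x := by
    refine fix_of_small g hp hg _ (by omega) fun x hx => ?_
    rw [Finset.mem_sdiff] at hx ⊢
    refine ⟨Finset.mem_univ _, fun hgx => hx.2 ?_⟩
    rw [Finset.mem_biUnion] at hgx ⊢
    obtain ⟨B, hB, hgB⟩ := hgx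
    have h5 := h3 B hB (g x) hgB
    have h6 := g.injective h5
    exact ⟨B, hB, by rw [h6] at hgB; exact hgB⟩
  ext x : 1
  rw [Equiv.Perm.one_apply]
  by_cases hx : x ∈ F.biUnion id
  · rw [Finset.mem_biUnion] at hx
    obtain ⟨B, hB, hxB⟩ := hx
    exact h3 B hB x hxB
  · exact h4 x (Finset.mem_sdiff.2 ⟨Finset.mem_univ _, hx⟩)

end Cfsg.Agent.H861.PiS
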